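import Cfsg.Agent.Lib.FT3.TopA
import Cfsg.Agent.S0494
import Cfsg.Agent.S0495
import Cfsg.Agent.Lib.SameOrder.Main

/-!
# The induction.
-/

set_option autoImplicit false
set_option linter.style.haveILetI false
set_option linter.unusedSectionVars false
set_option linter.unusedVariables false

namespace Cfsg.Agent.Lib.FT3.TopB

open Cfsg.Agent.Lib.FT3.Fpf Cfsg.Agent.Lib.FT3.Base Cfsg.Agent.Lib.FT3.Two
  Cfsg.Agent.Lib.FT3.Conc Cfsg.Agent.Lib.FT3.Mx Cfsg.Agent.Lib.FT3.TopA Cfsg.Agent.Lib.FT3.MainL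
  Cfsg.Agent.Lib.FT3.CaseN

open scoped commutatorElement

open QuotientGroup

universe u

variable {G : Type u} [Group G] [Finite G] {x : G}

/-- `Sylow` conjugation, any prime -/
lemma mem_smul_sylow' {p : ℕ} {Q : Type*} [Group Q] {P : Sylow p Q} {g y : Q} :
    y ∈ ((g • P : Sylow p Q) : Subgroup Q) ↔ g⁻¹ * y * g ∈ (P : Subgroup Q) := by
  rw [Sylow.smul_def, Sylow.pointwise_smul_def, Subgroup.mem_pointwise_smul_iff_inv_smul_mem]
  simp [MulAut.smul_def]

/-- An invariant Sylow 7-subgroup in a group of order 168. -/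
lemma exists_inv_sylow7 {Q : Type*} [Group Q] [Finite Q] (h168 : Nat.card Q = 168) {z : Q}
    (hz : z ^ 3 = 1) :
    ∃ P : Subgroup Q, P ≠ ⊥ ∧ IsPGroup 7 P ∧ ∀ p ∈ P, z * p * z⁻¹ ∈ P := by
  haveI : Fact (Nat.Prime 7) := ⟨by norm_num⟩
  haveI : Fact (Nat.Prime 3) := ⟨Nat.prime_three⟩
  obtain ⟨P₀⟩ : Nonempty (Sylow 7 Q) := inferInstance
  have h1 : Nat.card (Sylow 7 Q) % 7 = 1 := card_sylow_modEq_one 7 Q
  have h2 : Nat.card (Sylow 7 Q) ∣ 168 := by
    have h3 := P₀.card_dvd_index
    have h4 : (P₀ : Subgroup Q).index ∣ Nat.card Q := Subgroup.index_dvd_card _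
    rw [h168] at h4
    exact h3.trans h4
  have hn : ¬ 3 ∣ Nat.card (Sylow 7 Q) := by
    intro h3
    have hle : Nat.card (Sylow 7 Q) ≤ 168 := Nat.le_of_dvd (by norm_num) h2
    generalize Nat.card (Sylow 7 Q) = c at *
    interval_cases c <;> omega
  have hX : IsPGroup 3 (Subgroup.zpowers z) := by
    rw [IsPGroup.iff_card, Nat.card_zpowers]
    have hod : orderOf z ∣ 3 := orderOf_dvd_of_pow_eq_one hz
    rcases (Nat.dvd_prime Nat.prime_three).mp hod with h | h
    · exact ⟨0, by rw [h, pow_zero]⟩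
    · exact ⟨1, by rw [h, pow_one]⟩
  obtain ⟨P, hP⟩ := hX.nonempty_fixed_point_of_prime_not_dvd_card (Sylow 7 Q) hn
  refine ⟨P, P.ne_bot_of_dvd_card (by rw [h168]; norm_num), P.isPGroup', ?_⟩
  intro p hp
  have h3 : (⟨z, Subgroup.mem_zpowers z⟩ : Subgroup.zpowers z) • P = P := hP _
  have h4 : z • P = P := h3
  rw [← h4, mem_smul_sylow']
  have : z⁻¹ * (z * p * z⁻¹) * z = p := by group
  rw [this]
  exact hp

/-- **Exclusion of the third case** for a proper quotient. -/
theorem exclude_III (hsc : SC x) {E : Subgroup G} [hE : E.Normal] (hA : Act3 E x)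
    (hT : TypeIII (G ⧸ E)) (hS : HasS ((x : G) : G ⧸ E)) : E = ⊥ := by
  haveI := hT.1
  haveI : Fact (Nat.Prime 2) := ⟨Nat.prime_two⟩
  haveI : Fact (Nat.Prime 7) := ⟨by norm_num⟩
  obtain ⟨P₂, hP₂, hP₂2, hP₂i⟩ := hS
  have hcube : ((x : G) : G ⧸ E) ^ 3 = 1 := by
    rw [← QuotientGroup.mk_pow, hsc.cube]; rfl
  obtain ⟨P₇, hP₇, hP₇7, hP₇i⟩ := exists_inv_sylow7 hT.2 hcube
  have h73 : ¬ 3 ∣ Nat.card P₇ := by
    obtain ⟨k, hk⟩ := IsPGroup.iff_card.mp hP₇7
    rw [hk]
    intro h3
    have := Nat.Prime.dvd_of_dvd_pow Nat.prime_three h3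
    omega
  have hpow : ∀ (P : Subgroup (G ⧸ E)), ∀ p ∈ P, p ^ Nat.card P = 1 := by
    intro P p hp
    have h1 := pow_card_eq_one' (x := (⟨p, hp⟩ : P))
    exact congrArg Subtype.val h1
  have h₂ := (lift_exp hsc hA hP₂ (not_three_dvd_of_isP hP₂2) hP₂i).2 _ (hpow P₂)
  have h₇ := (lift_exp hsc hA hP₇ h73 hP₇i).2 _ (hpow P₇)
  rw [eq_bot_iff]
  intro n hn
  obtain ⟨k, hk⟩ := IsPGroup.iff_card.mp hP₂2
  obtain ⟨j, hj⟩ := IsPGroup.iff_card.mp hP₇7
  have h1 := h₂ n hn
  have h2 := h₇ n hn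
  rw [hk] at h1
  rw [hj] at h2
  have hco : Nat.Coprime (2 ^ k) (7 ^ j) := Nat.Coprime.pow _ _ (by norm_num)
  have h3 := pow_gcd_eq_one.mpr ⟨h1, h2⟩
  rwa [hco.gcd_eq_one, pow_one] at h3

/-- A simple group of order other than 3, 6 is not of type I. -/
lemma not_typeI_of_simple {Q : Type*} [Group Q] [Finite Q] [IsSimpleGroup Q]
    (h3 : Nat.card Q ≠ 3) (h6 : Nat.card Q ≠ 6) : ¬ TypeI Q := by
  rintro ⟨N, hN, _, _, hq⟩
  haveI := hN
  have hS6 : Nat.card (Equiv.Perm (Fin 3)) = 6 := by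
    rw [Nat.card_eq_fintype_card, Fintype.card_perm]; rfl
  have hq' : Nat.card (Q ⧸ N) = 3 ∨ Nat.card (Q ⧸ N) = 6 := by
    rcases hq with h | ⟨⟨iso⟩⟩
    · exact Or.inl h
    · exact Or.inr (by rw [Nat.card_congr iso.toEquiv, hS6])
  rcases hN.eq_bot_or_eq_top with h | h
  · subst h
    have : Nat.card (Q ⧸ (⊥ : Subgroup Q)) = Nat.card Q :=
      Nat.card_congr (QuotientGroup.quotientBot (G := Q)).toEquiv
    rw [this] at hq'
    omega
  · subst h
    have : Nat.card (Q ⧸ (⊤ : Subgroup Q)) = 1 := by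
      rw [← Subgroup.index_eq_card, Subgroup.index_top]
    rw [this] at hq'
    omega

lemma card_alt5 : Nat.card (alternatingGroup (Fin 5)) = 60 := by
  rw [nat_card_alternatingGroup]; simp [Nat.factorial]

/-- The first case for a simple group, the other cases -/
theorem conc_simple [IsSimpleGroup G] {u : G} (hsc : SC x) (hu : u * u = 1)
    (hux : u * x * u⁻¹ = x⁻¹)
    (IH : ∀ (H : Type u) [Group H] [Finite H] (z : H), Nat.card H < Nat.card G → SC z → Conc z) :
    Conc x := by
  have hnc : ∃ a b : G, a * b ≠ b * a := by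
    refine ⟨u, x, ?_⟩
    intro h
    apply hsc.ne_inv
    rw [← hux, h]; group
  obtain ⟨hc, hS⟩ := main_lemma hsc hu hux hnc IH
  rcases hc with h | h
  · obtain ⟨iso⟩ := Cfsg.Agent.S0494.result h
    refine Or.inr (Or.inl ⟨⟨⊥, inferInstance, ⟨⟨fun a b => ?_⟩⟩, ?_, ⟨QuotientGroup.quotientBot.trans iso⟩⟩, hS⟩)
    · have h1 : (a : G) = 1 := a.2
      have h2 : (b : G) = 1 := b.2
      exact Subtype.ext (by simp [h1, h2])
    · intro n hn
      have h1 : n = 1 := hn
      rw [h1, one_pow]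
  · exact Or.inr (Or.inr ⟨⟨inferInstance, h⟩, hS⟩)

/-- A nontrivial normal subgroup of order prime to 3. -/
theorem conc_normal3 (hsc : SC x)
    (IH : ∀ (H : Type u) [Group H] [Finite H] (z : H), Nat.card H < Nat.card G → SC z → Conc z)
    {E : Subgroup G} (hEn : E.Normal) (hEb : E ≠ ⊥) (hE3 : ¬ 3 ∣ Nat.card E) : Conc x := by
  haveI := hEn
  have hA : Act3 E x := hsc.act3 hE3 (fun s hs => hEn.conj_mem s hs x)
  have hcq : ∀ (N : Subgroup G) [N.Normal], E ≤ N → Nat.card (G ⧸ N) < Nat.card G := by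
    intro N _ hle
    have h1 := Subgroup.card_eq_card_quotient_mul_card_subgroup N
    have h2 : 2 ≤ Nat.card N := by
      by_contra hlt
      have h4 : Nat.card N = 1 := by
        have := Nat.card_pos (α := N)
        omega
      have h5 := Subgroup.card_eq_one.mp h4
      apply hEb
      rw [eq_bot_iff, ← h5]
      exact hle
    have h5 : 0 < Nat.card (G ⧸ N) := Nat.card_pos
    nlinarith
  rcases IH (G ⧸ E) _ (hcq E le_rfl) (hsc.quot E hA) with hI | ⟨hII, hS⟩ | ⟨hIII, hS⟩
  · exact Or.inl (lift_I hsc hE3 hI)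
  · obtain ⟨Nb, hNb, _, hexp, ⟨iso⟩⟩ := hII
    haveI := hNb
    have hN₁ : (Nb.comap (mk' E)).Normal := hNb.comap _
    haveI := hN₁
    have hNb2 : IsPGroup 2 Nb := by
      rw [isP_iff_forall]
      intro e he
      exact Tw.of_invol (by rw [← sq]; exact hexp e he)
    have hA₁ : Act3 (Nb.comap (mk' E)) x :=
      hsc.act3 (not_three_dvd_comap hE3 (not_three_dvd_of_isP hNb2))
        (fun s hs => hN₁.conj_mem s hs x)
    obtain ⟨iso₀⟩ := quot_comap_equiv E Nb
    have iso₁ := iso₀.trans iso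
    have hle : E ≤ Nb.comap (mk' E) := by
      intro e he
      show mk' E e ∈ Nb
      have : mk' E e = 1 := (QuotientGroup.eq_one_iff e).mpr he
      rw [this]; exact one_mem _
    have hC := IH _ _ (hcq _ hle) (hsc.quot _ hA₁)
    have hS₁ : HasS (((x : G) : G ⧸ Nb.comap (mk' E))) := by
      rcases hC with hI | ⟨_, h⟩ | ⟨_, h⟩
      · exfalso
        haveI : IsSimpleGroup (alternatingGroup (Fin 5)) := alternatingGroup.isSimpleGroup (by simp)
        haveI : IsSimpleGroup (G ⧸ Nb.comap (mk' E)) := iso₁.isSimpleGroup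
        have hc60 : Nat.card (G ⧸ Nb.comap (mk' E)) = 60 := by
          rw [Nat.card_congr iso₁.toEquiv, card_alt5]
        exact not_typeI_of_simple (by omega) (by omega) hI
      · exact h
      · exact h
    exact Or.inr (Or.inl ⟨lift_II hsc hN₁ hA₁ iso₁ hS₁, hasS_lift hsc hE3 hS⟩)
  · exact absurd (exclude_III hsc hA hIII hS) hEb

/-- An inverting involution. -/
lemma exists_invol (hsc : SC x) {g : G} (hg : g * x * g⁻¹ = x⁻¹) :
    ∃ u : G, u * u = 1 ∧ u * x * u⁻¹ = x⁻¹ := by
  have hc : (g * g) * x = x * (g * g) := by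
    have h1 : g * x = x⁻¹ * g := by
      calc g * x = (g * x * g⁻¹) * g := by group
        _ = x⁻¹ * g := by rw [hg]
    have h2 : g * x⁻¹ = x * g := by
      calc g * x⁻¹ = (g * x * g⁻¹)⁻¹ * g := by group
        _ = x * g := by rw [hg, inv_inv]
    calc g * g * x = g * (g * x) := by group
      _ = g * (x⁻¹ * g) := by rw [h1]
      _ = (g * x⁻¹) * g := by group
      _ = (x * g) * g := by rw [h2]
      _ = x * (g * g) := by group
  have hg3 : (g * g) ^ 3 = 1 := by
    rcases hsc.cent _ hc with h | h | h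
    · rw [h, one_pow]
    · rw [h, hsc.cube]
    · rw [h, inv_pow, hsc.cube, inv_one]
  refine ⟨g * g * g, ?_, ?_⟩
  · rw [pow_three] at hg3
    rw [← hg3]; group
  · calc g * g * g * x * (g * g * g)⁻¹ = (g * g) * (g * x * g⁻¹) * (g * g)⁻¹ := by group
      _ = (g * g) * x⁻¹ * (g * g)⁻¹ := by rw [hg]
      _ = x⁻¹ * (g * g) * (g * g)⁻¹ := by
        have : Commute (g * g) x⁻¹ := (show Commute (g * g) x from hc).inv_right
        rw [this.eq]
      _ = x⁻¹ := by group

/-- The `S₃` case. -/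
theorem s3_of_small {u : G} (hsc : SC x) (hux : u * x * u⁻¹ = x⁻¹) {E : Subgroup G} (hEn : E.Normal)
    (hxE : x ∈ E) (hE : Nat.card E = 3 ∨ Nat.card E = 6) : TypeI G := by
  have hXE : Subgroup.zpowers x ≤ E := Subgroup.zpowers_le.mpr hxE
  have hconj : ∀ g : G, g * x * g⁻¹ ∈ Subgroup.zpowers x := by
    intro g
    have hy : g * x * g⁻¹ ∈ E := hEn.conj_mem x hxE g
    rcases hE with h | h
    · have : Subgroup.zpowers x = E := by
        apply Subgroup.eq_of_le_of_card_ge hXE
        rw [h, hsc.card_zpowers]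
      rw [this]; exact hy
    · have hc : Nat.card E = 2 * Nat.card (Subgroup.zpowers x) := by rw [h, hsc.card_zpowers]
      have h1 := sq_mem_of_card hXE hc hy
      have h2 := mul_mem h1 h1
      have hsc' := hsc.conj g
      have h3 : (g * x * g⁻¹) * (g * x * g⁻¹) * ((g * x * g⁻¹) * (g * x * g⁻¹)) = g * x * g⁻¹ := by
        calc (g * x * g⁻¹) * (g * x * g⁻¹) * ((g * x * g⁻¹) * (g * x * g⁻¹))
            = ((g * x * g⁻¹) * (g * x * g⁻¹) * (g * x * g⁻¹)) * (g * x * g⁻¹) := by group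
          _ = g * x * g⁻¹ := by rw [hsc'.mul3, one_mul]
      rwa [h3] at h2
  have hidx : (Subgroup.zpowers x).index = 2 := by
    rw [Subgroup.index_eq_two_iff]
    refine ⟨u, fun b => ?_⟩
    rcases hsc.mem_zpowers (hconj b) with h | h | h
    · exfalso
      apply hsc.ne
      calc x = b⁻¹ * (b * x * b⁻¹) * b := by group
        _ = 1 := by rw [h]; group
    · have hb : b ∈ Subgroup.zpowers x := by
        rw [hsc.zpowers_mem_iff]
        apply hsc.cent
        calc b * x = (b * x * b⁻¹) * b := by group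
          _ = x * b := by rw [h]
      refine Or.inr ⟨hb, ?_⟩
      intro hbu
      have hu' : u ∈ Subgroup.zpowers x := by
        have := mul_mem (inv_mem hb) hbu
        simpa using this
      rcases hsc.mem_zpowers hu' with h1 | h1 | h1
      · rw [h1] at hux
        apply hsc.ne_inv
        rw [← hux]; group
      · rw [h1] at hux
        apply hsc.ne_inv
        rw [← hux]; group
      · rw [h1] at hux
        apply hsc.ne_inv
        rw [← hux]; group
    · refine Or.inl ⟨?_, ?_⟩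
      · rw [hsc.zpowers_mem_iff]
        apply hsc.cent
        have h1 : (b * u) * x * (b * u)⁻¹ = x := by
          calc (b * u) * x * (b * u)⁻¹ = b * (u * x * u⁻¹) * b⁻¹ := by group
            _ = b * x⁻¹ * b⁻¹ := by rw [hux]
            _ = (b * x * b⁻¹)⁻¹ := by group
            _ = x := by rw [h, inv_inv]
        calc b * u * x = ((b * u) * x * (b * u)⁻¹) * (b * u) := by group
          _ = x * (b * u) := by rw [h1]
      · intro hb
        have h1 : b * x = x * b := by
          rcases hsc.mem_zpowers hb with h2 | h2 | h2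
          · rw [h2]; group
          · rw [h2]
          · rw [h2]; group
        have h2 : b * x * b⁻¹ = x := by rw [h1]; group
        rw [h2] at h
        exact hsc.ne_inv h
  have hcard : Nat.card G = 6 := by
    have := Subgroup.card_mul_index (Subgroup.zpowers x)
    rw [hidx, hsc.card_zpowers] at this
    omega
  have hna : ∃ a b : G, a * b ≠ b * a := by
    refine ⟨u, x, ?_⟩
    intro h
    apply hsc.ne_inv
    rw [← hux, h]; group
  obtain ⟨iso⟩ := Cfsg.Agent.Lib.SameOrder.Main.iso_perm_of_card_six hcard hna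
  refine ⟨⊥, inferInstance, inferInstance, ?_, Or.inr ⟨QuotientGroup.quotientBot.trans iso⟩⟩
  rw [Subgroup.card_bot]
  exact Nat.coprime_one_left 3

/-- Frattini: a proper normal simple subgroup containing `x` cannot exist. -/
theorem simple_contra (hsc : SC x) {E : Subgroup G} (hEn : E.Normal) (hxE : x ∈ E)
    (hEt : E ≠ ⊤) [IsSimpleGroup E] (h3 : Nat.card E ≠ 3) (h6 : Nat.card E ≠ 6) : False := by
  have hsc' : SC (⟨x, hxE⟩ : E) := hsc.sub E hxE
  have hXE : ∀ g : G, g * x = x * g → g ∈ E := by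
    intro g hg
    rcases hsc.cent g hg with h | h | h
    · rw [h]; exact one_mem _
    · rw [h]; exact hxE
    · rw [h]; exact inv_mem hxE
  obtain ⟨u, hu⟩ : ∃ u : E, u * (⟨x, hxE⟩ : E) * u⁻¹ = (⟨x, hxE⟩ : E)⁻¹ := by
    by_contra hno
    push Not at hno
    exact not_typeI_of_simple h3 h6 (burnside_typeI hsc' hno)
  have hu' : (u : G) * x * (u : G)⁻¹ = x⁻¹ := congrArg Subtype.val hu
  apply hEt
  rw [eq_top_iff]
  intro g _
  have hy : g * x * g⁻¹ ∈ E := hEn.conj_mem x hxE g
  have hy3 : (⟨g * x * g⁻¹, hy⟩ : E) ^ 3 = 1 := by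
    apply Subtype.ext
    have := (hsc.conj g).cube
    simpa using this
  have hy1 : (⟨g * x * g⁻¹, hy⟩ : E) ≠ 1 := by
    intro h
    exact (hsc.conj g).ne (congrArg Subtype.val h)
  have key : ∃ e ∈ E, e * x * e⁻¹ = g * x * g⁻¹ := by
    rcases hsc'.conj_of_cube hy3 hy1 with h | h
    · obtain ⟨e, he⟩ := isConj_iff.mp h
      exact ⟨e, e.2, congrArg Subtype.val he⟩
    · obtain ⟨e, he⟩ := isConj_iff.mp h
      have he' : (e : G) * x⁻¹ * (e : G)⁻¹ = g * x * g⁻¹ := congrArg Subtype.val he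
      refine ⟨e * u, mul_mem e.2 u.2, ?_⟩
      calc (e : G) * u * x * ((e : G) * u)⁻¹ = e * ((u : G) * x * (u : G)⁻¹) * (e : G)⁻¹ := by group
        _ = g * x * g⁻¹ := by rw [hu', he']
  obtain ⟨e, heE, he⟩ := key
  have h1 : e⁻¹ * g ∈ E := by
    apply hXE
    calc e⁻¹ * g * x = e⁻¹ * (g * x * g⁻¹) * g := by group
      _ = e⁻¹ * (e * x * e⁻¹) * g := by rw [he]
      _ = x * (e⁻¹ * g) := by group
  have := mul_mem heE h1
  simpa using this

/-- The image of a normal subgroup is normal in `G`. -/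
lemma normal_map {E : Subgroup G} (hEn : E.Normal) (NE : Subgroup E) [hNE : NE.Normal]
    (h3 : ¬ 3 ∣ Nat.card NE)
    (hZ : ∀ Z : Subgroup (E ⧸ NE), Z.Normal → ¬ 3 ∣ Nat.card Z → Z = ⊥) :
    (NE.map E.subtype).Normal := by
  refine ⟨?_⟩
  rintro _ ⟨n, hn, rfl⟩ g
  let σ : E ≃* E := MulAut.conjNormal g
  set M : Subgroup E := NE.map σ.toMonoidHom with hM
  have hMn : M.Normal := hNE.map _ σ.surjective
  have hMc : Nat.card M = Nat.card NE := Subgroup.card_map_of_injective σ.injective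
  set Z : Subgroup (E ⧸ NE) := M.map (mk' NE) with hZdef
  have hZn : Z.Normal := hMn.map _ (mk'_surjective NE)
  have hZd : Nat.card Z ∣ Nat.card M := by
    have : Z = ((mk' NE).comp M.subtype).range := by
      rw [hZdef, MonoidHom.range_comp, Subgroup.range_subtype]
    rw [this]
    exact Subgroup.card_range_dvd _
  have hZ3 : ¬ 3 ∣ Nat.card Z := fun h => h3 (by rw [← hMc]; exact h.trans hZd)
  have hZb := hZ Z hZn hZ3
  have hm : σ n ∈ M := ⟨n, hn, rfl⟩
  have h1 : mk' NE (σ n) ∈ Z := ⟨_, hm, rfl⟩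
  rw [hZb] at h1
  have h2 : σ n ∈ NE := (QuotientGroup.eq_one_iff _).mp h1
  refine ⟨σ n, h2, ?_⟩
  simp [σ, MulAut.conjNormal_apply]

/-- The case of a normal subgroup of order divisible by 3. -/
theorem conc_T4 {u : G} (hsc : SC x) (hux : u * x * u⁻¹ = x⁻¹)
    (IH : ∀ (H : Type u) [Group H] [Finite H] (z : H), Nat.card H < Nat.card G → SC z → Conc z)
    (hno3 : ∀ E : Subgroup G, E.Normal → ¬ 3 ∣ Nat.card E → E = ⊥)
    {E : Subgroup G} (hEn : E.Normal) (hEb : E ≠ ⊥) (hEt : E ≠ ⊤) : Conc x := by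
  haveI : Fact (Nat.Prime 3) := ⟨Nat.prime_three⟩
  have h3 : 3 ∣ Nat.card E := by
    by_contra h
    exact hEb (hno3 E hEn h)
  have hxE : x ∈ E := by
    obtain ⟨y, hy⟩ := exists_prime_orderOf_dvd_card' (G := E) 3 h3
    have hy3 : (y : G) ^ 3 = 1 := by
      have := pow_orderOf_eq_one y
      rw [hy] at this
      exact_mod_cast congrArg Subtype.val this
    have hy1 : (y : G) ≠ 1 := by
      intro e
      have : y = 1 := Subtype.ext e
      rw [this, orderOf_one] at hy
      omega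
    rcases hsc.conj_of_cube hy3 hy1 with h | h
    · obtain ⟨g, hg⟩ := isConj_iff.mp h
      have h1 := hEn.conj_mem _ y.2 g⁻¹
      rw [← hg] at h1
      have h2 : g⁻¹ * (g * x * g⁻¹) * g⁻¹⁻¹ = x := by group
      rwa [h2] at h1
    · obtain ⟨g, hg⟩ := isConj_iff.mp h
      have h1 := hEn.conj_mem _ y.2 g⁻¹
      rw [← hg] at h1
      have h2 : g⁻¹ * (g * x⁻¹ * g⁻¹) * g⁻¹⁻¹ = x⁻¹ := by group
      rw [h2] at h1
      simpa using inv_mem h1
  have hlt : Nat.card E < Nat.card G := by
    apply lt_of_le_of_ne (Subgroup.card_le_card_group E)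
    intro h
    exact hEt (Subgroup.eq_top_of_card_eq E h)
  have hsc' : SC (⟨x, hxE⟩ : E) := hsc.sub E hxE
  have hNE_map : ∀ NE : Subgroup E, (NE.map E.subtype).Normal → ¬ 3 ∣ Nat.card NE → NE = ⊥ := by
    intro NE hn h3'
    have hc : Nat.card (NE.map E.subtype) = Nat.card NE :=
      Subgroup.card_map_of_injective E.subtype_injective
    have := hno3 _ hn (by rw [hc]; exact h3')
    rwa [Subgroup.map_eq_bot_iff_of_injective _ E.subtype_injective] at this
  rcases IH E _ hlt hsc' with hI | ⟨hII, _⟩ | ⟨hIII, _⟩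
  · -- first case
    obtain ⟨NE, hNE, _, hco, hq⟩ := hI
    haveI := hNE
    have h3NE : ¬ 3 ∣ Nat.card NE := fun h => by
      have := Nat.Coprime.eq_one_of_dvd hco.symm h
      omega
    have hAE : Act3 NE (⟨x, hxE⟩ : E) := hsc'.act3 h3NE (fun s hs => hNE.conj_mem s hs _)
    have hscq := hsc'.quot NE hAE
    have hS6 : Nat.card (Equiv.Perm (Fin 3)) = 6 := by
      rw [Nat.card_eq_fintype_card, Fintype.card_perm]; rfl
    have hq' : Nat.card (E ⧸ NE) = 3 ∨ Nat.card (E ⧸ NE) = 6 := by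
      rcases hq with h | ⟨⟨iso⟩⟩
      · exact Or.inl h
      · exact Or.inr (by rw [Nat.card_congr iso.toEquiv, hS6])
    have hb := hNE_map NE (normal_map hEn NE h3NE (by
      intro Z hZn hZ3
      have hAZ := hscq.act3 hZ3 (fun s hs => hZn.conj_mem s hs _)
      have hm := hAZ.card_mod
      have hd : Nat.card Z ∣ Nat.card (E ⧸ NE) := Subgroup.card_subgroup_dvd_card Z
      have h1 : Nat.card Z = 1 := by
        rcases hq' with h | h
        · rw [h] at hd
          have hle := Nat.le_of_dvd (by norm_num) hd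
          generalize Nat.card Z = c at *
          interval_cases c <;> omega
        · rw [h] at hd
          have hle := Nat.le_of_dvd (by norm_num) hd
          generalize Nat.card Z = c at *
          interval_cases c <;> omega
      exact Subgroup.card_eq_one.mp h1)) h3NE
    have hE' : Nat.card E = 3 ∨ Nat.card E = 6 := by
      subst hb
      have : Nat.card (E ⧸ (⊥ : Subgroup E)) = Nat.card E :=
        Nat.card_congr (QuotientGroup.quotientBot (G := E)).toEquiv
      rwa [this] at hq'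
    exact Or.inl (s3_of_small hsc hux hEn hxE hE')
  · -- second case
    exfalso
    obtain ⟨NE, hNE, _, hexp, ⟨iso⟩⟩ := hII
    haveI := hNE
    haveI : IsSimpleGroup (alternatingGroup (Fin 5)) := alternatingGroup.isSimpleGroup (by simp)
    haveI hsq : IsSimpleGroup (E ⧸ NE) := iso.isSimpleGroup
    have hNE2 : IsPGroup 2 NE := by
      rw [isP_iff_forall]
      intro e he
      exact Tw.of_invol (by rw [← sq]; exact hexp e he)
    have h3NE := not_three_dvd_of_isP hNE2
    have hb := hNE_map NE (normal_map hEn NE h3NE (by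
      intro Z hZn hZ3
      rcases hZn.eq_bot_or_eq_top with h | h
      · exact h
      · exfalso
        apply hZ3
        rw [h, Subgroup.card_top, Nat.card_congr iso.toEquiv, card_alt5]
        norm_num)) h3NE
    subst hb
    have iso' : E ≃* alternatingGroup (Fin 5) := QuotientGroup.quotientBot.symm.trans iso
    haveI : IsSimpleGroup E := iso'.isSimpleGroup
    have hc : Nat.card E = 60 := by rw [Nat.card_congr iso'.toEquiv, card_alt5]
    exact simple_contra hsc hEn hxE hEt (by omega) (by omega)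
  · -- third case
    exfalso
    obtain ⟨hs, hc⟩ := hIII
    haveI := hs
    exact simple_contra hsc hEn hxE hEt (by omega) (by omega)

/-- **The main theorem**. -/
theorem conc_all : ∀ (m : ℕ) (G : Type u) [Group G] [Finite G] (x : G), Nat.card G = m → SC x →
    Conc x := by
  intro m
  induction m using Nat.strong_induction_on with
  | _ m ih =>
    intro G _ _ x hm hsc
    have IH : ∀ (H : Type u) [Group H] [Finite H] (z : H), Nat.card H < Nat.card G → SC z → Conc z :=
      fun H _ _ z h hz => ih _ (hm ▸ h) H z rfl hz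
    by_cases hu : ∃ g : G, g * x * g⁻¹ = x⁻¹
    · obtain ⟨g, hg⟩ := hu
      obtain ⟨u, huu, hux⟩ := exists_invol hsc hg
      by_cases h3 : ∃ E : Subgroup G, E.Normal ∧ E ≠ ⊥ ∧ ¬ 3 ∣ Nat.card E
      · obtain ⟨E, hn, hb, h3⟩ := h3
        exact conc_normal3 hsc IH hn hb h3
      · have hno3 : ∀ E : Subgroup G, E.Normal → ¬ 3 ∣ Nat.card E → E = ⊥ := by
          intro E hn h3'
          by_contra hb
          exact h3 ⟨E, hn, hb, h3'⟩
        by_cases hs : IsSimpleGroup G
        · exact conc_simple hsc huu hux IH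
        · have hnt : Nontrivial G := ⟨⟨x, 1, hsc.ne⟩⟩
          have : ∃ E : Subgroup G, E.Normal ∧ E ≠ ⊥ ∧ E ≠ ⊤ := by
            by_contra hcon
            push Not at hcon
            apply hs
            refine ⟨fun {N} hN => ?_⟩
            by_cases hb : N = ⊥
            · exact Or.inl hb
            · exact Or.inr (hcon N hN hb)
          obtain ⟨E, hn, hb, ht⟩ := this
          exact conc_T4 hsc hux IH hno3 hn hb ht
    · push Not at hu
      exact Or.inl (burnside_typeI hsc hu)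

end Cfsg.Agent.Lib.FT3.TopB
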