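import Mathlib

/-!
# Groups in which every element commutes with its conjugates and without 3-torsion have class ≤ 2
-/

set_option autoImplicit false

namespace Cfsg.Agent.Lib.FT3.Engel

open scoped commutatorElement

variable {H : Type*} [Group H]

local notation "NC" x => Subgroup.normalClosure ({x} : Set H)

lemma self_mem (x : H) : x ∈ NC x := Subgroup.subset_normalClosure rfl

lemma conj_mem {x w : H} (g : H) (hw : w ∈ NC x) : g * w * g⁻¹ ∈ NC x :=
  (Subgroup.normalClosure_normal (s := ({x} : Set H))).conj_mem w hw g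

/-- In an Engel group the normal closure of an element is commutative. -/
lemma nc_comm (hE : ∀ x g : H, Commute x (g * x * g⁻¹)) (x : H) :
    ∀ a ∈ NC x, ∀ b ∈ NC x, Commute a b := by
  intro a ha b hb
  have hgen : ∀ u ∈ Group.conjugatesOfSet ({x} : Set H), ∀ v ∈ Group.conjugatesOfSet ({x} : Set H),
      Commute u v := by
    intro u hu v hv
    rw [Group.mem_conjugatesOfSet_iff] at hu hv
    obtain ⟨a', ha', hu⟩ := hu
    obtain ⟨b', hb', hv⟩ := hv
    simp only [Set.mem_singleton_iff] at ha' hb'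
    rw [ha'] at hu
    rw [hb'] at hv
    obtain ⟨g, rfl⟩ := isConj_iff.mp hu
    obtain ⟨h, rfl⟩ := isConj_iff.mp hv
    have h1 := hE x (g⁻¹ * h)
    have h2 : g * (x * ((g⁻¹ * h) * x * (g⁻¹ * h)⁻¹)) * g⁻¹ =
        g * (((g⁻¹ * h) * x * (g⁻¹ * h)⁻¹) * x) * g⁻¹ := by
      rw [h1.eq]
    change g * x * g⁻¹ * (h * x * h⁻¹) = h * x * h⁻¹ * (g * x * g⁻¹)
    calc g * x * g⁻¹ * (h * x * h⁻¹) = g * (x * ((g⁻¹ * h) * x * (g⁻¹ * h)⁻¹)) * g⁻¹ := by group
      _ = g * (((g⁻¹ * h) * x * (g⁻¹ * h)⁻¹) * x) * g⁻¹ := h2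
      _ = h * x * h⁻¹ * (g * x * g⁻¹) := by group
  have hle : Subgroup.closure (Group.conjugatesOfSet ({x} : Set H)) ≤
      Subgroup.centralizer (Subgroup.closure (Group.conjugatesOfSet ({x} : Set H)) : Set H) := by
    rw [Subgroup.closure_le]
    intro u hu
    rw [SetLike.mem_coe, Subgroup.mem_centralizer_iff]
    intro v hv
    have hv' : v ∈ Subgroup.centralizer ({u} : Set H) := by
      have : Subgroup.closure (Group.conjugatesOfSet ({x} : Set H)) ≤
          Subgroup.centralizer ({u} : Set H) := by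
        rw [Subgroup.closure_le]
        intro w hw
        rw [SetLike.mem_coe, Subgroup.mem_centralizer_iff]
        intro z hz
        rw [Set.mem_singleton_iff] at hz
        subst hz
        exact (hgen _ hu _ hw).eq
      exact this hv
    rw [Subgroup.mem_centralizer_iff] at hv'
    exact (hv' u rfl).symm
  have := hle ha
  rw [Subgroup.mem_centralizer_iff] at this
  exact (this b hb).symm

/-- The Hall--Witt identity in the form we use. -/
lemma hall_witt (x y z : H) :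
    ⁅⁅x, y⁆, y * z * y⁻¹⁆ * ⁅⁅y, z⁆, z * x * z⁻¹⁆ * ⁅⁅z, x⁆, x * y * x⁻¹⁆ = 1 := by
  simp only [commutatorElement_def]
  group

theorem class_two (hE : ∀ x g : H, Commute x (g * x * g⁻¹))
    (h3 : ∀ t : H, t ^ 3 = 1 → t = 1) (x y z : H) : ⁅⁅x, y⁆, z⁆ = 1 := by
  have hc := nc_comm hE
  -- membership facts
  have mem_left : ∀ a b : H, ⁅a, b⁆ ∈ NC a := fun a b => by
    rw [commutatorElement_def]
    have h1 := self_mem a
    have h2 := conj_mem b (inv_mem h1)
    have : a * b * a⁻¹ * b⁻¹ = a * (b * a⁻¹ * b⁻¹) := by group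
    rw [this]
    exact mul_mem h1 h2
  have mem_right : ∀ a b : H, ⁅a, b⁆ ∈ NC b := fun a b => by
    rw [commutatorElement_def]
    have h1 := self_mem b
    exact mul_mem (conj_mem a h1) (inv_mem h1)
  have sub_left : ∀ {w a : H}, (w ∈ NC a) → ∀ b : H, ⁅w, b⁆ ∈ NC a := fun {w a} hw b => by
    rw [commutatorElement_def]
    have : w * b * w⁻¹ * b⁻¹ = w * (b * w⁻¹ * b⁻¹) := by group
    rw [this]
    exact mul_mem hw (conj_mem b (inv_mem hw))
  -- swapping the first two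
  have F2 : ∀ a b c : H, ⁅⁅b, a⁆, c⁆ = ⁅⁅a, b⁆, c⁆⁻¹ := by
    intro a b c
    set d := ⁅a, b⁆ with hd
    have hba : ⁅b, a⁆ = d⁻¹ := by rw [hd, commutatorElement_inv]
    rw [hba]
    have hm : ⁅d⁻¹, c⁆ ∈ NC a := sub_left (inv_mem (mem_left a b)) c
    have hcomm : Commute d ⁅d⁻¹, c⁆ := (hc a _ hm _ (mem_left a b)).symm
    have h1 : d * ⁅d⁻¹, c⁆ * d⁻¹ = ⁅d, c⁆⁻¹ := by
      simp only [commutatorElement_def]
      group
    rw [← h1, hcomm.eq, mul_inv_cancel_right]
  -- swapping first and third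
  have F1 : ∀ a b c : H, ⁅⁅a, b⁆, c⁆ = ⁅⁅c, b⁆, a⁆⁻¹ := by
    intro a b c
    set d := ⁅a, b⁆ with hd
    set e := ⁅c, b⁆ with he
    have hprod : ⁅a * c, b⁆ = a * e * a⁻¹ * d := by
      simp only [hd, he, commutatorElement_def]
      group
    have hEng : Commute (⁅a * c, b⁆) (a * c) :=
      hc (a * c) _ (mem_left (a * c) b) _ (self_mem (a * c))
    have hda : Commute d a := hc a _ (mem_left a b) _ (self_mem a)
    have hec : Commute e c := hc c _ (mem_left c b) _ (self_mem c)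
    have key : e * d * c = c * (a * e * a⁻¹) * d := by
      have h2 := hEng.eq
      rw [hprod] at h2
      have h3' : a * (e * d * c) = a * (c * (a * e * a⁻¹) * d) := by
        calc a * (e * d * c) = a * e * a⁻¹ * (a * d) * c := by group
          _ = a * e * a⁻¹ * (d * a) * c := by rw [hda.eq]
          _ = a * e * a⁻¹ * d * (a * c) := by group
          _ = a * c * (a * e * a⁻¹ * d) := h2
          _ = a * (c * (a * e * a⁻¹) * d) := by group
      exact mul_left_cancel h3'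
    -- A = B
    have hAB : c⁻¹ * d * c * d⁻¹ = e⁻¹ * a * e * a⁻¹ := by
      have h1 : e * (c⁻¹ * d * c) = (a * e * a⁻¹) * d := by
        calc e * (c⁻¹ * d * c) = c⁻¹ * (c * e * c⁻¹) * d * c := by group
          _ = c⁻¹ * (e * c * c⁻¹) * d * c := by rw [hec.symm.eq]
          _ = c⁻¹ * (e * d * c) := by group
          _ = c⁻¹ * (c * (a * e * a⁻¹) * d) := by rw [key]
          _ = (a * e * a⁻¹) * d := by group
      calc c⁻¹ * d * c * d⁻¹ = e⁻¹ * (e * (c⁻¹ * d * c)) * d⁻¹ := by group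
        _ = e⁻¹ * ((a * e * a⁻¹) * d) * d⁻¹ := by rw [h1]
        _ = e⁻¹ * a * e * a⁻¹ := by group
    have hA : c⁻¹ * d * c * d⁻¹ = ⁅d, c⁆ := by
      have hm : c⁻¹ * d * c * d⁻¹ ∈ NC c := by
        have : c⁻¹ * d * c * d⁻¹ = c⁻¹ * (d * c * d⁻¹) := by group
        rw [this]
        exact mul_mem (inv_mem (self_mem c)) (conj_mem d (self_mem c))
      have hcomm : Commute c (c⁻¹ * d * c * d⁻¹) := (hc c _ hm _ (self_mem c)).symm
      have h1 : c * (c⁻¹ * d * c * d⁻¹) * c⁻¹ = ⁅d, c⁆ := by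
        simp only [commutatorElement_def]
        group
      rw [← h1, hcomm.eq, mul_inv_cancel_right]
    have hB : e⁻¹ * a * e * a⁻¹ = ⁅e, a⁆⁻¹ := by
      have hem : e ∈ NC c := mem_left c b
      have hm : e⁻¹ * a * e * a⁻¹ ∈ NC c := by
        have : e⁻¹ * a * e * a⁻¹ = e⁻¹ * (a * e * a⁻¹) := by group
        rw [this]
        exact mul_mem (inv_mem hem) (conj_mem a hem)
      have hcomm : Commute e (e⁻¹ * a * e * a⁻¹) := (hc c _ hm _ hem).symm
      have h1 : e * (e⁻¹ * a * e * a⁻¹) * e⁻¹ = ⁅e, a⁆⁻¹ := by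
        simp only [commutatorElement_def]
        group
      rw [← h1, hcomm.eq, mul_inv_cancel_right]
    rw [← hA, hAB, hB]
  -- cyclic invariance
  have hcyc : ∀ a b c : H, ⁅⁅a, b⁆, c⁆ = ⁅⁅b, c⁆, a⁆ := by
    intro a b c
    rw [F1 a b c, F2 c b a]
  -- conjugation
  have hT : ∀ a b c : H, ⁅⁅a, b⁆, b * c * b⁻¹⁆ = ⁅⁅a, b⁆, c⁆ := by
    intro a b c
    set d := ⁅a, b⁆ with hd
    have hdb : Commute d b := hc b _ (mem_right a b) _ (self_mem b)
    have hm : ⁅d, c⁆ ∈ NC b := sub_left (mem_right a b) c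
    have hcomm : Commute b ⁅d, c⁆ := (hc b _ hm _ (self_mem b)).symm
    have h1 : ⁅d, b * c * b⁻¹⁆ = b * ⁅d, c⁆ * b⁻¹ := by
      simp only [commutatorElement_def]
      calc d * (b * c * b⁻¹) * d⁻¹ * (b * c * b⁻¹)⁻¹
          = (d * b) * c * (d * b)⁻¹ * (b * c⁻¹ * b⁻¹) := by group
        _ = (b * d) * c * (b * d)⁻¹ * (b * c⁻¹ * b⁻¹) := by rw [hdb.eq]
        _ = b * (d * c * d⁻¹ * c⁻¹) * b⁻¹ := by group
    rw [h1, hcomm.eq, mul_inv_cancel_right]
  have hw := hall_witt x y z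
  rw [hT, hT, hT, ← hcyc x y z, ← hcyc y z x, ← hcyc x y z] at hw
  apply h3
  rw [pow_three, ← mul_assoc]
  exact hw

end Cfsg.Agent.Lib.FT3.Engel
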