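import Mathlib
import Cfsg.Agent.S0033
import Cfsg.Agent.Lib.FT3.Engel

/-!
# Fixed-point-free action of an element of order 3 on a subgroup
-/

set_option autoImplicit false

namespace Cfsg.Agent.Lib.FT3.Fpf

open scoped commutatorElement

variable {G : Type*} [Group G]

/-- `y` acts on `S` by conjugation as a fixed-point-free automorphism with `y ^ 3 = 1`. -/
structure Act3 (S : Subgroup G) (y : G) : Prop where
  cube : y ^ 3 = 1
  inv : ∀ s ∈ S, y * s * y⁻¹ ∈ S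
  fix : ∀ s ∈ S, y * s * y⁻¹ = s → s = 1

namespace Act3

variable {S : Subgroup G} {y : G}

lemma inv_eq (h : Act3 S y) : y⁻¹ = y * y := by
  have := h.cube
  rw [pow_three] at this
  exact inv_eq_of_mul_eq_one_left (by rw [← mul_assoc] at this; exact this)

lemma inv_act (h : Act3 S y) : Act3 S y⁻¹ where
  cube := by rw [inv_pow, h.cube, inv_one]
  inv s hs := by
    have e : y⁻¹ * s * y⁻¹⁻¹ = y * (y * s * y⁻¹) * y⁻¹ := by
      rw [inv_inv]
      have h1 := h.inv_eq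
      calc y⁻¹ * s * y = (y * y) * s * y := by rw [← h1]
        _ = (y * y) * s * (y⁻¹)⁻¹ := by rw [inv_inv]
        _ = (y * y) * s * (y * y)⁻¹ := by rw [h1]
        _ = y * (y * s * y⁻¹) * y⁻¹ := by group
    rw [e]
    exact h.inv _ (h.inv s hs)
  fix s hs he := by
    apply h.fix s hs
    rw [inv_inv] at he
    calc y * s * y⁻¹ = y * (y⁻¹ * s * y) * y⁻¹ := by rw [he]
      _ = s := by group

lemma mono (h : Act3 S y) {S' : Subgroup G} (hS : S' ≤ S) (hi : ∀ s ∈ S', y * s * y⁻¹ ∈ S') :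
    Act3 S' y := ⟨h.cube, hi, fun s hs => h.fix s (hS hs)⟩

lemma conj (h : Act3 S y) (g : G) :
    Act3 (S.map (MulAut.conj g).toMonoidHom) (g * y * g⁻¹) where
  cube := by
    have : (g * y * g⁻¹) ^ 3 = g * y ^ 3 * g⁻¹ := by
      simp only [pow_three]; group
    rw [this, h.cube]; group
  inv s hs := by
    obtain ⟨t, ht, rfl⟩ := Subgroup.mem_map.mp hs
    refine Subgroup.mem_map.mpr ⟨y * t * y⁻¹, h.inv t ht, ?_⟩
    simp only [MulEquiv.coe_toMonoidHom, MulAut.conj_apply]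
    group
  fix s hs he := by
    obtain ⟨t, ht, rfl⟩ := Subgroup.mem_map.mp hs
    simp only [MulEquiv.coe_toMonoidHom, MulAut.conj_apply] at he ⊢
    have h2 : y * t * y⁻¹ = t := by
      have : g * (y * t * y⁻¹) * g⁻¹ = g * t * g⁻¹ := by
        calc g * (y * t * y⁻¹) * g⁻¹ = g * y * g⁻¹ * (g * t * g⁻¹) * (g * y * g⁻¹)⁻¹ := by group
          _ = g * t * g⁻¹ := he
      exact mul_left_cancel (mul_right_cancel this)
    rw [h.fix t ht h2]
    group

variable [Finite G]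

lemma surj1 (h : Act3 S y) (t : G) (ht : t ∈ S) : ∃ s ∈ S, s⁻¹ * (y * s * y⁻¹) = t := by
  have hfin : Finite S := inferInstance
  let f : S → S := fun s => ⟨(s : G)⁻¹ * (y * s * y⁻¹), mul_mem (inv_mem s.2) (h.inv _ s.2)⟩
  have hinj : Function.Injective f := by
    intro a b hab
    have h1 : (a : G)⁻¹ * (y * a * y⁻¹) = (b : G)⁻¹ * (y * b * y⁻¹) := congrArg Subtype.val hab
    have h2 : y * ((b : G) * (a : G)⁻¹) * y⁻¹ = (b : G) * (a : G)⁻¹ := by
      have h3 : y * (a : G) * y⁻¹ = a * ((b : G)⁻¹ * (y * b * y⁻¹)) := by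
        rw [← h1]; group
      calc y * ((b : G) * (a : G)⁻¹) * y⁻¹ = (y * b * y⁻¹) * (y * (a : G) * y⁻¹)⁻¹ := by group
        _ = (y * b * y⁻¹) * (a * ((b : G)⁻¹ * (y * b * y⁻¹)))⁻¹ := by rw [h3]
        _ = (b : G) * (a : G)⁻¹ := by group
    have h4 := h.fix _ (mul_mem b.2 (inv_mem a.2)) h2
    apply Subtype.ext
    have : (b : G) = a := by
      calc (b : G) = (b : G) * (a : G)⁻¹ * a := by group
        _ = a := by rw [h4, one_mul]
    exact this.symm
  obtain ⟨s, hs⟩ := (Finite.injective_iff_surjective.mp hinj) ⟨t, ht⟩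
  exact ⟨s, s.2, congrArg Subtype.val hs⟩

lemma surj2 (h : Act3 S y) (n : G) (hn : n ∈ S) : ∃ m ∈ S, y * m * y⁻¹ * m⁻¹ = n := by
  obtain ⟨s, hs, e⟩ := h.surj1 n⁻¹ (inv_mem hn)
  refine ⟨s⁻¹, inv_mem hs, ?_⟩
  have : n = (s⁻¹ * (y * s * y⁻¹))⁻¹ := by rw [e, inv_inv]
  rw [this]
  group

lemma surj3 (h : Act3 S y) (n : G) (hn : n ∈ S) : ∃ z ∈ S, z * (y * z * y⁻¹)⁻¹ = n := by
  obtain ⟨s, hs, e⟩ := h.surj1 n hn
  refine ⟨s⁻¹, inv_mem hs, ?_⟩
  rw [← e]
  group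

/-- `t · σ t · σ² t = 1`. -/
lemma prod (h : Act3 S y) (t : G) (ht : t ∈ S) :
    t * (y * t * y⁻¹) * (y * (y * t * y⁻¹) * y⁻¹) = 1 := by
  obtain ⟨s, _, rfl⟩ := h.surj1 t ht
  have h5 : y * y * y = 1 := by rw [← pow_three', h.cube]
  set a := y * s * y⁻¹ with ha
  set b := y * a * y⁻¹ with hb
  have h4 : y * b * y⁻¹ = s := by
    have h6 : y * b * y⁻¹ = (y * y * y) * s * (y * y * y)⁻¹ := by rw [hb, ha]; group
    rw [h6, h5]; group
  have e1 : y * (s⁻¹ * a) * y⁻¹ = a⁻¹ * b := by rw [hb, ha]; group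
  have e2 : y * (a⁻¹ * b) * y⁻¹ = b⁻¹ * s := by
    have : y * (a⁻¹ * b) * y⁻¹ = (y * a * y⁻¹)⁻¹ * (y * b * y⁻¹) := by group
    rw [this, h4]
  rw [e1, e2]
  group

lemma prod' (h : Act3 S y) (t : G) (ht : t ∈ S) :
    (y * (y * t * y⁻¹) * y⁻¹) = (t * (y * t * y⁻¹))⁻¹ :=
  eq_inv_of_mul_eq_one_right (h.prod t ht)

/-- `σ t` and `σ² t` commute, hence `t` and `σ t`. -/
lemma comm (h : Act3 S y) (t : G) (ht : t ∈ S) : Commute t (y * t * y⁻¹) := by
  -- `σ t * σ² t = t⁻¹` and, applied to `t⁻¹`, `σ² t * σ t = t⁻¹`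
  have h1 := h.prod t ht
  have h2 := h.prod t⁻¹ (inv_mem ht)
  have e1 : y * t⁻¹ * y⁻¹ = (y * t * y⁻¹)⁻¹ := by group
  have e2 : y * (y * t * y⁻¹)⁻¹ * y⁻¹ = (y * (y * t * y⁻¹) * y⁻¹)⁻¹ := by
    simp only [mul_inv_rev, inv_inv, mul_assoc]
  rw [e1, e2] at h2
  set a := y * t * y⁻¹ with ha
  set b := y * a * y⁻¹ with hb
  -- h1 : t * a * b = 1, h2 : t⁻¹ * a⁻¹ * b⁻¹ = 1
  have h3 : a * b = t⁻¹ := by
    calc a * b = t⁻¹ * (t * a * b) := by group
      _ = t⁻¹ := by rw [h1, mul_one]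
  have h4 : b * a = t⁻¹ := by
    have : (t⁻¹ * a⁻¹ * b⁻¹)⁻¹ = 1 := by rw [h2, inv_one]
    have h5 : b * a * t = 1 := by
      calc b * a * t = (t⁻¹ * a⁻¹ * b⁻¹)⁻¹ := by group
        _ = 1 := this
    calc b * a = b * a * t * t⁻¹ := by group
      _ = t⁻¹ := by rw [h5, one_mul]
  -- so `a` and `b` commute: apply `σ⁻¹`
  have hab : a * b = b * a := by rw [h3, h4]
  -- a = σ t, b = σ a; conjugate by y⁻¹
  have h6 : y⁻¹ * (a * b) * y = t * a := by
    rw [hb, ha]; group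
  have h7 : y⁻¹ * (b * a) * y = a * t := by
    rw [hb, ha]; group
  change t * a = a * t
  rw [← h6, ← h7, hab]

/-- Every element of `S` commutes with all its `S`-conjugates of `σ x`. -/
lemma comm_conj_sigma (h : Act3 S y) (x g : G) (hx : x ∈ S) (hg : g ∈ S) :
    Commute x (g * (y * x * y⁻¹) * g⁻¹) := by
  obtain ⟨z, hz, rfl⟩ := h.surj3 g hg
  set w := z⁻¹ * x * z with hw
  have hwS : w ∈ S := mul_mem (mul_mem (inv_mem hz) hx) hz
  have h1 := h.comm w hwS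
  have hx' : x = z * w * z⁻¹ := by rw [hw]; group
  have e : z * (y * z * y⁻¹)⁻¹ * (y * x * y⁻¹) * (z * (y * z * y⁻¹)⁻¹)⁻¹ =
      z * (y * w * y⁻¹) * z⁻¹ := by
    rw [hw]; group
  rw [e]
  change x * (z * (y * w * y⁻¹) * z⁻¹) = (z * (y * w * y⁻¹) * z⁻¹) * x
  have h2 := h1.eq
  calc x * (z * (y * w * y⁻¹) * z⁻¹) = z * (w * (y * w * y⁻¹)) * z⁻¹ := by rw [hx']; group
    _ = z * ((y * w * y⁻¹) * w) * z⁻¹ := by rw [h2]
    _ = (z * (y * w * y⁻¹) * z⁻¹) * x := by rw [hx']; group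

/-- Every element of `S` commutes with all its `S`-conjugates. -/
lemma engel (h : Act3 S y) (x g : G) (hx : x ∈ S) (hg : g ∈ S) : Commute x (g * x * g⁻¹) := by
  have h1 := h.comm_conj_sigma x g hx hg
  have h2 := h.inv_act.comm_conj_sigma x g hx hg
  have e0 : y⁻¹ * x * y⁻¹⁻¹ = y * (y * x * y⁻¹) * y⁻¹ := by
    rw [inv_inv]
    have h1 := h.inv_eq
    calc y⁻¹ * x * y = (y * y) * x * y := by rw [← h1]
      _ = (y * y) * x * (y⁻¹)⁻¹ := by rw [inv_inv]
      _ = (y * y) * x * (y * y)⁻¹ := by rw [h1]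
      _ = y * (y * x * y⁻¹) * y⁻¹ := by group
  rw [e0] at h2
  have h3 := h1.mul_right h2
  have e : (g * (y * x * y⁻¹) * g⁻¹) * (g * (y * (y * x * y⁻¹) * y⁻¹) * g⁻¹) = g * x⁻¹ * g⁻¹ := by
    have h4 := h.prod x hx
    have h5 : (y * x * y⁻¹) * (y * (y * x * y⁻¹) * y⁻¹) = x⁻¹ := by
      calc (y * x * y⁻¹) * (y * (y * x * y⁻¹) * y⁻¹) =
          x⁻¹ * (x * (y * x * y⁻¹) * (y * (y * x * y⁻¹) * y⁻¹)) := by group
        _ = x⁻¹ := by rw [h4, mul_one]
    calc (g * (y * x * y⁻¹) * g⁻¹) * (g * (y * (y * x * y⁻¹) * y⁻¹) * g⁻¹)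
        = g * ((y * x * y⁻¹) * (y * (y * x * y⁻¹) * y⁻¹)) * g⁻¹ := by group
      _ = g * x⁻¹ * g⁻¹ := by rw [h5]
  rw [e] at h3
  have e2 : g * x⁻¹ * g⁻¹ = (g * x * g⁻¹)⁻¹ := by group
  rw [e2] at h3
  exact (Commute.inv_right_iff).mp h3

open Classical in
lemma card_mod (h : Act3 S y) : Nat.card S % 3 = 1 := by
  classical
  letI : Fintype S := Fintype.ofFinite S
  have : Fact (Nat.Prime 3) := ⟨Nat.prime_three⟩
  let f : Function.End S := fun s => ⟨y * s * y⁻¹, h.inv _ s.2⟩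
  have hf : f ^ 3 ^ 1 = 1 := by
    funext s
    apply Subtype.ext
    have h5 : y * y * y = 1 := by rw [← pow_three', h.cube]
    simp only [pow_one, pow_three]
    change y * (y * (y * (s : G) * y⁻¹) * y⁻¹) * y⁻¹ = s
    have h6 : y * (y * (y * (s : G) * y⁻¹) * y⁻¹) * y⁻¹ = (y * y * y) * s * (y * y * y)⁻¹ := by group
    rw [h6, h5]; group
  have hmod := Equiv.Perm.card_fixedPoints_modEq (f := f) (p := 3) (n := 1) hf
  have hfix : Fintype.card f.fixedPoints = 1 := by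
    rw [Fintype.card_eq_one_iff]
    refine ⟨⟨1, ?_⟩, ?_⟩
    · apply Subtype.ext
      change y * (1 : G) * y⁻¹ = 1
      group
    · rintro ⟨s, hs⟩
      apply Subtype.ext
      apply Subtype.ext
      have : y * (s : G) * y⁻¹ = s := congrArg Subtype.val hs
      exact h.fix _ s.2 this
  rw [hfix] at hmod
  rw [Nat.card_eq_fintype_card]
  exact hmod

lemma coprime (h : Act3 S y) : (Nat.card S).Coprime 3 := by
  have h1 := h.card_mod
  rw [Nat.coprime_comm, Nat.Prime.coprime_iff_not_dvd Nat.prime_three]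
  omega

lemma no3 (h : Act3 S y) (t : G) (ht : t ∈ S) (h3 : t ^ 3 = 1) : t = 1 := by
  have h1 : orderOf (⟨t, ht⟩ : S) ∣ Nat.card S := orderOf_dvd_natCard _
  have h2 : orderOf (⟨t, ht⟩ : S) ∣ 3 := by
    apply orderOf_dvd_of_pow_eq_one
    apply Subtype.ext
    simpa using h3
  have h4 := Nat.dvd_gcd h1 h2
  rw [h.coprime] at h4
  have h5 : orderOf (⟨t, ht⟩ : S) = 1 := Nat.dvd_one.mp h4
  have h6 := orderOf_eq_one_iff.mp h5
  exact congrArg Subtype.val h6

/-- Class at most two. -/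
lemma class_two (h : Act3 S y) (a b c : G) (ha : a ∈ S) (hb : b ∈ S) (hc : c ∈ S) :
    ⁅⁅a, b⁆, c⁆ = 1 := by
  have := Engel.class_two (H := S)
    (fun x g => by
      have h1 := h.engel (x : G) (g : G) x.2 g.2
      apply Subtype.ext
      exact h1.eq)
    (fun t ht => by
      apply Subtype.ext
      exact h.no3 t t.2 (by simpa using congrArg Subtype.val ht))
    ⟨a, ha⟩ ⟨b, hb⟩ ⟨c, hc⟩
  have h2 := congrArg Subtype.val this
  simpa [commutatorElement_def] using h2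

/-- Nilpotency via Thompson's theorem. -/
lemma nilpotent (h : Act3 S y) : Group.IsNilpotent S := by
  by_cases hS : S = ⊥
  · subst hS
    infer_instance
  have h5 : y * y * y = 1 := by rw [← pow_three', h.cube]
  let φ : S ≃* S :=
    { toFun := fun s => ⟨y * s * y⁻¹, h.inv _ s.2⟩
      invFun := fun s => ⟨y⁻¹ * s * y, by
        have := h.inv_act.inv _ s.2
        rwa [inv_inv] at this⟩
      left_inv := fun s => by
        apply Subtype.ext
        change y⁻¹ * (y * (s : G) * y⁻¹) * y = s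
        group
      right_inv := fun s => by
        apply Subtype.ext
        change y * (y⁻¹ * (s : G) * y) * y⁻¹ = s
        group
      map_mul' := fun a b => by
        apply Subtype.ext
        change y * ((a : G) * b) * y⁻¹ = (y * a * y⁻¹) * (y * b * y⁻¹)
        group }
  have hφ : MonoidHom.FixedPointFree (φ : S →* S) := by
    intro s hs
    apply Subtype.ext
    exact h.fix _ s.2 (congrArg Subtype.val hs)
  have hord : orderOf φ = 3 := by
    have : Fact (Nat.Prime 3) := ⟨Nat.prime_three⟩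
    apply orderOf_eq_prime
    · ext s
      change y * (y * (y * (s : G) * y⁻¹) * y⁻¹) * y⁻¹ = s
      have h6 : y * (y * (y * (s : G) * y⁻¹) * y⁻¹) * y⁻¹ = (y * y * y) * s * (y * y * y)⁻¹ := by
        group
      rw [h6, h5]; group
    · intro he
      obtain ⟨s, hs, hs1⟩ := (Subgroup.bot_or_exists_ne_one S).resolve_left hS
      apply hs1
      have : φ ⟨s, hs⟩ = ⟨s, hs⟩ := by rw [he]; rfl
      exact h.fix s hs (congrArg Subtype.val this)
  exact Cfsg.Agent.S0033.result φ hφ 3 Nat.prime_three hord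

end Act3

end Cfsg.Agent.Lib.FT3.Fpf
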