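import Mathlib
import Cfsg.Agent.Lib.FT3.Fpf

/-!
# Elements of order 3 with centralizer of order 3
-/

set_option autoImplicit false
set_option linter.style.haveILetI false
set_option linter.unusedSectionVars false

namespace Cfsg.Agent.Lib.FT3.Base

open Cfsg.Agent.Lib.FT3.Fpf

variable {G : Type*} [Group G]

/-- `x` has order `3` and `C(x) = ⟨x⟩`. -/
structure SC (x : G) : Prop where
  cube : x ^ 3 = 1
  ne : x ≠ 1
  cent : ∀ g, g * x = x * g → g = 1 ∨ g = x ∨ g = x⁻¹

namespace SC

variable {x : G}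

lemma mul3 (h : SC x) : x * x * x = 1 := by
  have := h.cube
  rwa [pow_three, ← mul_assoc] at this

lemma sq (h : SC x) : x * x = x⁻¹ := eq_inv_of_mul_eq_one_left h.mul3

lemma inv_sq (h : SC x) : x⁻¹ * x⁻¹ = x := by
  rw [← h.sq]
  calc x * x * (x * x) = (x * x * x) * x := by group
    _ = x := by rw [h.mul3, one_mul]

lemma ne_inv (h : SC x) : x ≠ x⁻¹ := by
  intro e
  apply h.ne
  have h1 : x * x = 1 := by
    calc x * x = x * x⁻¹ := by rw [← e]
      _ = 1 := by group
  have := h.mul3
  rwa [h1, one_mul] at this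

lemma orderOf_eq (h : SC x) : orderOf x = 3 :=
  orderOf_eq_prime h.cube h.ne

lemma inv_sc (h : SC x) : SC x⁻¹ where
  cube := by rw [inv_pow, h.cube, inv_one]
  ne := inv_ne_one.mpr h.ne
  cent g hg := by
    have h1 : Commute g x := by
      have : Commute g x⁻¹ := hg
      simpa using this.inv_right
    rcases h.cent g h1.eq with h2 | h2 | h2
    · exact Or.inl h2
    · exact Or.inr (Or.inr (by rw [h2, inv_inv]))
    · exact Or.inr (Or.inl h2)

lemma conj (h : SC x) (g : G) : SC (g * x * g⁻¹) where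
  cube := by
    have : (g * x * g⁻¹) ^ 3 = g * x ^ 3 * g⁻¹ := by
      simp only [pow_three]; group
    rw [this, h.cube]; group
  ne := by
    intro e
    apply h.ne
    calc x = g⁻¹ * (g * x * g⁻¹) * g := by group
      _ = 1 := by rw [e]; group
  cent k hk := by
    have h1 : (g⁻¹ * k * g) * x = x * (g⁻¹ * k * g) := by
      calc (g⁻¹ * k * g) * x = g⁻¹ * (k * (g * x * g⁻¹)) * g := by group
        _ = g⁻¹ * ((g * x * g⁻¹) * k) * g := by rw [hk]
        _ = _ := by group
    have back : k = g * (g⁻¹ * k * g) * g⁻¹ := by group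
    rcases h.cent _ h1 with h2 | h2 | h2
    · left; rw [back, h2]; group
    · right; left; rw [back, h2]
    · right; right; rw [back, h2]; group

lemma of_isConj (h : SC x) {y : G} (hy : IsConj x y) : SC y := by
  obtain ⟨g, rfl⟩ := isConj_iff.mp hy
  exact h.conj g

lemma mem_zpowers (h : SC x) {g : G} (hg : g ∈ Subgroup.zpowers x) : g = 1 ∨ g = x ∨ g = x⁻¹ := by
  apply h.cent
  obtain ⟨k, rfl⟩ := hg
  exact ((Commute.refl x).zpow_left k).eq

lemma zpowers_mem_iff (h : SC x) {g : G} : g ∈ Subgroup.zpowers x ↔ g = 1 ∨ g = x ∨ g = x⁻¹ := by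
  refine ⟨h.mem_zpowers, ?_⟩
  rintro (h1 | h1 | h1)
  · rw [h1]; exact one_mem _
  · rw [h1]; exact Subgroup.mem_zpowers x
  · rw [h1]; exact inv_mem (Subgroup.mem_zpowers x)

lemma centralizer_eq (h : SC x) : Subgroup.centralizer ({x} : Set G) = Subgroup.zpowers x := by
  ext g
  rw [Subgroup.mem_centralizer_singleton_iff, h.zpowers_mem_iff]
  constructor
  · exact h.cent g
  · rintro (h1 | h1 | h1)
    · rw [h1]; simp
    · rw [h1]
    · rw [h1]; simp

lemma card_zpowers (h : SC x) : Nat.card (Subgroup.zpowers x) = 3 := by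
  rw [Nat.card_zpowers, h.orderOf_eq]

lemma card_centralizer (h : SC x) : Nat.card (Subgroup.centralizer ({x} : Set G)) = 3 := by
  rw [h.centralizer_eq, h.card_zpowers]

/-- no nontrivial element of `C(x)` is an involution. -/
lemma invol_comm (h : SC x) {a : G} (ha : a * a = 1) (hc : a * x = x * a) : a = 1 := by
  rcases h.cent a hc with h1 | h1 | h1
  · exact h1
  · exfalso
    apply h.ne
    have := h.mul3
    rw [h1] at ha
    rwa [ha, one_mul] at this
  · exfalso
    apply h.ne
    have h2 : x * x = 1 := by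
      rw [h1, h.inv_sq] at ha
      exact absurd ha h.ne
    have := h.mul3
    rwa [h2, one_mul] at this

variable [Finite G]

lemma act3 (h : SC x) {S : Subgroup G} (hS : ¬ 3 ∣ Nat.card S) (hi : ∀ s ∈ S, x * s * x⁻¹ ∈ S) :
    Act3 S x where
  cube := h.cube
  inv := hi
  fix s hs he := by
    have hc : s * x = x * s := by
      calc s * x = (x * s * x⁻¹) * x := by rw [he]
        _ = x * s := by group
    rcases h.cent s hc with h1 | h1 | h1
    · exact h1
    · exfalso
      apply hS
      have : orderOf (⟨s, hs⟩ : S) ∣ Nat.card S := orderOf_dvd_natCard _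
      rw [Subgroup.orderOf_mk, h1, h.orderOf_eq] at this
      exact this
    · exfalso
      apply hS
      have : orderOf (⟨s, hs⟩ : S) ∣ Nat.card S := orderOf_dvd_natCard _
      rw [Subgroup.orderOf_mk, h1, orderOf_inv, h.orderOf_eq] at this
      exact this

/-- `3 ∤` the order of the subgroup once the generator is not in `S`, and conversely. -/
lemma not_mem_of_not_dvd (h : SC x) {S : Subgroup G} (hS : ¬ 3 ∣ Nat.card S) : x ∉ S := by
  intro hx
  apply hS
  have : orderOf (⟨x, hx⟩ : S) ∣ Nat.card S := orderOf_dvd_natCard _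
  rwa [Subgroup.orderOf_mk, h.orderOf_eq] at this

/-- `X` is a Sylow `3`-subgroup. -/
lemma sylow_le (h : SC x) (P : Sylow 3 G) (hx : x ∈ P) : (P : Subgroup G) ≤ Subgroup.zpowers x := by
  haveI : Fact (Nat.Prime 3) := ⟨Nat.prime_three⟩
  haveI : Finite P := inferInstance
  have hP : IsPGroup 3 P := P.isPGroup'
  by_cases hbot : (P : Subgroup G) = ⊥
  · rw [hbot]; exact bot_le
  haveI : Nontrivial P := Subgroup.nontrivial_iff_ne_bot _ |>.mpr hbot
  haveI := hP.center_nontrivial
  obtain ⟨z, hz⟩ := exists_ne (1 : Subgroup.center P)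
  have hz1 : ((z : P) : G) ≠ 1 := by
    intro e
    apply hz
    exact Subtype.ext (Subtype.ext e)
  have hzc : ∀ p : P, (z : P) * p = p * z := fun p => (Subgroup.mem_center_iff.mp z.2 p).symm
  have hzx : ((z : P) : G) * x = x * ((z : P) : G) := by
    have := congrArg Subtype.val (hzc ⟨x, hx⟩)
    exact this
  have hxc : ∀ p ∈ (P : Subgroup G), p * x = x * p := by
    intro p hp
    have h1 : ((z : P) : G) * p = p * ((z : P) : G) := congrArg Subtype.val (hzc ⟨p, hp⟩)
    rcases h.cent _ hzx with h2 | h2 | h2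
    · exact absurd h2 hz1
    · rw [h2] at h1; exact h1.symm
    · rw [h2] at h1
      have : Commute x⁻¹ p := h1
      simpa using this.inv_left.eq.symm
  intro p hp
  rw [h.zpowers_mem_iff]
  exact h.cent p (hxc p hp)

lemma exists_sylow (h : SC x) : ∃ P : Sylow 3 G, (P : Subgroup G) = Subgroup.zpowers x := by
  haveI : Fact (Nat.Prime 3) := ⟨Nat.prime_three⟩
  have hp : IsPGroup 3 (Subgroup.zpowers x) := by
    rw [IsPGroup.iff_card, h.card_zpowers]
    exact ⟨1, rfl⟩
  obtain ⟨P, hP⟩ := hp.exists_le_sylow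
  refine ⟨P, le_antisymm (h.sylow_le P ?_) hP⟩
  exact hP (Subgroup.mem_zpowers x)

lemma not_nine_dvd (h : SC x) : ¬ 9 ∣ Nat.card G := by
  haveI : Fact (Nat.Prime 3) := ⟨Nat.prime_three⟩
  intro h9
  obtain ⟨P, hP⟩ := h.exists_sylow
  have : 3 ^ 2 ∣ Nat.card P := Sylow.pow_dvd_card_of_pow_dvd_card P (by simpa using h9)
  rw [hP, h.card_zpowers] at this
  omega

/-- an element of order 3 is a conjugate of `x` or `x⁻¹`. -/
lemma conj_of_cube (h : SC x) {y : G} (hy : y ^ 3 = 1) (hy1 : y ≠ 1) :
    IsConj x y ∨ IsConj x⁻¹ y := by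
  haveI : Fact (Nat.Prime 3) := ⟨Nat.prime_three⟩
  obtain ⟨P, hP⟩ := h.exists_sylow
  have hoy : orderOf y = 3 := orderOf_eq_prime hy hy1
  have hp : IsPGroup 3 (Subgroup.zpowers y) := by
    rw [IsPGroup.iff_card, Nat.card_zpowers, hoy]
    exact ⟨1, rfl⟩
  obtain ⟨Q, hQ⟩ := hp.exists_le_sylow
  obtain ⟨g, hg⟩ := MulAction.exists_smul_eq G P Q
  have hyQ : y ∈ (Q : Subgroup G) := hQ (Subgroup.mem_zpowers y)
  rw [← hg] at hyQ
  rw [Sylow.smul_def, Sylow.pointwise_smul_def, hP] at hyQ
  obtain ⟨t, ht, rfl⟩ := (Subgroup.mem_smul_pointwise_iff_exists _ _ _).mp hyQ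
  have ht' := h.mem_zpowers ht
  rcases ht' with rfl | rfl | rfl
  · exfalso; apply hy1; simp
  · left; rw [isConj_iff]; exact ⟨g, by simp [MulAut.smul_def, MulAut.conj_apply]⟩
  · right; rw [isConj_iff]; exact ⟨g, by simp [MulAut.smul_def, MulAut.conj_apply, mul_assoc]⟩

/-- `3 ∤ |C(a)|` for an involution `a`. -/
lemma not_dvd_centralizer (h : SC x) {a : G} (ha : a * a = 1) (ha1 : a ≠ 1) :
    ¬ 3 ∣ Nat.card (Subgroup.centralizer ({a} : Set G)) := by
  intro h3
  haveI : Fact (Nat.Prime 3) := ⟨Nat.prime_three⟩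
  obtain ⟨y, hy⟩ := exists_prime_orderOf_dvd_card' (G := Subgroup.centralizer ({a} : Set G)) 3 h3
  have hy3 : (y : G) ^ 3 = 1 := by
    have := pow_orderOf_eq_one y
    rw [hy] at this
    exact_mod_cast congrArg Subtype.val this
  have hy1 : (y : G) ≠ 1 := by
    intro e
    have : y = 1 := Subtype.ext e
    rw [this, orderOf_one] at hy
    omega
  have hsc : SC (y : G) := by
    rcases h.conj_of_cube hy3 hy1 with h1 | h1
    · exact h.of_isConj h1
    · exact h.inv_sc.of_isConj h1
  have hc : a * (y : G) = y * a := by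
    have := Subgroup.mem_centralizer_singleton_iff.mp y.2
    exact this.symm
  exact ha1 (hsc.invol_comm ha hc)

/-- `SC` in a subgroup. -/
lemma sub (h : SC x) (L : Subgroup G) (hx : x ∈ L) : SC (⟨x, hx⟩ : L) where
  cube := Subtype.ext (by simpa using h.cube)
  ne := fun e => h.ne (congrArg Subtype.val e)
  cent g hg := by
    have h1 : (g : G) * x = x * g := congrArg Subtype.val hg
    rcases h.cent _ h1 with h2 | h2 | h2
    · exact Or.inl (Subtype.ext h2)
    · exact Or.inr (Or.inl (Subtype.ext h2))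
    · exact Or.inr (Or.inr (Subtype.ext h2))

/-- `SC` in a quotient by a normal subgroup on which `x` acts fixed-point-freely. -/
lemma quot (h : SC x) (N : Subgroup G) [N.Normal] (hN : Act3 N x) :
    SC ((x : G) : G ⧸ N) where
  cube := by
    rw [← QuotientGroup.mk_pow, h.cube]; rfl
  ne := by
    intro e
    have hx : x ∈ N := (QuotientGroup.eq_one_iff x).mp e
    exact h.ne (hN.fix x hx (by group))
  cent g hg := by
    obtain ⟨g, rfl⟩ := QuotientGroup.mk_surjective g
    rw [← QuotientGroup.mk_mul, ← QuotientGroup.mk_mul, QuotientGroup.eq] at hg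
    -- find `n ∈ N` with `g * n` commuting with `x`
    set e : G := g⁻¹ * (x * g * x⁻¹) with he
    have heN : e ∈ N := by
      have h1 : (g * x)⁻¹ * (x * g) ∈ N := hg
      have h2 : e = x * ((g * x)⁻¹ * (x * g)) * x⁻¹ := by
        simp only [he]; group
      rw [h2]
      exact hN.inv _ h1
    obtain ⟨n, hn, hne⟩ := hN.surj2 e⁻¹ (inv_mem heN)
    have hcomm : (g * n) * x = x * (g * n) := by
      have h3 : x * n * x⁻¹ = e⁻¹ * n := by
        rw [← hne]; group
      have h4 : x * g * x⁻¹ = g * e := by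
        simp only [he]; group
      calc (g * n) * x = g * n * x⁻¹ * x * x := by group
        _ = (g * e) * (e⁻¹ * n) * x := by group
        _ = (x * g * x⁻¹) * (x * n * x⁻¹) * x := by rw [h3, h4]
        _ = x * (g * n) := by group
    have hgn : ((g * n : G) : G ⧸ N) = (g : G ⧸ N) := by
      rw [QuotientGroup.mk_mul, (QuotientGroup.eq_one_iff n).mpr hn, mul_one]
    rcases h.cent _ hcomm with h5 | h5 | h5
    · left; rw [← hgn, h5]; rfl
    · right; left; rw [← hgn, h5]
    · right; right; rw [← hgn, h5]; rfl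

end SC

end Cfsg.Agent.Lib.FT3.Base
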