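import Cfsg.Agent.Lib.FT3.CaseN
import Cfsg.Agent.Lib.SolvStruct.Fit

/-!
# Case A: `T₀` is not normal in `T`.
-/

set_option autoImplicit false
set_option linter.style.haveILetI false
set_option linter.unusedSectionVars false
set_option linter.unusedVariables false

namespace Cfsg.Agent.Lib.FT3.CaseA

open Cfsg.Agent.Lib.FT3.Fpf Cfsg.Agent.Lib.FT3.Base Cfsg.Agent.Lib.FT3.Two
  Cfsg.Agent.Lib.FT3.Conc Cfsg.Agent.Lib.FT3.Mx Cfsg.Agent.Lib.FT3.Count Cfsg.Agent.Lib.FT3.Om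
  Cfsg.Agent.Lib.FT3.Loc Cfsg.Agent.Lib.FT3.Chars Cfsg.Agent.Lib.FT3.Numeric
  Cfsg.Agent.Lib.FT3.St Cfsg.Agent.Lib.FT3.TypeL Cfsg.Agent.Lib.FT3.CaseC
  Cfsg.Agent.Lib.FT3.CaseN

open scoped commutatorElement

universe u

variable {G : Type u} [Group G] [Finite G]

open scoped Classical

variable {x a : G} {T : Sylow 2 G} {y₀ : G} {Y : Subgroup G} {d F r f n : ℕ}

/-- A nontrivial normal subgroup of a 2-group meets `Ω₁ Z`. -/
lemma exists_om_normal {S₀ W : Subgroup G} (hS : IsPGroup 2 S₀) (hWS : W ≤ S₀)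
    (hWn : ∀ m ∈ S₀, ∀ w ∈ W, m * w * m⁻¹ ∈ W) (hW : W ≠ ⊥) : ∃ z, IsOm S₀ z ∧ z ≠ 1 ∧ z ∈ W := by
  haveI : Fact (Nat.Prime 2) := ⟨Nat.prime_two⟩
  haveI : Group.IsNilpotent S₀ := IsPGroup.isNilpotent hS
  set N : Subgroup S₀ := W.subgroupOf S₀ with hN
  haveI hNn : N.Normal := ⟨fun w hw m => hWn m m.2 w hw⟩
  have hNne : N ≠ ⊥ := by
    intro h
    apply hW
    rw [eq_bot_iff]
    intro w hw
    have : (⟨w, hWS hw⟩ : S₀) ∈ N := hw
    rw [h] at this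
    exact congrArg Subtype.val this
  have h1 := Cfsg.Agent.Lib.SolvStruct.Fit.inf_center_ne_bot N hNne
  set C : Subgroup G := (N ⊓ Subgroup.center S₀).map S₀.subtype with hC
  have hCP : IsPGroup 2 C := by
    rw [isP_iff_forall]
    rintro _ ⟨e, _, rfl⟩
    exact tw_of_mem hS e.2
  have hCne : C ≠ ⊥ := by
    intro h
    apply h1
    rw [Subgroup.map_eq_bot_iff_of_injective _ (Subgroup.subtype_injective _)] at h
    exact h
  obtain ⟨z, hz, hz1⟩ := exists_om hCP hCne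
  obtain ⟨e, he, hez⟩ := hz.1
  refine ⟨z, ⟨?_, hz.2.1, ?_⟩, hz1, ?_⟩
  · rw [← hez]; exact e.2
  · intro s hs
    have h2 := Subgroup.mem_center_iff.mp he.2 ⟨s, hs⟩
    have h3 := congrArg Subtype.val h2
    rw [← hez]
    exact h3
  · rw [← hez]; exact he.1

lemma Rb_mul {a b : G} (ha : a * a = 1) : Rb a (a * b) = Rb a b := by
  ext g
  rw [mem_Rb, mem_Rb]
  constructor
  · rintro ⟨h1, h2⟩
    refine ⟨h1, ?_⟩
    have h3 : a * (g * b) = a * (b * g) := by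
      calc a * (g * b) = (a * g) * b := by group
        _ = (g * a) * b := by rw [h1]
        _ = g * (a * b) := by group
        _ = (a * b) * g := h2
        _ = a * (b * g) := by group
    exact mul_left_cancel h3
  · rintro ⟨h1, h2⟩
    refine ⟨h1, ?_⟩
    calc g * (a * b) = (g * a) * b := by group
      _ = (a * g) * b := by rw [h1]
      _ = a * (g * b) := by group
      _ = a * (b * g) := by rw [h2]
      _ = a * b * g := by group

lemma Qb_mul {a b : G} (ha : a * a = 1) : Qb a (a * b) = Qb a b := by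
  rw [Qb, Rb_mul ha]

variable (S : St x a T y₀ Y d F r f n)

include S

/-- Exponent 2 gives `|T₀| ≤ 4`. -/
lemma le_four_of_exp (h2 : ∀ s ∈ Qb a (y₀ * a * y₀⁻¹), s * s = 1) :
    Nat.card (Qb a (y₀ * a * y₀⁻¹)) ≤ 4 := by
  have hcomm : ∀ s ∈ Qb a (y₀ * a * y₀⁻¹), IsOm (Qb a (y₀ * a * y₀⁻¹)) s := by
    intro s hs
    refine ⟨hs, h2 s hs, ?_⟩
    intro r hr
    have h3 := h2 _ (mul_mem hr hs)
    have hri : r⁻¹ = r := inv_eq_of_mul_eq_one_left (h2 r hr)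
    have hsi : s⁻¹ = s := inv_eq_of_mul_eq_one_left (h2 s hs)
    have h4 : r * s = (r * s)⁻¹ := (inv_eq_of_mul_eq_one_left h3).symm
    rw [mul_inv_rev, hri, hsi] at h4
    exact h4
  rw [← card_fin]
  calc _ ≤ ({1, a, y₀ * a * y₀⁻¹, a * (y₀ * a * y₀⁻¹)} : Finset G).card := by
        apply Finset.card_le_card
        intro s hs
        rw [mem_fin] at hs
        simp only [Finset.mem_insert, Finset.mem_singleton]
        exact S.om₀ (hcomm s hs)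
    _ ≤ 4 := Finset.card_le_four

/-- The `W` argument. -/
lemma exp_two {A : Subgroup G}
    (hA1 : ∀ m ∈ Qb a (y₀ * a * y₀⁻¹), ∀ s ∈ A, m * s * m⁻¹ ∈ A)
    (hA2 : ∀ m ∈ Qb a (y₀ * a * y₀⁻¹), m * m ∈ A)
    (hA3 : y₀ * a * y₀⁻¹ ∉ A) : ∀ s ∈ Qb a (y₀ * a * y₀⁻¹), s * s = 1 := by
  have hd := S.d₀
  have hAct := hd.Qact
  set T₀ := Qb a (y₀ * a * y₀⁻¹) with hT₀
  set b₀ := y₀ * a * y₀⁻¹ with hb₀
  have hyi : ∀ s ∈ T₀, y₀⁻¹ * s * y₀ ∈ T₀ := fun s hs => by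
    have := hAct.inv_act.inv s hs
    rwa [inv_inv] at this
  set W : Subgroup G := T₀ ⊓ A ⊓ A.map (MulAut.conj y₀).toMonoidHom ⊓
    A.map (MulAut.conj y₀⁻¹).toMonoidHom with hW
  have hmem : ∀ s, s ∈ W ↔ s ∈ T₀ ∧ s ∈ A ∧ y₀⁻¹ * s * y₀ ∈ A ∧ y₀ * s * y₀⁻¹ ∈ A := by
    intro s
    rw [hW, Subgroup.mem_inf, Subgroup.mem_inf, Subgroup.mem_inf, mem_map_conj, mem_map_conj,
      inv_inv]
    tauto
  have hWy : ∀ s ∈ W, y₀ * s * y₀⁻¹ ∈ W := by
    intro s hs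
    obtain ⟨h1, h2, h3, h4⟩ := (hmem s).mp hs
    rw [hmem]
    refine ⟨hAct.inv s h1, h4, ?_, ?_⟩
    · have : y₀⁻¹ * (y₀ * s * y₀⁻¹) * y₀ = s := by group
      rw [this]; exact h2
    · have : y₀ * (y₀ * s * y₀⁻¹) * y₀⁻¹ = y₀⁻¹ * s * y₀ := by
        have hi : y₀⁻¹ = y₀ * y₀ := hAct.inv_eq
        have e : y₀⁻¹⁻¹ = y₀ := inv_inv y₀
        calc y₀ * (y₀ * s * y₀⁻¹) * y₀⁻¹ = (y₀ * y₀) * s * (y₀ * y₀)⁻¹ := by group
          _ = y₀⁻¹ * s * y₀⁻¹⁻¹ := by rw [← hi]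
          _ = y₀⁻¹ * s * y₀ := by rw [e]
      rw [this]; exact h3
  have hWn : ∀ m ∈ T₀, ∀ w ∈ W, m * w * m⁻¹ ∈ W := by
    intro m hm w hw
    obtain ⟨h1, h2, h3, h4⟩ := (hmem w).mp hw
    rw [hmem]
    refine ⟨mul_mem (mul_mem hm h1) (inv_mem hm), hA1 m hm w h2, ?_, ?_⟩
    · have : y₀⁻¹ * (m * w * m⁻¹) * y₀ = (y₀⁻¹ * m * y₀) * (y₀⁻¹ * w * y₀) * (y₀⁻¹ * m * y₀)⁻¹ := by
        group
      rw [this]
      exact hA1 _ (hyi m hm) _ h3
    · have : y₀ * (m * w * m⁻¹) * y₀⁻¹ = (y₀ * m * y₀⁻¹) * (y₀ * w * y₀⁻¹) * (y₀ * m * y₀⁻¹)⁻¹ := by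
        group
      rw [this]
      exact hA1 _ (hAct.inv m hm) _ h4
  have hWT : W ≤ T₀ := fun s hs => ((hmem s).mp hs).1
  have hWbot : W = ⊥ := by
    by_contra hne
    obtain ⟨z, hz, hz1, hzW⟩ := exists_om_normal hd.Qtwo hWT hWn hne
    rcases S.om₀ hz with h | h | h | h
    · exact hz1 h
    · apply hA3
      rw [h] at hzW
      exact ((hmem _).mp (hWy a hzW)).2.1
    · apply hA3
      rw [h] at hzW
      exact ((hmem _).mp hzW).2.1
    · apply hA3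
      rw [h] at hzW
      have h5 := ((hmem _).mp hzW).2.2.1
      rw [hd.rel] at h5
      have : y₀⁻¹ * (y₀ * b₀ * y₀⁻¹) * y₀ = b₀ := by group
      rwa [this] at h5
  intro s hs
  have h1 : s * s ∈ W := by
    rw [hmem]
    refine ⟨mul_mem hs hs, hA2 s hs, ?_, ?_⟩
    · have : y₀⁻¹ * (s * s) * y₀ = (y₀⁻¹ * s * y₀) * (y₀⁻¹ * s * y₀) := by group
      rw [this]
      exact hA2 _ (hyi s hs)
    · have : y₀ * (s * s) * y₀⁻¹ = (y₀ * s * y₀⁻¹) * (y₀ * s * y₀⁻¹) := by group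
      rw [this]
      exact hA2 _ (hAct.inv s hs)
  rw [hWbot] at h1
  exact h1

/-- **Case A is impossible.** -/
theorem caseA (hT₀ : Qb a (y₀ * a * y₀⁻¹) ≠ (T : Subgroup G))
    (hN : ¬ ∀ t ∈ (T : Subgroup G), NS (Qb a (y₀ * a * y₀⁻¹)) t) : False := by
  haveI : Fact (Nat.Prime 2) := ⟨Nat.prime_two⟩
  obtain ⟨t, htN, htt, hty, hall⟩ := t_exists S hT₀
  have hd := S.d₀
  set b₀ := y₀ * a * y₀⁻¹ with hb₀
  set T₀ := Qb a b₀ with hT₀def
  set T₁ : Subgroup G := (T : Subgroup G) ⊓ Subgroup.normalizer (T₀ : Set G) with hT₁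
  have hT₀T₁ : T₀ ≤ T₁ := le_inf S.hle Subgroup.le_normalizer
  obtain ⟨m, hmT, hmT₀, hmN⟩ := exists_normalizer_elt T.isPGroup' S.hle hT₀
  have hc1 : Nat.card T₁ = 2 * Nat.card T₀ := by
    apply card_two_of_coset hT₀T₁ ⟨hmT, mem_normalizer_of_conj hmN⟩ hmT₀
    intro m₁ h1 h3 m₂ h2 h4
    have hNS : ∀ {e}, e ∈ T₁ → NS T₀ e := fun {e} he s hs =>
      (Subgroup.mem_normalizer_iff.mp he.2 s).mp hs
    exact coset_T S hT₀ hall h1.1 h2.1 (hNS h1) (hNS h2) h3 h4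
  have hT₁ne : T₁ ≠ (T : Subgroup G) := by
    intro h
    apply hN
    intro t ht s hs
    rw [← h] at ht
    exact (Subgroup.mem_normalizer_iff.mp ht.2 s).mp hs
  obtain ⟨ys, hysT, hysT₁, hysN⟩ := exists_normalizer_elt T.isPGroup' (inf_le_left : T₁ ≤ _) hT₁ne
  have hysC : ys ∈ Cn a := S.hTa hysT
  obtain ⟨hy', hy'b⟩ := Y_conj S S.hy₀ hysC
  set y' := ys * y₀ * ys⁻¹ with hy'def
  have hd' := yData S.sc S.ha S.ha1 hy'
  have hs' : Nat.card (Qb a (y' * a * y'⁻¹)) = Nat.card T₀ := by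
    rw [hy'b, card_Qb_conj hysC]
  have hQ' : Qb a (y' * a * y'⁻¹) = T₀.map (MulAut.conj ys).toMonoidHom := by
    rw [hy'b, Qb_conj hysC]
  set b' := y' * a * y'⁻¹ with hb'
  set A := Qb a b' with hA
  have hAT₁ : A ≤ T₁ := by
    rw [hQ']
    rintro _ ⟨s, hs, rfl⟩
    have : (MulAut.conj ys).toMonoidHom s = ys * s * ys⁻¹ := by simp [MulAut.conj_apply]
    rw [this]
    exact hysN s (hT₀T₁ hs)
  have hc2 : Nat.card T₁ = 2 * Nat.card A := by rw [hc1, hs']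
  have hA1 : ∀ m ∈ T₀, ∀ s ∈ A, m * s * m⁻¹ ∈ A := fun m hm s hs =>
    conj_mem_of_card hAT₁ hc2 (hT₀T₁ hm) hs
  have hA2 : ∀ m ∈ T₀, m * m ∈ A := fun m hm => sq_mem_of_card hAT₁ hc2 (hT₀T₁ hm)
  have hne : A ≠ T₀ := by
    intro h
    apply hysT₁
    refine ⟨hysT, mem_normalizer_of_conj ?_⟩
    intro s hs
    rw [← h, hQ']
    exact ⟨s, hs, by simp [MulAut.conj_apply]⟩
  have hb'T : b' ∈ (T : Subgroup G) := (hAT₁ hd'.b_om.1).1
  have haOm := YData.a_om S.ha hd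
  have hle4 : Nat.card T₀ ≤ 4 := by
    by_cases hcomm : b₀ * b' = b' * b₀
    · exfalso
      have hb'T₀ : b' ∈ T₀ := S.T_comm_Q hb'T hcomm.symm
      have hc3 := central_of_comm_mem' hd.Qact haOm.1 S.ha1 S.ha
        (fun s hs => commute_of_om haOm hs) hd.rel hb'T₀ (fun s hs =>
          comm_b_cases S hd'.bb hd'.comm
            (conj_b_cases S hy' hs' (fun w hw => hA1 s hs w hw) (S.hTc s (S.hle hs))))
      have hOm : IsOm T₀ b' := by
        refine ⟨hb'T₀, hd'.bb, ?_⟩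
        intro s hs
        exact (commutatorElement_eq_one_iff_commute.mp (hc3 s hs)).eq.symm
      rcases S.om₀ hOm with h | h | h | h
      · exact hd'.b1 h
      · exact hd'.ba h
      · apply hne
        rw [hA, hT₀def, h]
      · apply hne
        rw [hA, hT₀def, h, Qb_mul S.ha]
    · apply le_four_of_exp S
      apply exp_two S hA1 hA2
      intro h
      apply hcomm
      exact (hd'.b_om.2.2 _ h)
  have h4 := four_le_s₀ S
  have h4' : Nat.card T₀ = 4 := le_antisymm hle4 h4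
  set q := Nat.card (T : Subgroup G) with hq
  have hq16 : 16 ≤ q := by
    obtain ⟨c, hc⟩ := Subgroup.card_dvd_of_le (inf_le_left : T₁ ≤ (T : Subgroup G))
    have hc0 : c ≠ 0 := by
      rintro rfl
      have : 0 < q := Nat.card_pos
      omega
    have hc1' : c ≠ 1 := by
      rintro rfl
      apply hT₁ne
      apply Subgroup.eq_of_le_of_card_ge inf_le_left
      omega
    have hc2' : 2 ≤ c := by omega
    have hqc : q = Nat.card T₁ * c := hc
    rw [hqc, hc1, h4']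
    nlinarith
  obtain ⟨E, hE⟩ : 4 ∣ q := by
    rw [← h4']
    exact Subgroup.card_dvd_of_le S.hle
  have hcount := S.count E ∅ (by
    intro y hy _ _
    have := S.hmax y hy
    rw [← hb₀, ← hT₀def, h4'] at this
    show _ ≤ q
    rw [hE, mul_comm 4]
    exact Nat.mul_le_mul_left E this)
  simp only [Finset.card_empty, mul_zero, add_zero] at hcount
  set B := ((Bset x a).filter (fun b => ¬ ∃ b₀ ∈ (∅ : Finset G), ∃ g ∈ Cn a, g * b₀ * g⁻¹ = b)).filter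
    (· ∈ (T : Subgroup G)) with hB
  have hBlt : B.card + 1 ≤ q := by
    rw [hq, ← card_fin]
    have hnot : (1 : G) ∉ B := by
      intro h
      exact S.Bset_ne_one (Finset.mem_filter.mp (Finset.mem_filter.mp h).1).1 rfl
    rw [← Finset.card_insert_of_notMem hnot]
    apply Finset.card_le_card
    intro s hs
    rw [mem_fin]
    rw [Finset.mem_insert] at hs
    rcases hs with rfl | hs
    · exact one_mem _
    · exact (Finset.mem_filter.mp hs).2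
  have hf : f ≤ 3 := by
    by_contra hf
    have h5 : 4 ≤ f := by omega
    have h6 : E * 4 ≤ E * f := Nat.mul_le_mul_left E h5
    omega
  exact finish_A S.N S.f4 S.q_le hq16 hf

end Cfsg.Agent.Lib.FT3.CaseA
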