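import Cfsg.Agent.Lib.FT3.TypeL

/-!
# The case where `Q(b₀)` is a Sylow 2-subgroup of `G`.
-/

set_option autoImplicit false
set_option linter.style.haveILetI false
set_option linter.unusedSectionVars false
set_option linter.unusedVariables false

namespace Cfsg.Agent.Lib.FT3.CaseC

open Cfsg.Agent.Lib.FT3.Fpf Cfsg.Agent.Lib.FT3.Base Cfsg.Agent.Lib.FT3.Two
  Cfsg.Agent.Lib.FT3.Conc Cfsg.Agent.Lib.FT3.Mx Cfsg.Agent.Lib.FT3.Count Cfsg.Agent.Lib.FT3.Om
  Cfsg.Agent.Lib.FT3.Loc Cfsg.Agent.Lib.FT3.Chars Cfsg.Agent.Lib.FT3.Numeric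
  Cfsg.Agent.Lib.FT3.St Cfsg.Agent.Lib.FT3.TypeL

open scoped commutatorElement

universe u

variable {G : Type u} [Group G] [Finite G]

open scoped Classical

variable {x a : G} {T : Sylow 2 G} {y₀ : G} {Y : Subgroup G} {d F r f n : ℕ}

/-- The four elements `1, a, b, ab`. -/
lemma four_card {a b : G} (ha : a * a = 1) (ha1 : a ≠ 1) (hb1 : b ≠ 1) (hbb : b * b = 1) (hab : b ≠ a) :
    ({1, a, b, a * b} : Finset G).card = 4 := by
  have h1 : (1 : G) ≠ a := ha1.symm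
  have h2 : (1 : G) ≠ b := hb1.symm
  have h3 : (1 : G) ≠ a * b := by
    intro h
    apply hab
    have : b = a⁻¹ := eq_inv_of_mul_eq_one_right h.symm
    rw [this]; exact inv_eq_of_mul_eq_one_left ha
  have h4 : a ≠ b := hab.symm
  have h5 : a ≠ a * b := fun h => hb1 (by simpa using h)
  have h6 : b ≠ a * b := by
    intro h
    apply ha1
    have : 1 * b = a * b := by rwa [one_mul]
    exact (mul_right_cancel this).symm
  rw [Finset.card_insert_of_notMem, Finset.card_insert_of_notMem, Finset.card_insert_of_notMem,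
    Finset.card_singleton]
  · simp [h6]
  · simp [h4, h5]
  · simp [h1, h2, h3]

variable (S : St x a T y₀ Y d F r f n)
  (hT₀ : Qb a (y₀ * a * y₀⁻¹) = (T : Subgroup G))

include S hT₀

/-- `b₀`, `ab₀` -/
lemma ex_of_card {y : G} (hy : y ∈ Yset x a)
    (hs : Nat.card (Qb a (y * a * y⁻¹)) = Nat.card (Qb a (y₀ * a * y₀⁻¹))) :
    ∃ b₁ ∈ ({y₀ * a * y₀⁻¹, a * (y₀ * a * y₀⁻¹)} : Finset G), ∃ g ∈ Cn a, g * b₁ * g⁻¹ = y * a * y⁻¹ := by
  set b := y * a * y⁻¹ with hb
  have hbB : b ∈ Bset x a := mem_Bset.mpr ⟨y, mem_Yset.mp hy, rfl⟩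
  obtain ⟨k, hk, hks⟩ := S.rep hbB
  set b'' := k * b * k⁻¹ with hb''
  have hbB'' : b'' ∈ Bset x a := Bset_conj hk hbB
  have hQ : Qb a b'' = (T : Subgroup G) := by
    apply Subgroup.eq_of_le_of_card_ge hks
    rw [card_Qb_conj hk, hs, hT₀]
  have hb''T : b'' ∈ (T : Subgroup G) := by
    rw [← hQ]; exact S.b_mem_Q hbB''
  have hom : IsOm (Qb a (y₀ * a * y₀⁻¹)) b'' := by
    rw [hT₀]
    refine ⟨hb''T, S.Bset_sq hbB'', ?_⟩
    intro t ht
    rw [← hQ] at ht
    exact (mem_Rb.mp (Qof_le _ ht)).2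
  rcases S.om₀ hom with h | h | h | h
  · exact absurd h (S.Bset_ne_one hbB'')
  · exact absurd h (S.Bset_ne_a hbB'')
  · refine ⟨y₀ * a * y₀⁻¹, by simp, k⁻¹, inv_mem hk, ?_⟩
    rw [← h, hb'']; group
  · refine ⟨a * (y₀ * a * y₀⁻¹), by simp, k⁻¹, inv_mem hk, ?_⟩
    rw [← h, hb'']; group

lemma four_f_le :
    4 * f ≤ (((Bset x a).filter (fun b => ¬ ∃ b₀ ∈ ({y₀ * a * y₀⁻¹, a * (y₀ * a * y₀⁻¹)} : Finset G),
      ∃ g ∈ Cn a, g * b₀ * g⁻¹ = b)).filter (· ∈ (T : Subgroup G))).card + 8 := by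
  have h := S.count 4 ({y₀ * a * y₀⁻¹, a * (y₀ * a * y₀⁻¹)} : Finset G) (by
    intro y hy hnot hbT
    by_cases hs : Nat.card (Qb a (y * a * y⁻¹)) = Nat.card (Qb a (y₀ * a * y₀⁻¹))
    · exact absurd (ex_of_card S hT₀ hy hs) hnot
    · have := S.s_lt hy hs
      rw [hT₀] at this
      exact this)
  have hc : ({y₀ * a * y₀⁻¹, a * (y₀ * a * y₀⁻¹)} : Finset G).card ≤ 2 := Finset.card_le_two
  have : 4 * ({y₀ * a * y₀⁻¹, a * (y₀ * a * y₀⁻¹)} : Finset G).card ≤ 8 := by omega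
  omega

lemma filter_bound :
    (((Bset x a).filter (fun b => ¬ ∃ b₀ ∈ ({y₀ * a * y₀⁻¹, a * (y₀ * a * y₀⁻¹)} : Finset G),
      ∃ g ∈ Cn a, g * b₀ * g⁻¹ = b)).filter (· ∈ (T : Subgroup G))).card + 4 ≤ Nat.card (T : Subgroup G) := by
  set A := ((Bset x a).filter (fun b => ¬ ∃ b₀ ∈ ({y₀ * a * y₀⁻¹, a * (y₀ * a * y₀⁻¹)} : Finset G),
      ∃ g ∈ Cn a, g * b₀ * g⁻¹ = b)).filter (· ∈ (T : Subgroup G)) with hA
  have hd := S.d₀
  set b₀ := y₀ * a * y₀⁻¹ with hb₀
  have h4 := four_card S.ha S.ha1 hd.b1 hd.bb hd.ba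
  rw [← h4, ← Finset.card_union_of_disjoint, ← card_fin]
  · apply Finset.card_le_card
    intro t ht
    rw [Finset.mem_union] at ht
    rw [mem_fin]
    rcases ht with ht | ht
    · exact (Finset.mem_filter.mp ht).2
    · simp only [Finset.mem_insert, Finset.mem_singleton] at ht
      rw [← hT₀]
      have haQ := (YData.a_om S.ha hd).1
      have hbQ := hd.b_om.1
      rcases ht with rfl | rfl | rfl | rfl
      · exact one_mem _
      · exact haQ
      · exact hbQ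
      · exact mul_mem haQ hbQ
  · rw [Finset.disjoint_left]
    intro t ht ht2
    have ht1 := Finset.mem_filter.mp (Finset.mem_filter.mp ht).1
    simp only [Finset.mem_insert, Finset.mem_singleton] at ht2
    rcases ht2 with rfl | rfl | rfl | rfl
    · exact S.Bset_ne_one ht1.1 rfl
    · exact S.Bset_ne_a ht1.1 rfl
    · exact ht1.2 ⟨y₀ * a * y₀⁻¹, by simp, 1, one_mem _, by group⟩
    · exact ht1.2 ⟨a * (y₀ * a * y₀⁻¹), by simp, 1, one_mem _, by group⟩

lemma four_f_le' : 4 * f ≤ Nat.card (T : Subgroup G) + 4 := by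
  have h1 := four_f_le S hT₀
  have h2 := filter_bound S hT₀
  omega

/-- No other `b`. -/
theorem no_others [IsSimpleGroup G] {b : G} (hb : b ∈ Bset x a)
    (hnex : ¬ ∃ b₀ ∈ ({y₀ * a * y₀⁻¹, a * (y₀ * a * y₀⁻¹)} : Finset G), ∃ g ∈ Cn a, g * b₀ * g⁻¹ = b) :
    False := by
  haveI : Fact (Nat.Prime 2) := ⟨Nat.prime_two⟩
  obtain ⟨k, hk, hks⟩ := S.rep hb
  set b' := k * b * k⁻¹ with hb'
  have hbB' : b' ∈ Bset x a := Bset_conj hk hb
  have hnex' : ¬ ∃ b₀ ∈ ({y₀ * a * y₀⁻¹, a * (y₀ * a * y₀⁻¹)} : Finset G), ∃ g ∈ Cn a, g * b₀ * g⁻¹ = b' := by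
    rintro ⟨b₀, hb₀, g, hg, h⟩
    apply hnex
    refine ⟨b₀, hb₀, k⁻¹ * g, mul_mem (inv_mem hk) hg, ?_⟩
    calc k⁻¹ * g * b₀ * (k⁻¹ * g)⁻¹ = k⁻¹ * (g * b₀ * g⁻¹) * k := by group
      _ = b := by rw [h, hb']; group
  obtain ⟨y', hy'Y, hy'b⟩ := mem_Bset.mp hbB'
  have hy' : y' ∈ Yset x a := mem_Yset.mpr hy'Y
  have hd' := yData S.sc S.ha S.ha1 hy'
  have hd := S.d₀
  rw [← hy'b] at hks hnex'
  set b₁ := y' * a * y'⁻¹ with hb₁
  set H := Qb a b₁ with hH
  have hA₀ : Act3 (T : Subgroup G) y₀ := by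
    rw [← hT₀]; exact hd.Qact
  have hb₁T : b₁ ∈ (T : Subgroup G) := hks hd'.b_om.1
  -- `H` is normal in `T`
  have hHT : ∀ t ∈ (T : Subgroup G), ∀ h ∈ H, t * h * t⁻¹ ∈ H := by
    intro t ht h hh
    have hhT := hks hh
    have h1 : ⁅⁅t, h⁆, b₁⁆ = 1 := hA₀.class_two t h b₁ ht hhT hb₁T
    have h2 : ⁅t, h⁆ * b₁ = b₁ * ⁅t, h⁆ := commutatorElement_eq_one_iff_commute.mp h1
    have h3 : h * b₁ = b₁ * h := (mem_Rb.mp (Qof_le _ hh)).2
    apply S.T_comm_Q (mul_mem (mul_mem ht hhT) (inv_mem ht))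
    have h4 : t * h * t⁻¹ = ⁅t, h⁆ * h := by
      simp only [commutatorElement_def]; group
    rw [h4]
    calc ⁅t, h⁆ * h * b₁ = ⁅t, h⁆ * (h * b₁) := by group
      _ = ⁅t, h⁆ * (b₁ * h) := by rw [h3]
      _ = (⁅t, h⁆ * b₁) * h := by group
      _ = (b₁ * ⁅t, h⁆) * h := by rw [h2]
      _ = b₁ * (⁅t, h⁆ * h) := by group
  set L := Subgroup.normalizer (H : Set G) with hL
  have hTL : (T : Subgroup G) ≤ L := fun t ht => mem_normalizer_of_conj (hHT t ht)
  have hy'L : y' ∈ L := mem_normalizer_of_conj hd'.Qact.inv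
  have hHne : H ≠ ⊥ := by
    intro h
    have := (YData.a_om S.ha hd').1
    rw [← hH, h] at this
    exact S.ha1 this
  have hy'H : y' ∉ H := fun h => hd'.sc.ne (hd'.Qact.fix y' h (by group))
  have hLne : L ≠ ⊤ := by
    intro h
    have hn : H.Normal := by
      rw [← Subgroup.normalizer_eq_top_iff]
      exact h
    rcases hn.eq_bot_or_eq_top with h1 | h1
    · exact hHne h1
    · apply hy'H; rw [h1]; trivial
  have hcardL : Nat.card L < Nat.card G := by
    apply lt_of_le_of_ne (Subgroup.card_le_card_group L)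
    intro h
    exact hLne (Subgroup.eq_top_of_card_eq L h)
  have hscL : SC (⟨y', hy'L⟩ : L) := hd'.sc.sub L hy'L
  have hC := S.IH L _ hcardL hscL
  -- elements not in `V₀`
  have hV₀ : b₁ ≠ 1 ∧ b₁ ≠ a ∧ b₁ ≠ y₀ * a * y₀⁻¹ ∧ b₁ ≠ a * (y₀ * a * y₀⁻¹) := by
    refine ⟨hd'.b1, hd'.ba, ?_, ?_⟩
    · intro h
      exact hnex' ⟨y₀ * a * y₀⁻¹, by simp, 1, one_mem _, by rw [h]; group⟩
    · intro h
      exact hnex' ⟨a * (y₀ * a * y₀⁻¹), by simp, 1, one_mem _, by rw [h]; group⟩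
  rcases hC with hI | ⟨hII, -⟩ | ⟨hIII, -⟩
  · -- type I
    have hTLs : ((T : Subgroup G).subgroupOf L).Normal := by
      apply typeI_normal hI hscL
      · rw [isP_iff_forall]
        intro e he
        obtain ⟨k, hk⟩ := tw_of_mem T.isPGroup' he
        exact ⟨k, Subtype.ext hk⟩
      · intro P hP hle
        have h1 := T.is_maximal' (hP.map L.subtype) (by
          intro t ht
          exact ⟨⟨t, hTL ht⟩, hle ht, rfl⟩)
        apply le_antisymm _ hle
        intro p hp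
        show (p : G) ∈ (T : Subgroup G)
        rw [← h1]
        exact ⟨p, hp, rfl⟩
      · have : Nat.card ((T : Subgroup G).subgroupOf L) = Nat.card (T : Subgroup G) :=
          Nat.card_congr (Subgroup.subgroupOfEquivOfLe hTL).toEquiv
        rw [this]
        exact hA₀.card_mod
    have hyT : ∀ t ∈ (T : Subgroup G), y' * t * y'⁻¹ ∈ (T : Subgroup G) := by
      intro t ht
      have h1 : (⟨t, hTL ht⟩ : L) ∈ (T : Subgroup G).subgroupOf L := ht
      have h2 := hTLs.conj_mem _ h1 ⟨y', hy'L⟩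
      exact h2
    have haOm : IsOm (Qb a (y₀ * a * y₀⁻¹)) a := YData.a_om S.ha hd
    rw [hT₀] at haOm
    have h3 : IsOm (T : Subgroup G) (y' * a * y'⁻¹) := haOm.conj' hyT
    rw [← hT₀] at h3
    rcases S.om₀ h3 with h | h | h | h
    · exact hV₀.1 h
    · exact hV₀.2.1 h
    · exact hV₀.2.2.1 h
    · exact hV₀.2.2.2 h
  · -- type II
    obtain ⟨N₁, hN₁, _, hexp, ⟨iso⟩⟩ := hII
    have hHL : (H.subgroupOf L).Normal := Subgroup.normal_in_normalizer
    have hH2L : IsPGroup 2 (H.subgroupOf L) := by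
      rw [isP_iff_forall]
      intro e he
      obtain ⟨k, hk⟩ := tw_of_mem hd'.Qtwo he
      exact ⟨k, Subtype.ext hk⟩
    have hle := typeII_le hN₁ hexp iso hscL _ hHL hH2L
    -- the subgroup in `G`
    set E : Subgroup G := N₁.map L.subtype with hE
    have hHE : ∀ h ∈ H, h ∈ E := by
      intro h hh
      exact ⟨⟨h, Subgroup.le_normalizer hh⟩, hle hh, rfl⟩
    have hEi : ∀ t ∈ E, y' * t * y'⁻¹ ∈ E := by
      rintro _ ⟨t, ht, rfl⟩
      exact ⟨_, hN₁.conj_mem t ht ⟨y', hy'L⟩, rfl⟩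
    have hE2 : ∀ t ∈ E, t * t = 1 := by
      rintro _ ⟨t, ht, rfl⟩
      have := hexp t ht
      rw [sq] at this
      exact congrArg Subtype.val this
    have hbound := S.N.E E y' hd'.conj hEi hE2
    have hAE : Act3 E y' := hd'.sc.act3 (not_three_dvd_of_isP (by
      rw [isP_iff_forall]
      intro e he
      exact Tw.of_invol (hE2 e he))) hEi
    have hm3 := hAE.card_mod
    have hEP : IsPGroup 2 E := by
      rw [isP_iff_forall]
      intro e he
      exact Tw.of_invol (hE2 e he)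
    obtain ⟨k, hkE⟩ := IsPGroup.iff_card.mp hEP
    have h5 : 5 ≤ Nat.card E := by
      have hsub : insert b₁ ({1, a, y₀ * a * y₀⁻¹, a * (y₀ * a * y₀⁻¹)} : Finset G) ⊆ fin E := by
        intro t ht
        rw [mem_fin]
        have hcT : ∀ z ∈ (T : Subgroup G), z ∈ H ∨ True := fun _ _ => Or.inr trivial
        have hZ : ∀ z, IsOm (T : Subgroup G) z → z ∈ H := by
          intro z hz
          apply S.T_comm_Q hz.1
          exact hz.2.2 b₁ hb₁T |>.symm
        have haOm : IsOm (T : Subgroup G) a := by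
          have := YData.a_om S.ha hd
          rwa [hT₀] at this
        have hbOm : IsOm (T : Subgroup G) (y₀ * a * y₀⁻¹) := by
          have := hd.b_om
          rwa [hT₀] at this
        simp only [Finset.mem_insert, Finset.mem_singleton] at ht
        rcases ht with rfl | rfl | rfl | rfl | rfl
        · exact hHE _ hd'.b_om.1
        · exact one_mem _
        · exact hHE _ (hZ _ haOm)
        · exact hHE _ (hZ _ hbOm)
        · exact hHE _ (hZ _ (haOm.mul hbOm))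
      have hcard5 : (insert b₁ ({1, a, y₀ * a * y₀⁻¹, a * (y₀ * a * y₀⁻¹)} : Finset G)).card = 5 := by
        rw [Finset.card_insert_of_notMem, four_card S.ha S.ha1 hd.b1 hd.bb hd.ba]
        simp only [Finset.mem_insert, Finset.mem_singleton, not_or]
        exact hV₀
      have := Finset.card_le_card hsub
      rw [hcard5, card_fin] at this
      exact this
    have h16 := two_pow_mod_ge hkE hm3 h5
    have h15 := m_bound h16 hbound
    have hk4 := key4 S.N.fi S.N.nF h15 S.N.hr S.N.hF S.N.d2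
    have h1 := four_f_le' S hT₀
    have h2 := S.q_le
    omega
  · -- type III
    obtain ⟨hs, _⟩ := hIII
    have hHL : (H.subgroupOf L).Normal := Subgroup.normal_in_normalizer
    rcases hHL.eq_bot_or_eq_top with h1 | h1
    · apply hHne
      rw [eq_bot_iff]
      intro h hh
      have : (⟨h, Subgroup.le_normalizer hh⟩ : L) ∈ H.subgroupOf L := hh
      rw [h1] at this
      exact congrArg Subtype.val this
    · apply hy'H
      have : (⟨y', hy'L⟩ : L) ∈ H.subgroupOf L := by rw [h1]; trivial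
      exact this

/-- **Conclusion of case C**: `f ≤ 2`. -/
theorem f_le_two [IsSimpleGroup G] : f ≤ 2 := by
  have h := four_f_le S hT₀
  have h0 : ((Bset x a).filter (fun b => ¬ ∃ b₀ ∈ ({y₀ * a * y₀⁻¹, a * (y₀ * a * y₀⁻¹)} : Finset G),
      ∃ g ∈ Cn a, g * b₀ * g⁻¹ = b)).filter (· ∈ (T : Subgroup G)) = ∅ := by
    rw [Finset.eq_empty_iff_forall_notMem]
    intro b hb
    obtain ⟨h1, h2⟩ := Finset.mem_filter.mp (Finset.mem_filter.mp hb).1
    exact no_others S hT₀ h1 h2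
  rw [h0, Finset.card_empty] at h
  omega

end Cfsg.Agent.Lib.FT3.CaseC
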