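import Cfsg.Agent.Lib.FT3.CaseC

/-!
# The case where `Q(b₀)` is not a Sylow 2-subgroup of `G`: common lemmas.
-/

set_option autoImplicit false
set_option linter.style.haveILetI false
set_option linter.unusedSectionVars false
set_option linter.unusedVariables false

namespace Cfsg.Agent.Lib.FT3.CaseN

open Cfsg.Agent.Lib.FT3.Fpf Cfsg.Agent.Lib.FT3.Base Cfsg.Agent.Lib.FT3.Two
  Cfsg.Agent.Lib.FT3.Conc Cfsg.Agent.Lib.FT3.Mx Cfsg.Agent.Lib.FT3.Count Cfsg.Agent.Lib.FT3.Om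
  Cfsg.Agent.Lib.FT3.Loc Cfsg.Agent.Lib.FT3.Chars Cfsg.Agent.Lib.FT3.Numeric
  Cfsg.Agent.Lib.FT3.St Cfsg.Agent.Lib.FT3.TypeL Cfsg.Agent.Lib.FT3.CaseC

open scoped commutatorElement

universe u

variable {G : Type u} [Group G] [Finite G]

open scoped Classical

variable {x a : G} {T : Sylow 2 G} {y₀ : G} {Y : Subgroup G} {d F r f n : ℕ}

/-- `central_of_comm_mem`, with the name opened -/
lemma central_of_comm_mem' {S₀ : Subgroup G} {y a w : G} (h : Act3 S₀ y) (ha : a ∈ S₀) (ha1 : a ≠ 1)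
    (ha2 : a * a = 1) (hc : ∀ s ∈ S₀, Commute a s) (hV : a * (y * a * y⁻¹) = y * (y * a * y⁻¹) * y⁻¹)
    (hw : w ∈ S₀) (hws : ∀ s ∈ S₀, ⁅w, s⁆ = 1 ∨ ⁅w, s⁆ = a) : ∀ s ∈ S₀, ⁅w, s⁆ = 1 :=
  Cfsg.Agent.Lib.FT3.Phi.central_of_comm_mem h ha ha1 ha2 hc hV hw hws

lemma commute_of_om {S₀ : Subgroup G} {z s : G} (hz : IsOm S₀ z) (hs : s ∈ S₀) : Commute z s :=
  (hz.2.2 s hs).symm

lemma card_subgroupOf {A B : Subgroup G} (h : A ≤ B) : Nat.card (A.subgroupOf B) = Nat.card A :=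
  Nat.card_congr (Subgroup.subgroupOfEquivOfLe h).toEquiv

/-- Index 2 from a coset condition. -/
lemma card_two_of_coset {A B : Subgroup G} (hAB : A ≤ B) {m : G} (hm : m ∈ B) (hm' : m ∉ A)
    (h : ∀ m₁ ∈ B, m₁ ∉ A → ∀ m₂ ∈ B, m₂ ∉ A → m₁⁻¹ * m₂ ∈ A) :
    Nat.card B = 2 * Nat.card A := by
  have hi : (A.subgroupOf B).index = 2 := by
    rw [Subgroup.index_eq_two_iff]
    refine ⟨⟨m, hm⟩, ?_⟩
    intro b
    by_cases hb : (b : G) ∈ A
    · refine Or.inr ⟨hb, ?_⟩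
      intro hbm
      apply hm'
      have h1 : (b : G) * m ∈ A := hbm
      have h2 : m = (b : G)⁻¹ * ((b : G) * m) := by group
      rw [h2]
      exact mul_mem (inv_mem hb) h1
    · refine Or.inl ⟨?_, hb⟩
      have hb' : (b : G)⁻¹ ∉ A := fun h1 => hb (by simpa using inv_mem h1)
      have := h _ (inv_mem b.2) hb' m hm hm'
      rw [inv_inv] at this
      exact this
  have := Subgroup.card_mul_index (A.subgroupOf B)
  rw [hi, card_subgroupOf hAB] at this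
  rw [← this, mul_comm]

lemma index_two_of_card {A B : Subgroup G} (hAB : A ≤ B) (hc : Nat.card B = 2 * Nat.card A) :
    (A.subgroupOf B).index = 2 := by
  have h1 := Subgroup.card_mul_index (A.subgroupOf B)
  rw [card_subgroupOf hAB, hc] at h1
  have hpos : 0 < Nat.card A := Nat.card_pos
  rw [mul_comm 2] at h1
  exact Nat.eq_of_mul_eq_mul_left hpos h1

/-- A subgroup of index 2 is normal. -/
lemma conj_mem_of_card {A B : Subgroup G} (hAB : A ≤ B) (hc : Nat.card B = 2 * Nat.card A) {m s : G}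
    (hm : m ∈ B) (hs : s ∈ A) : m * s * m⁻¹ ∈ A := by
  have hi := index_two_of_card hAB hc
  have hn := Subgroup.normal_of_index_eq_two hi
  have h1 : (⟨s, hAB hs⟩ : B) ∈ A.subgroupOf B := hs
  exact hn.conj_mem _ h1 ⟨m, hm⟩

/-- Squares lie in a subgroup of index 2. -/
lemma sq_mem_of_card {A B : Subgroup G} (hAB : A ≤ B) (hc : Nat.card B = 2 * Nat.card A) {m : G}
    (hm : m ∈ B) : m * m ∈ A := by
  have hi := index_two_of_card hAB hc
  have := Subgroup.mul_self_mem_of_index_two hi ⟨m, hm⟩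
  exact this

section

variable (S : St x a T y₀ Y d F r f n)
  (hT₀ : Qb a (y₀ * a * y₀⁻¹) ≠ (T : Subgroup G))

include S hT₀

lemma t_exists : ∃ t, NS (Qb a (y₀ * a * y₀⁻¹)) t ∧ t * t = 1 ∧ t * y₀ * t⁻¹ = y₀⁻¹ ∧
    ∀ m, NS (Qb a (y₀ * a * y₀⁻¹)) m → ∃ i : ℕ, ∃ e ∈ Y, m = y₀ ^ i * e ∨ m = t * y₀ ^ i * e := by
  rcases S.D.cases with h | h
  · exfalso
    obtain ⟨m, hm, hm2, hm3⟩ := exists_normalizer_elt T.isPGroup' S.hle hT₀
    obtain ⟨i, e, he, rfl⟩ := h m hm3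
    exact hm2 (mem_of_tw S.d₀.sc S.D he (tw_of_mem T.isPGroup' hm))
  · exact h

/-- Elements of `T ∩ N(T₀) \ T₀` form a single coset. -/
lemma coset_T {t : G}
    (hall : ∀ m, NS (Qb a (y₀ * a * y₀⁻¹)) m → ∃ i : ℕ, ∃ e ∈ Y, m = y₀ ^ i * e ∨ m = t * y₀ ^ i * e)
    {m₁ m₂ : G} (h1 : m₁ ∈ (T : Subgroup G)) (h2 : m₂ ∈ (T : Subgroup G))
    (n1 : NS (Qb a (y₀ * a * y₀⁻¹)) m₁) (n2 : NS (Qb a (y₀ * a * y₀⁻¹)) m₂)
    (h3 : m₁ ∉ Qb a (y₀ * a * y₀⁻¹)) (h4 : m₂ ∉ Qb a (y₀ * a * y₀⁻¹)) :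
    m₁⁻¹ * m₂ ∈ Qb a (y₀ * a * y₀⁻¹) :=
  coset_two S.d₀.sc S.D hall n1 n2 (tw_of_mem T.isPGroup' h1) (tw_of_mem T.isPGroup' h2) h3 h4
    (tw_of_mem T.isPGroup' (mul_mem (inv_mem h1) h2))

end

section

variable (S : St x a T y₀ Y d F r f n)
include S

lemma four_le_s₀ : 4 ≤ Nat.card (Qb a (y₀ * a * y₀⁻¹)) := by
  have hd := S.d₀
  have h4 := four_card S.ha S.ha1 hd.b1 hd.bb hd.ba
  rw [← h4, ← card_fin]
  apply Finset.card_le_card
  intro t ht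
  rw [mem_fin]
  have haQ := (YData.a_om S.ha hd).1
  have hbQ := hd.b_om.1
  simp only [Finset.mem_insert, Finset.mem_singleton] at ht
  rcases ht with rfl | rfl | rfl | rfl
  · exact one_mem _
  · exact haQ
  · exact hbQ
  · exact mul_mem haQ hbQ

/-- the relation for the Phi lemma -/
lemma hV₀ : a * (y₀ * a * y₀⁻¹) = y₀ * (y₀ * a * y₀⁻¹) * y₀⁻¹ := S.d₀.rel

/-- conjugates by `C(a)` of elements of `Yset` -/
lemma Y_conj {y k : G} (hy : y ∈ Yset x a) (hk : k ∈ Cn a) :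
    k * y * k⁻¹ ∈ Yset x a ∧ (k * y * k⁻¹) * a * (k * y * k⁻¹)⁻¹ = k * (y * a * y⁻¹) * k⁻¹ := by
  obtain ⟨h1, h2⟩ := mem_Yset.mp hy
  have hga : k * a = a * k := mem_Cn.mp hk
  constructor
  · refine mem_Yset.mpr ⟨h1.trans (isConj_iff.mpr ⟨k, rfl⟩), ?_⟩
    have h3 : a * (k * y * k⁻¹) = k * (a * y) * k⁻¹ := by
      calc a * (k * y * k⁻¹) = (a * k) * y * k⁻¹ := by group
        _ = (k * a) * y * k⁻¹ := by rw [hga]
        _ = _ := by group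
    rw [h3, conj_pow, h2]; group
  · calc k * y * k⁻¹ * a * (k * y * k⁻¹)⁻¹ = k * y * (k⁻¹ * (a * k)) * y⁻¹ * k⁻¹ := by group
      _ = k * y * (k⁻¹ * (k * a)) * y⁻¹ * k⁻¹ := by rw [hga]
      _ = k * (y * a * y⁻¹) * k⁻¹ := by group

end

/-- Conjugacy of involutions in a coset. -/
lemma conj_coset {S₀ : Subgroup G} {g u s : G} (hA : Act3 S₀ g) (hu : u * u = 1)
    (hug : u * g * u⁻¹ = g⁻¹) (hs : s ∈ S₀) (hus : u * s * u⁻¹ = s⁻¹) :
    ∃ h ∈ S₀, h * u * h⁻¹ = s * u := by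
  set τ := s⁻¹ with hτ
  have hτS : τ ∈ S₀ := inv_mem hs
  refine ⟨g * τ * g⁻¹, hA.inv _ hτS, ?_⟩
  have hp := hA.prod τ hτS
  have hi : g⁻¹ = g * g := hA.inv_eq
  have hug' : u * g⁻¹ * u⁻¹ = g := by
    calc u * g⁻¹ * u⁻¹ = (u * g * u⁻¹)⁻¹ := by group
      _ = g := by rw [hug, inv_inv]
  have h1 : g * (g * τ * g⁻¹) * g⁻¹ = g⁻¹ * τ * g := by
    have e : g⁻¹⁻¹ = g := inv_inv g
    calc g * (g * τ * g⁻¹) * g⁻¹ = (g * g) * τ * (g * g)⁻¹ := by group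
      _ = g⁻¹ * τ * g⁻¹⁻¹ := by rw [← hi]
      _ = g⁻¹ * τ * g := by rw [e]
  rw [h1] at hp
  have h2 : τ⁻¹ = s := inv_inv s
  have h3 : (g * τ * g⁻¹) * (g⁻¹ * τ * g) = s := by
    rw [← h2]
    apply eq_inv_of_mul_eq_one_right
    rw [← hp]; group
  have h4 : u * (g * τ * g⁻¹)⁻¹ * u⁻¹ = g⁻¹ * τ * g := by
    calc u * (g * τ * g⁻¹)⁻¹ * u⁻¹ = (u * g * u⁻¹) * (u * s * u⁻¹) * (u * g⁻¹ * u⁻¹) := by
          rw [hτ]; group
      _ = g⁻¹ * τ * g := by rw [hug, hus, hug']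
  calc g * τ * g⁻¹ * u * (g * τ * g⁻¹)⁻¹
      = (g * τ * g⁻¹) * (u * (g * τ * g⁻¹)⁻¹ * u⁻¹) * u := by group
    _ = ((g * τ * g⁻¹) * (g⁻¹ * τ * g)) * u := by rw [h4]
    _ = s * u := by rw [h3]

/-! ### Common facts for `b`, `t ∈ T` -/

section

variable (S : St x a T y₀ Y d F r f n)
include S

/-- For `y` with `|Q(b)|` maximal and `t` normalizing `Q(b)`, and fixing `a`,
`t b t⁻¹ ∈ {b, a b}`. -/
lemma conj_b_cases {y t : G} (hy : y ∈ Yset x a)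
    (hs : Nat.card (Qb a (y * a * y⁻¹)) = Nat.card (Qb a (y₀ * a * y₀⁻¹)))
    (ht : NS (Qb a (y * a * y⁻¹)) t) (hta : t * a = a * t) :
    t * (y * a * y⁻¹) * t⁻¹ = y * a * y⁻¹ ∨ t * (y * a * y⁻¹) * t⁻¹ = a * (y * a * y⁻¹) := by
  have hd := yData S.sc S.ha S.ha1 hy
  set b := y * a * y⁻¹ with hb
  have hOm : IsOm (Qb a b) (t * b * t⁻¹) := hd.b_om.conj' ht
  have hne1 : t * b * t⁻¹ ≠ 1 := by
    intro h
    apply hd.b1
    calc b = t⁻¹ * (t * b * t⁻¹) * t := by group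
      _ = 1 := by rw [h]; group
  have hnea : t * b * t⁻¹ ≠ a := by
    intro h
    apply hd.ba
    have h1 : t⁻¹ * a = a * t⁻¹ := by
      calc t⁻¹ * a = t⁻¹ * (a * t) * t⁻¹ := by group
        _ = t⁻¹ * (t * a) * t⁻¹ := by rw [hta]
        _ = a * t⁻¹ := by group
    calc b = t⁻¹ * (t * b * t⁻¹) * t := by group
      _ = t⁻¹ * a * t := by rw [h]
      _ = a * t⁻¹ * t := by rw [h1]
      _ = a := by group
  rcases S.om_general hy hs hOm with h | h | h | h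
  · exact absurd h hne1
  · exact absurd h hnea
  · exact Or.inl h
  · exact Or.inr h

/-- Commutators of `b` with `t` are in `{1, a}`. -/
lemma comm_b_cases {b t : G} (hbb : b * b = 1) (hab : a * b = b * a)
    (h : t * b * t⁻¹ = b ∨ t * b * t⁻¹ = a * b) : ⁅b, t⁆ = 1 ∨ ⁅b, t⁆ = a := by
  have hbi : b⁻¹ = b := inv_eq_of_mul_eq_one_left hbb
  have h1 : ⁅b, t⁆ = b * (t * b * t⁻¹) := by
    simp only [commutatorElement_def]; rw [hbi]; group
  rw [h1]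
  rcases h with h | h
  · left; rw [h, hbb]
  · right
    rw [h, ← mul_assoc, ← hab, mul_assoc, hbb, mul_one]

end

section CaseB

variable (S : St x a T y₀ Y d F r f n)
  (hT₀ : Qb a (y₀ * a * y₀⁻¹) ≠ (T : Subgroup G))
  (hB : ∀ t ∈ (T : Subgroup G), NS (Qb a (y₀ * a * y₀⁻¹)) t)

include S hT₀ hB

/-- Data of Case B: an involution `u₃ ∈ T \ T₀` and an element `g` inverted by it. -/
lemma u₃_exists : ∃ u g : G, u ∈ (T : Subgroup G) ∧ u ∉ Qb a (y₀ * a * y₀⁻¹) ∧ u * u = 1 ∧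
    Act3 (Qb a (y₀ * a * y₀⁻¹)) g ∧ u * g * u⁻¹ = g⁻¹ := by
  haveI : Fact (Nat.Prime 2) := ⟨Nat.prime_two⟩
  obtain ⟨t, htN, htt, hty, hall⟩ := t_exists S hT₀
  have hA := S.d₀.Qact
  set T₀ := Qb a (y₀ * a * y₀⁻¹) with hT₀def
  set M := Subgroup.normalizer (T₀ : Set G) with hM
  have hTM : (T : Subgroup G) ≤ M := fun t ht => mem_normalizer_of_conj (hB t ht)
  have hQ : IsPGroup 2 ((T₀ ⊔ Subgroup.zpowers t : Subgroup G)) := by
    apply IsPGroup.to_sup_of_normal_left' S.d₀.Qtwo (isP_zpowers (Tw.of_invol htt))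
    rw [Subgroup.zpowers_le]
    exact mem_normalizer_of_conj htN
  have htM : t ∈ M := mem_normalizer_of_conj htN
  have hQM : (T₀ ⊔ Subgroup.zpowers t : Subgroup G) ≤ M := by
    apply sup_le Subgroup.le_normalizer
    rw [Subgroup.zpowers_le]
    exact htM
  obtain ⟨k, hk, hks⟩ := exists_conj_into M T hTM _ hQ hQM
  have htQ : t ∈ (T₀ ⊔ Subgroup.zpowers t : Subgroup G) :=
    (le_sup_right : Subgroup.zpowers t ≤ _) (Subgroup.mem_zpowers t)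
  have hkNS : ∀ s, s ∈ T₀ ↔ k * s * k⁻¹ ∈ T₀ := fun s => Subgroup.mem_normalizer_iff.mp hk s
  have htT₀ : t ∉ T₀ := fun h => t_not_mem S.d₀.sc S.D hty (S.D.le h)
  refine ⟨k * t * k⁻¹, k * y₀ * k⁻¹, hks t htQ, ?_, ?_, ?_, ?_⟩
  · intro h
    exact htT₀ ((hkNS t).mpr h)
  · calc k * t * k⁻¹ * (k * t * k⁻¹) = k * (t * t) * k⁻¹ := by group
      _ = 1 := by rw [htt]; group
  · have h1 := hA.conj k
    have h2 : T₀.map (MulAut.conj k).toMonoidHom = T₀ := by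
      ext s
      rw [mem_map_conj]
      have := hkNS (k⁻¹ * s * k)
      have h3 : k * (k⁻¹ * s * k) * k⁻¹ = s := by group
      rw [h3] at this
      exact this
    rwa [h2] at h1
  · calc k * t * k⁻¹ * (k * y₀ * k⁻¹) * (k * t * k⁻¹)⁻¹ = k * (t * y₀ * t⁻¹) * k⁻¹ := by group
      _ = (k * y₀ * k⁻¹)⁻¹ := by rw [hty]; group

variable {u g : G} (huT : u ∈ (T : Subgroup G)) (hun : u ∉ Qb a (y₀ * a * y₀⁻¹)) (huu : u * u = 1)
  (hgA : Act3 (Qb a (y₀ * a * y₀⁻¹)) g) (hug : u * g * u⁻¹ = g⁻¹)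

include huT hun

/-- `|T| = 2 |T₀|` -/
lemma card_T : Nat.card (T : Subgroup G) = 2 * Nat.card (Qb a (y₀ * a * y₀⁻¹)) := by
  obtain ⟨t, htN, htt, hty, hall⟩ := t_exists S hT₀
  apply card_two_of_coset S.hle huT hun
  intro m₁ h1 h3 m₂ h2 h4
  exact coset_T S hT₀ hall h1 h2 (hB _ h1) (hB _ h2) h3 h4

include huu hgA hug

/-- Involutions outside `T₀` are conjugate to `u` under `T₀` -/
lemma invol_conj {v : G} (hvT : v ∈ (T : Subgroup G)) (hv : v ∉ Qb a (y₀ * a * y₀⁻¹))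
    (hvv : v * v = 1) : ∃ h ∈ Qb a (y₀ * a * y₀⁻¹), h * u * h⁻¹ = v := by
  obtain ⟨t, htN, htt, hty, hall⟩ := t_exists S hT₀
  have hui : u⁻¹ = u := inv_eq_of_mul_eq_one_left huu
  have hvi : v⁻¹ = v := inv_eq_of_mul_eq_one_left hvv
  have h1 := coset_T S hT₀ hall hvT huT (hB _ hvT) (hB _ huT) hv hun
  rw [hvi] at h1
  have hus : u * (v * u) * u⁻¹ = (v * u)⁻¹ := by
    rw [hui, mul_inv_rev, hui, hvi]
    calc u * (v * u) * u = u * v * (u * u) := by group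
      _ = u * v := by rw [huu, mul_one]
  obtain ⟨h, hh, e⟩ := conj_coset hgA huu hug h1 hus
  refine ⟨h, hh, ?_⟩
  rw [e, mul_assoc, huu, mul_one]

/-- `a b₀` is the conjugate of `b₀` by `u`. -/
lemma ab_conj : u * (y₀ * a * y₀⁻¹) * u⁻¹ = a * (y₀ * a * y₀⁻¹) := by
  have hn : NS (Qb a (y₀ * a * y₀⁻¹)) u := hB u huT
  rcases conj_b_cases S S.hy₀ rfl hn (S.hTc u huT) with h | h
  · exfalso
    apply hun
    apply S.T_comm_Q huT
    calc u * (y₀ * a * y₀⁻¹) = (u * (y₀ * a * y₀⁻¹) * u⁻¹) * u := by group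
      _ = _ := by rw [h]
  · exact h

/-- **The key claim of Case B.** -/
lemma ex_of_card {y : G} (hy : y ∈ Yset x a)
    (hs : Nat.card (Qb a (y * a * y⁻¹)) = Nat.card (Qb a (y₀ * a * y₀⁻¹))) :
    ∃ b₁ ∈ ({y₀ * a * y₀⁻¹, u} : Finset G), ∃ g ∈ Cn a, g * b₁ * g⁻¹ = y * a * y⁻¹ := by
  have hbB : y * a * y⁻¹ ∈ Bset x a := mem_Bset.mpr ⟨y, mem_Yset.mp hy, rfl⟩
  obtain ⟨k, hk, hks⟩ := S.rep hbB
  obtain ⟨hy'', hy''b⟩ := Y_conj S hy hk
  set y'' := k * y * k⁻¹ with hy''def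
  rw [← hy''b] at hks
  have hd'' := yData S.sc S.ha S.ha1 hy''
  have hs'' : Nat.card (Qb a (y'' * a * y''⁻¹)) = Nat.card (Qb a (y₀ * a * y₀⁻¹)) := by
    rw [hy''b, card_Qb_conj hk, hs]
  set b'' := y'' * a * y''⁻¹ with hb''
  have hcT := card_T S hT₀ hB huT hun
  have hc2 : Nat.card (T : Subgroup G) = 2 * Nat.card (Qb a b'') := by rw [hs'', hcT]
  have hnT : ∀ t ∈ (T : Subgroup G), NS (Qb a b'') t := fun t ht s hs =>
    conj_mem_of_card hks hc2 ht hs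
  have hbT : b'' ∈ (T : Subgroup G) := hks hd''.b_om.1
  have hcases : ∀ t ∈ (T : Subgroup G), t * b'' * t⁻¹ = b'' ∨ t * b'' * t⁻¹ = a * b'' := fun t ht =>
    conj_b_cases S hy'' hs'' (hnT t ht) (S.hTc t ht)
  -- going back to `y`
  have hback : ∀ g₁ ∈ Cn a, ∀ b₁, g₁ * b₁ * g₁⁻¹ = b'' → (k⁻¹ * g₁) * b₁ * (k⁻¹ * g₁)⁻¹ = y * a * y⁻¹ := by
    intro g₁ _ b₁ h
    calc (k⁻¹ * g₁) * b₁ * (k⁻¹ * g₁)⁻¹ = k⁻¹ * (g₁ * b₁ * g₁⁻¹) * k := by group
      _ = k⁻¹ * (k * (y * a * y⁻¹) * k⁻¹) * k := by rw [h, hy''b]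
      _ = _ := by group
  by_cases hbT₀ : b'' ∈ Qb a (y₀ * a * y₀⁻¹)
  · -- `b''` is central in `T₀`
    have hd := S.d₀
    have hOm₀ : IsOm (Qb a (y₀ * a * y₀⁻¹)) b'' := by
      refine ⟨hbT₀, hd''.bb, ?_⟩
      have haOm := YData.a_om S.ha hd
      have hc3 := central_of_comm_mem' hd.Qact haOm.1 S.ha1 S.ha
        (fun s hs => (commute_of_om haOm hs)) hd.rel hbT₀ (fun s hs =>
          comm_b_cases S hd''.bb hd''.comm (hcases s (S.hle hs)))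
      intro s hs
      exact (commutatorElement_eq_one_iff_commute.mp (hc3 s hs)).eq.symm
    rcases S.om₀ hOm₀ with h | h | h | h
    · exact absurd h hd''.b1
    · exact absurd h hd''.ba
    · refine ⟨y₀ * a * y₀⁻¹, by simp, k⁻¹ * 1, mul_mem (inv_mem hk) (one_mem _), ?_⟩
      exact hback 1 (one_mem _) _ (by rw [h]; group)
    · refine ⟨y₀ * a * y₀⁻¹, by simp, k⁻¹ * u, mul_mem (inv_mem hk) (S.hTa huT), ?_⟩
      exact hback u (S.hTa huT) _ (by rw [h]; exact ab_conj S hT₀ hB huT hun huu hgA hug)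
  · obtain ⟨h, hh, e⟩ := invol_conj S hT₀ hB huT hun huu hgA hug hbT hbT₀ hd''.bb
    have hhC : h ∈ Cn a := S.hTa (S.hle hh)
    refine ⟨u, by simp, k⁻¹ * h, mul_mem (inv_mem hk) hhC, ?_⟩
    exact hback h hhC _ e

/-- **Conclusion of case B.** -/
theorem sixteen_f : 16 * f ≤ Nat.card (T : Subgroup G) + 24 := by
  have hcT := card_T S hT₀ hB huT hun
  have hd := S.d₀
  set Ex : Finset G := {y₀ * a * y₀⁻¹, u} with hEx
  have h := S.count 8 Ex (by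
    intro y hy hnot hbT
    by_cases hs : Nat.card (Qb a (y * a * y⁻¹)) = Nat.card (Qb a (y₀ * a * y₀⁻¹))
    · exact absurd (ex_of_card S hT₀ hB huT hun huu hgA hug hy hs) hnot
    · have := S.s_lt hy hs
      omega)
  have hc : Ex.card ≤ 2 := Finset.card_le_two
  set A := ((Bset x a).filter (fun b => ¬ ∃ b₀ ∈ Ex, ∃ g ∈ Cn a, g * b₀ * g⁻¹ = b)).filter
    (· ∈ (T : Subgroup G)) with hA
  have hAbound : A.card + 4 ≤ Nat.card (Qb a (y₀ * a * y₀⁻¹)) := by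
    have h4 := four_card S.ha S.ha1 hd.b1 hd.bb hd.ba
    rw [← h4, ← Finset.card_union_of_disjoint, ← card_fin]
    · apply Finset.card_le_card
      intro t ht
      rw [Finset.mem_union] at ht
      rw [mem_fin]
      rcases ht with ht | ht
      · have ht2 := Finset.mem_filter.mp ht
        have ht1 := Finset.mem_filter.mp ht2.1
        by_contra hn
        obtain ⟨h', hh', e⟩ := invol_conj S hT₀ hB huT hun huu hgA hug ht2.2 hn (S.Bset_sq ht1.1)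
        exact ht1.2 ⟨u, by simp [hEx], h', S.hTa (S.hle hh'), e⟩
      · simp only [Finset.mem_insert, Finset.mem_singleton] at ht
        have haQ := (YData.a_om S.ha hd).1
        have hbQ := hd.b_om.1
        rcases ht with rfl | rfl | rfl | rfl
        · exact one_mem _
        · exact haQ
        · exact hbQ
        · exact mul_mem haQ hbQ
    · rw [Finset.disjoint_left]
      intro t ht ht2
      have ht1 := Finset.mem_filter.mp (Finset.mem_filter.mp ht).1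
      simp only [Finset.mem_insert, Finset.mem_singleton] at ht2
      rcases ht2 with rfl | rfl | rfl | rfl
      · exact S.Bset_ne_one ht1.1 rfl
      · exact S.Bset_ne_a ht1.1 rfl
      · exact ht1.2 ⟨y₀ * a * y₀⁻¹, by simp [hEx], 1, one_mem _, by group⟩
      · exact ht1.2 ⟨y₀ * a * y₀⁻¹, by simp [hEx], u, S.hTa huT,
          ab_conj S hT₀ hB huT hun huu hgA hug⟩
  omega

end CaseB

section CaseB'

variable (S : St x a T y₀ Y d F r f n)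
  (hT₀ : Qb a (y₀ * a * y₀⁻¹) ≠ (T : Subgroup G))
  (hB : ∀ t ∈ (T : Subgroup G), NS (Qb a (y₀ * a * y₀⁻¹)) t)

include S hT₀ hB

/-- **Case B**: `|G| = 168`. -/
theorem caseB : Nat.card G = 168 := by
  obtain ⟨u, g, huT, hun, huu, hgA, hug⟩ := u₃_exists S hT₀ hB
  have h16 := sixteen_f S hT₀ hB huT hun huu hgA hug
  have hcT := card_T S hT₀ hB huT hun
  have h4 := four_le_s₀ S
  exact finish_B S.N S.f4 S.q_le (by omega) h16

end CaseB'

end Cfsg.Agent.Lib.FT3.CaseN
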