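import Cfsg.Agent.Lib.FT3.Base
import Cfsg.Agent.Lib.V4TI.Core
import Cfsg.Agent.Lib.Char.Degree
import Cfsg.Agent.Lib.Char.DefectZero

/-!
# Generic sums of characters over subgroups
-/

set_option autoImplicit false
set_option linter.style.haveILetI false
set_option linter.unusedSectionVars false
set_option linter.unusedVariables false

namespace Cfsg.Agent.Lib.FT3.CharGen

open Cfsg Cfsg.Agent.Lib.FT3.Fpf Cfsg.Agent.Lib.FT3.Base
open Cfsg.Agent.Lib.Char.Basic Cfsg.Agent.Lib.Char.Ortho Cfsg.Agent.Lib.Char.Complete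
  Cfsg.Agent.Lib.Char.ClassProd Cfsg.Agent.Lib.Char.Linear
open scoped ComplexConjugate

universe u

variable {G : Type u} [Group G] [Finite G]

/-- The sum of a character over a subgroup is a multiple of the order of the subgroup. -/
lemma sum_subgroup (E : Subgroup G) [Fintype E] {χ : G → ℂ} (hχ : IsCharacter G χ) :
    ∃ k : ℕ, ∑ e : E, χ e = (Nat.card E : ℂ) * k := by
  obtain ⟨k, hk⟩ := exists_nat_classInner (isCharacter_restrict E hχ) (isCharacter_one (G := E))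
  refine ⟨k, ?_⟩
  rw [classInner_def] at hk
  have hne : (Nat.card E : ℂ) ≠ 0 := Nat.cast_ne_zero.mpr Nat.card_pos.ne'
  simp only [map_one, mul_one] at hk
  rw [← hk]
  field_simp

/-- The sum of a function which is constant off the identity. -/
lemma sum_const_off_one {E : Type*} [Group E] [Fintype E] [DecidableEq E] (f : E → ℂ) (c : ℂ)
    (h : ∀ e, e ≠ 1 → f e = c) :
    ∑ e, f e = f 1 + ((Nat.card E : ℂ) - 1) * c := by
  rw [← Finset.add_sum_erase Finset.univ f (Finset.mem_univ 1)]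
  congr 1
  rw [Finset.sum_congr rfl (fun e he => h e (Finset.ne_of_mem_erase he))]
  rw [Finset.sum_const, Finset.card_erase_of_mem (Finset.mem_univ 1), Finset.card_univ, nsmul_eq_mul,
    Nat.card_eq_fintype_card, Nat.cast_pred Fintype.card_pos]

lemma pow_conj_mem {E : Subgroup G} {t : G} (hE : ∀ e ∈ E, t * e * t⁻¹ ∈ E) :
    ∀ i : ℕ, ∀ e ∈ E, t ^ i * e * (t ^ i)⁻¹ ∈ E := by
  intro i
  induction i with
  | zero => intro e he; simpa using he
  | succ i ih =>
    intro e he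
    have h1 := ih _ (hE e he)
    have h2 : t ^ (i + 1) * e * (t ^ (i + 1))⁻¹ = t ^ i * (t * e * t⁻¹) * (t ^ i)⁻¹ := by
      rw [pow_succ]; group
    rw [h2]; exact h1

/-- The subgroup `E⟨t⟩` when `t` normalizes `E`. -/
def cosetSub (E : Subgroup G) (t : G) (ℓ : ℕ) (hℓ0 : 0 < ℓ) (hℓ : t ^ ℓ = 1)
    (hE : ∀ e ∈ E, t * e * t⁻¹ ∈ E) : Subgroup G where
  carrier := {g | ∃ e ∈ E, ∃ i : ℕ, g = e * t ^ i}
  one_mem' := ⟨1, one_mem _, 0, by simp⟩
  mul_mem' := by
    rintro a b ⟨e, he, i, rfl⟩ ⟨e', he', j, rfl⟩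
    refine ⟨e * (t ^ i * e' * (t ^ i)⁻¹), mul_mem he (pow_conj_mem hE i e' he'), i + j, ?_⟩
    rw [pow_add]; group
  inv_mem' := by
    rintro a ⟨e, he, i, rfl⟩
    have hk : t ^ (i * (ℓ - 1)) = (t ^ i)⁻¹ := by
      apply eq_inv_of_mul_eq_one_left
      rw [← pow_add]
      have : i * (ℓ - 1) + i = ℓ * i := by
        obtain ⟨m, rfl⟩ : ∃ m, ℓ = m + 1 := ⟨ℓ - 1, by omega⟩
        simp only [Nat.add_sub_cancel]
        ring
      rw [this, pow_mul, hℓ, one_pow]
    refine ⟨t ^ (i * (ℓ - 1)) * e⁻¹ * (t ^ (i * (ℓ - 1)))⁻¹,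
      pow_conj_mem hE _ _ (inv_mem he), i * (ℓ - 1), ?_⟩
    rw [hk]; group

/-- The sum of a character over `E⟨t⟩`. -/
lemma coset_sum (E : Subgroup G) [Fintype E] (t : G) (ℓ : ℕ) (hℓ0 : 0 < ℓ) (hℓ : t ^ ℓ = 1)
    (hE : ∀ e ∈ E, t * e * t⁻¹ ∈ E) (hne : ∀ i, 0 < i → i < ℓ → t ^ i ∉ E)
    {χ : G → ℂ} (hχ : IsCharacter G χ) :
    ∃ n : ℕ, ∑ e : E, ∑ i ∈ Finset.range ℓ, χ ((e : G) * t ^ i) =
      (ℓ : ℂ) * (Nat.card E : ℂ) * n := by
  classical
  cases nonempty_fintype G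
  set H := cosetSub E t ℓ hℓ0 hℓ hE with hH
  let f : E × Fin ℓ → H := fun p => ⟨(p.1 : G) * t ^ (p.2 : ℕ), ⟨p.1, p.1.2, p.2, rfl⟩⟩
  have hinj : Function.Injective f := by
    rintro ⟨e, i⟩ ⟨e', j⟩ h
    have h1 : (e : G) * t ^ (i : ℕ) = (e' : G) * t ^ (j : ℕ) := congrArg Subtype.val h
    have key : ∀ (e e' : E) (i j : Fin ℓ), (i : ℕ) ≤ j → (e : G) * t ^ (i : ℕ) = (e' : G) * t ^ (j : ℕ) →
        i = j := by
      intro e e' i j hij h1
      by_contra hc
      have hlt : 0 < (j : ℕ) - i := by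
        have : (i : ℕ) ≠ j := fun h => hc (Fin.ext h)
        omega
      apply hne ((j : ℕ) - i) hlt (by have := j.2; omega)
      have h2 : t ^ ((j : ℕ) - i) = (e' : G)⁻¹ * e := by
        have h3 : t ^ (j : ℕ) = t ^ (i : ℕ) * t ^ ((j : ℕ) - i) := by
          rw [← pow_add]; congr 1; omega
        rw [h3] at h1
        have h4 : (e' : G)⁻¹ * e = t ^ ((j : ℕ) - i) * (t ^ (i : ℕ) * (t ^ (i : ℕ))⁻¹) := by
          have : (e : G) = e' * (t ^ (i : ℕ) * t ^ ((j : ℕ) - i)) * (t ^ (i : ℕ))⁻¹ := by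
            rw [← h1]; group
          rw [this]
          have hcomm : t ^ (i : ℕ) * t ^ ((j : ℕ) - i) = t ^ ((j : ℕ) - i) * t ^ (i : ℕ) :=
            (Commute.pow_pow_self t _ _)
          rw [hcomm]
          group
        rw [h4]; simp
      rw [h2]
      exact mul_mem (inv_mem e'.2) e.2
    have hij : i = j := by
      rcases le_total (i : ℕ) j with hle | hle
      · exact key e e' i j hle h1
      · exact (key e' e j i hle h1.symm).symm
    subst hij
    have : (e : G) = e' := mul_right_cancel h1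
    exact Prod.ext (Subtype.ext this) rfl
  have hsurj : Function.Surjective f := by
    rintro ⟨g, e, he, i, rfl⟩
    refine ⟨(⟨e, he⟩, ⟨i % ℓ, Nat.mod_lt _ hℓ0⟩), Subtype.ext ?_⟩
    change e * t ^ (i % ℓ) = e * t ^ i
    congr 1
    conv_rhs => rw [← Nat.div_add_mod i ℓ, pow_add, pow_mul, hℓ, one_pow, one_mul]
  have hbij : Function.Bijective f := ⟨hinj, hsurj⟩
  obtain ⟨n, hn⟩ := sum_subgroup H hχ
  refine ⟨n, ?_⟩
  have hcard : Nat.card H = ℓ * Nat.card E := by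
    rw [← Nat.card_congr (Equiv.ofBijective f hbij), Nat.card_prod, Nat.card_eq_fintype_card (α := Fin ℓ),
      Fintype.card_fin, mul_comm]
  rw [hcard] at hn
  push_cast at hn
  rw [← hn, ← hbij.sum_comp (fun h : H => χ h), Fintype.sum_prod_type]
  refine Finset.sum_congr rfl (fun e _ => ?_)
  rw [Finset.sum_range]

end Cfsg.Agent.Lib.FT3.CharGen
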