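import Cfsg.Agent.Lib.FT3.CharGen

/-!
# The three characters of a group with a self-centralizing element of order 3 conjugate to
its inverse
-/

set_option autoImplicit false
set_option linter.style.haveILetI false
set_option linter.unusedSectionVars false
set_option linter.unusedVariables false

namespace Cfsg.Agent.Lib.FT3.Chars

open Cfsg Cfsg.Agent.Lib.FT3.Fpf Cfsg.Agent.Lib.FT3.Base Cfsg.Agent.Lib.FT3.CharGen
open Cfsg.Agent.Lib.Char.Basic Cfsg.Agent.Lib.Char.Ortho Cfsg.Agent.Lib.Char.Complete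
  Cfsg.Agent.Lib.Char.ClassProd Cfsg.Agent.Lib.Char.Linear
open scoped ComplexConjugate

universe u

variable {G : Type u} [Group G] [Finite G] {x u : G}

/-- The trivial character, as an irreducible character. -/
noncomputable def triv (G : Type u) [Group G] : IrrCharacter G :=
  ⟨fun _ => 1, by
    have := isIrrCharacter_of_hom (G := G) (1 : G →* ℂˣ)
    simpa using this⟩

lemma isConj_x_inv (hu : u * u = 1) (hux : u * x * u⁻¹ = x⁻¹) : IsConj x x⁻¹ :=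
  isConj_iff.mpr ⟨u, hux⟩

/-- Values at `x` are integers congruent to the degree modulo 3. -/
lemma val_int (hsc : SC x) (hcj : IsConj x x⁻¹) {χ : G → ℂ} (hχ : IsIrrCharacter G χ) :
    ∃ (t : ℤ) (d : ℕ), χ x = t ∧ χ 1 = d ∧ ((d : ℤ) - t) % 3 = 0 := by
  classical
  obtain ⟨d, hd0, hd⟩ := exists_pos_deg_of_isIrr hχ
  have hch := isCharacter_of_isIrrCharacter hχ
  have hcl := isClassFunction_of_isIrrCharacter hχ
  haveI : Fintype (Subgroup.zpowers x) := Fintype.ofFinite _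
  obtain ⟨k, hk⟩ := sum_subgroup (Subgroup.zpowers x) hch
  have hxi : χ x⁻¹ = χ x := by
    obtain ⟨g, hg⟩ := isConj_iff.mp hcj
    rw [← hg]; exact hcl _ _
  have h1 := sum_const_off_one (E := Subgroup.zpowers x) (fun e => χ e) (χ x) (by
    intro e he
    have he1 : (e : G) ≠ 1 := fun h => he (Subtype.ext h)
    rcases hsc.mem_zpowers e.2 with h | h | h
    · exact absurd h he1
    · simp only [h]
    · simp only [h, hxi])
  rw [hk, hsc.card_zpowers] at h1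
  simp only [OneMemClass.coe_one, hd] at h1
  have h2 : χ x = (((3 * k - d : ℤ) : ℚ) / 2 : ℚ) := by
    push_cast
    have : (3 : ℂ) * k = d + ((3 : ℕ) - 1) * χ x := by simpa using h1
    push_cast at this
    rw [this]
    ring
  have hint := Cfsg.Agent.Lib.Char.RealOdd.isIntegral_irr hχ x
  rw [h2] at hint
  obtain ⟨z, hz⟩ := Cfsg.Agent.Lib.V4TI.Core.int_of_integral_rat hint
  have hz2 : (3 * (k : ℤ) - d) = 2 * z := by
    have : (((3 * k - d : ℤ) : ℚ)) = 2 * z := by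
      rw [div_eq_iff (by norm_num)] at hz
      rw [hz]; ring
    exact_mod_cast this
  refine ⟨z, d, ?_, hd, ?_⟩
  · rw [h2]
    have : ((((3 * (k : ℤ) - d : ℤ) : ℚ) / 2 : ℚ)) = z := hz
    rw [this]; push_cast; rfl
  · omega

/-- The data of the two nontrivial characters not vanishing at `x`. -/
structure TD (x : G) (χ₁ χ₂ : IrrCharacter G) (d : ℕ) : Prop where
  h1 : χ₁ ≠ triv G
  h2 : χ₂ ≠ triv G
  h12 : χ₁ ≠ χ₂
  v1 : χ₁.1 x = 1
  v2 : χ₂.1 x = -1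
  d1 : χ₁.1 1 = d
  d2 : χ₂.1 1 = d + 1
  hd : d % 3 = 1
  rest : ∀ ψ : IrrCharacter G, ψ ≠ triv G → ψ ≠ χ₁ → ψ ≠ χ₂ → ψ.1 x = 0

lemma exists_chars (hsc : SC x) (hcj : IsConj x x⁻¹) :
    ∃ (χ₁ χ₂ : IrrCharacter G) (d : ℕ), TD x χ₁ χ₂ d := by
  classical
  cases nonempty_fintype G
  haveI : Finite (IrrCharacter G) := finite_irrCharacter
  haveI : Fintype (IrrCharacter G) := Fintype.ofFinite _
  choose t dd ht hd hm using fun ψ : IrrCharacter G => val_int hsc hcj ψ.2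
  have hdd : ∀ ψ, 0 < dd ψ := by
    intro ψ
    have := irr_one_ne_zero ψ.2
    rw [hd ψ] at this
    exact Nat.pos_of_ne_zero (fun h => this (by simp [h]))
  have htt : t (triv G) = 1 := by
    have := ht (triv G)
    have h1 : (triv G).1 x = 1 := rfl
    rw [h1] at this
    exact_mod_cast this.symm
  have hdt : dd (triv G) = 1 := by
    have := hd (triv G)
    have h1 : (triv G).1 1 = 1 := rfl
    rw [h1] at this
    exact_mod_cast this.symm
  have hs1 : ∑ ψ, t ψ ^ 2 = 3 := by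
    have h := sum_irr_mul_conj x x
    rw [if_pos (IsConj.refl x), hsc.card_centralizer] at h
    have h2 : ∑ ψ : IrrCharacter G, ((t ψ ^ 2 : ℤ) : ℂ) = ((3 : ℤ) : ℂ) := by
      push_cast at h ⊢
      rw [← h]
      refine Finset.sum_congr rfl (fun ψ _ => ?_)
      rw [ht ψ, map_intCast]; ring
    exact_mod_cast h2
  have hs2 : ∑ ψ, t ψ * (dd ψ : ℤ) = 0 := by
    have hne : ¬ IsConj x 1 := by
      intro h
      exact hsc.ne (isConj_one_right.mp h.symm)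
    have h := sum_irr_mul_conj x 1
    rw [if_neg hne] at h
    have h2 : ∑ ψ : IrrCharacter G, ((t ψ * (dd ψ : ℤ) : ℤ) : ℂ) = ((0 : ℤ) : ℂ) := by
      push_cast at h ⊢
      rw [← h]
      refine Finset.sum_congr rfl (fun ψ _ => ?_)
      rw [ht ψ, hd ψ, Complex.conj_natCast]
    exact_mod_cast h2
  -- the extraction
  have hnn : ∀ (s : Finset (IrrCharacter G)), ∀ ψ ∈ s, t ψ ^ 2 ≤ ∑ χ ∈ s, t χ ^ 2 := by
    intro s ψ hψ
    exact Finset.single_le_sum (f := fun χ => t χ ^ 2) (fun _ _ => sq_nonneg _) hψ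
  have hs0 : ∑ ψ ∈ Finset.univ.erase (triv G), t ψ ^ 2 = 2 := by
    have := Finset.add_sum_erase Finset.univ (fun ψ => t ψ ^ 2) (Finset.mem_univ (triv G))
    simp only [htt] at this
    linarith
  obtain ⟨ψ₁, hψ₁, hψ₁0⟩ : ∃ ψ ∈ Finset.univ.erase (triv G), t ψ ≠ 0 := by
    by_contra hc
    push Not at hc
    have : ∑ ψ ∈ Finset.univ.erase (triv G), t ψ ^ 2 = 0 :=
      Finset.sum_eq_zero (fun ψ h => by rw [hc ψ h]; norm_num)
    omega
  have ht₁ : t ψ₁ = 1 ∨ t ψ₁ = -1 := by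
    have := hnn _ ψ₁ hψ₁
    rw [hs0] at this
    have h1 : t ψ₁ ≤ 1 := by nlinarith
    have h2 : -1 ≤ t ψ₁ := by nlinarith
    omega
  have hs1' : ∑ ψ ∈ (Finset.univ.erase (triv G)).erase ψ₁, t ψ ^ 2 = 1 := by
    have := Finset.add_sum_erase _ (fun ψ => t ψ ^ 2) hψ₁
    rw [hs0] at this
    have h3 : t ψ₁ ^ 2 = 1 := by rcases ht₁ with h | h <;> rw [h] <;> norm_num
    simp only [h3] at this
    linarith
  obtain ⟨ψ₂, hψ₂, hψ₂0⟩ : ∃ ψ ∈ (Finset.univ.erase (triv G)).erase ψ₁, t ψ ≠ 0 := by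
    by_contra hc
    push Not at hc
    have : ∑ ψ ∈ (Finset.univ.erase (triv G)).erase ψ₁, t ψ ^ 2 = 0 :=
      Finset.sum_eq_zero (fun ψ h => by rw [hc ψ h]; norm_num)
    omega
  have ht₂ : t ψ₂ = 1 ∨ t ψ₂ = -1 := by
    have := hnn _ ψ₂ hψ₂
    rw [hs1'] at this
    have h1 : t ψ₂ ≤ 1 := by nlinarith
    have h2 : -1 ≤ t ψ₂ := by nlinarith
    omega
  have hs2' : ∑ ψ ∈ ((Finset.univ.erase (triv G)).erase ψ₁).erase ψ₂, t ψ ^ 2 = 0 := by
    have := Finset.add_sum_erase _ (fun ψ => t ψ ^ 2) hψ₂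
    rw [hs1'] at this
    have h3 : t ψ₂ ^ 2 = 1 := by rcases ht₂ with h | h <;> rw [h] <;> norm_num
    simp only [h3] at this
    linarith
  have hzero : ∀ ψ ∈ ((Finset.univ.erase (triv G)).erase ψ₁).erase ψ₂, t ψ = 0 := by
    intro ψ hψ
    have := (Finset.sum_eq_zero_iff_of_nonneg (fun _ _ => sq_nonneg _)).mp hs2' ψ hψ
    simpa using this
  have hψ₁t : ψ₁ ≠ triv G := Finset.ne_of_mem_erase hψ₁
  have hψ₂1 : ψ₂ ≠ ψ₁ := Finset.ne_of_mem_erase hψ₂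
  have hψ₂t : ψ₂ ≠ triv G := Finset.ne_of_mem_erase (Finset.mem_of_mem_erase hψ₂)
  have hrest : ∀ ψ : IrrCharacter G, ψ ≠ triv G → ψ ≠ ψ₁ → ψ ≠ ψ₂ → ψ.1 x = 0 := by
    intro ψ h1 h2 h3
    rw [ht ψ, hzero ψ (by simp [h1, h2, h3])]
    simp
  have hsumd : 1 + t ψ₁ * (dd ψ₁ : ℤ) + t ψ₂ * (dd ψ₂ : ℤ) = 0 := by
    have h1 := Finset.add_sum_erase Finset.univ (fun ψ => t ψ * (dd ψ : ℤ)) (Finset.mem_univ (triv G))
    have h2 := Finset.add_sum_erase _ (fun ψ => t ψ * (dd ψ : ℤ)) hψ₁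
    have h3 := Finset.add_sum_erase _ (fun ψ => t ψ * (dd ψ : ℤ)) hψ₂
    have h4 : ∑ ψ ∈ ((Finset.univ.erase (triv G)).erase ψ₁).erase ψ₂, t ψ * (dd ψ : ℤ) = 0 :=
      Finset.sum_eq_zero (fun ψ h => by rw [hzero ψ h, zero_mul])
    simp only [htt, hdt] at h1
    rw [h4] at h3
    rw [hs2] at h1
    push_cast at h1
    linarith
  have hpos1 := hdd ψ₁
  have hpos2 := hdd ψ₂
  have hm1 := hm ψ₁
  have hm2 := hm ψ₂
  rcases ht₁ with h1 | h1 <;> rcases ht₂ with h2 | h2 <;> rw [h1, h2] at hsumd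
  · exfalso; omega
  · refine ⟨ψ₁, ψ₂, dd ψ₁, hψ₁t, hψ₂t, hψ₂1.symm, ?_, ?_, hd ψ₁, ?_, ?_, hrest⟩
    · rw [ht ψ₁, h1]; simp
    · rw [ht ψ₂, h2]; simp
    · rw [hd ψ₂]
      have : dd ψ₂ = dd ψ₁ + 1 := by omega
      rw [this]; push_cast; rfl
    · rw [h1] at hm1; omega
  · refine ⟨ψ₂, ψ₁, dd ψ₂, hψ₂t, hψ₁t, hψ₂1, ?_, ?_, hd ψ₂, ?_, ?_, ?_⟩
    · rw [ht ψ₂, h2]; simp
    · rw [ht ψ₁, h1]; simp
    · rw [hd ψ₁]
      have : dd ψ₁ = dd ψ₂ + 1 := by omega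
      rw [this]; push_cast; rfl
    · rw [h2] at hm2; omega
    · intro ψ a b c; exact hrest ψ a c b
  · exfalso; omega

section TD

variable {χ₁ χ₂ : IrrCharacter G} {d : ℕ}

lemma TD.sum3 (D : TD x χ₁ χ₂ d) [Fintype (IrrCharacter G)] (f : IrrCharacter G → ℂ)
    (hf : ∀ ψ, ψ ≠ triv G → ψ ≠ χ₁ → ψ ≠ χ₂ → f ψ = 0) :
    ∑ ψ, f ψ = f (triv G) + f χ₁ + f χ₂ := by
  classical
  have h1 := Finset.add_sum_erase Finset.univ f (Finset.mem_univ (triv G))
  have h2 := Finset.add_sum_erase (Finset.univ.erase (triv G)) f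
    (Finset.mem_erase.mpr ⟨D.h1, Finset.mem_univ _⟩)
  have h3 := Finset.add_sum_erase ((Finset.univ.erase (triv G)).erase χ₁) f
    (Finset.mem_erase.mpr ⟨D.h12.symm, Finset.mem_erase.mpr ⟨D.h2, Finset.mem_univ _⟩⟩)
  have h4 : ∑ ψ ∈ ((Finset.univ.erase (triv G)).erase χ₁).erase χ₂, f ψ = 0 := by
    apply Finset.sum_eq_zero
    intro ψ hψ
    simp only [Finset.mem_erase, Finset.mem_univ, and_true] at hψ
    exact hf ψ hψ.2.2 hψ.2.1 hψ.1
  rw [h4, add_zero] at h3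
  rw [← h1, ← h2, ← h3]
  ring

/-- Off the class of `x`, `χ₂ = 1 + χ₁`. -/
lemma TD.off_class (D : TD x χ₁ χ₂ d) {g : G} (hg : ¬ IsConj g x) : χ₂.1 g = 1 + χ₁.1 g := by
  classical
  cases nonempty_fintype G
  haveI : Finite (IrrCharacter G) := finite_irrCharacter
  haveI : Fintype (IrrCharacter G) := Fintype.ofFinite _
  have h := sum_irr_mul_conj g x
  rw [if_neg hg, D.sum3 (fun ψ => ψ.1 g * conj (ψ.1 x)) (fun ψ h1 h2 h3 => by
    simp only [D.rest ψ h1 h2 h3, map_zero, mul_zero])] at h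
  simp only [D.v1, D.v2, map_one, map_neg, mul_one, mul_neg] at h
  have h0 : (triv G).1 g * conj ((triv G).1 x) = 1 := by
    change (1 : ℂ) * conj (1 : ℂ) = 1
    simp
  rw [h0] at h
  linear_combination -h

end TD

end Cfsg.Agent.Lib.FT3.Chars
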