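import Cfsg.Agent.Lib.FT3.Chars

/-!
# Counting with the three characters
-/

set_option autoImplicit false
set_option linter.style.haveILetI false
set_option linter.unusedSectionVars false
set_option linter.unusedVariables false

namespace Cfsg.Agent.Lib.FT3.Chars

open Cfsg Cfsg.Agent.Lib.FT3.Fpf Cfsg.Agent.Lib.FT3.Base Cfsg.Agent.Lib.FT3.CharGen
open Cfsg.Agent.Lib.Char.Basic Cfsg.Agent.Lib.Char.Ortho Cfsg.Agent.Lib.Char.Complete
  Cfsg.Agent.Lib.Char.ClassProd Cfsg.Agent.Lib.Char.Linear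
open scoped ComplexConjugate

universe u

variable {G : Type u} [Group G] {x u : G}

/-- Two involutions with product `x`. -/
lemma pairs_mem (hsc : SC x) (hu : u * u = 1) (hux : u * x * u⁻¹ = x⁻¹) {p₁ p₂ : G}
    (h1 : p₁ * p₁ = 1) (h2 : p₂ * p₂ = 1) (h12 : p₁ * p₂ = x) :
    (p₂ = u ∧ p₁ = x * u) ∨ (p₂ = x * u ∧ p₁ = x⁻¹ * u) ∨ (p₂ = x⁻¹ * u ∧ p₁ = u) := by
  have hp₁i : p₁⁻¹ = p₁ := inv_eq_of_mul_eq_one_left h1
  have hp₂i : p₂⁻¹ = p₂ := inv_eq_of_mul_eq_one_left h2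
  have hui : u⁻¹ = u := inv_eq_of_mul_eq_one_left hu
  have hxi : x⁻¹ = p₂ * p₁ := by
    rw [← h12, mul_inv_rev, hp₁i, hp₂i]
  have hp₂x : p₂ * x = x⁻¹ * p₂ := by
    rw [hxi, ← h12]
    group
  have hux' : u * x = x⁻¹ * u := by
    rw [← hux]; group
  have hp₂xi : p₂ * x⁻¹ = x * p₂ := by
    calc p₂ * x⁻¹ = x * (x⁻¹ * p₂) * x⁻¹ := by group
      _ = x * (p₂ * x) * x⁻¹ := by rw [hp₂x]
      _ = x * p₂ := by group
  have hp₁ : p₁ = x * p₂ := by
    rw [← h12, mul_assoc, h2, mul_one]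
  have hc : (p₂ * u) * x = x * (p₂ * u) := by
    calc (p₂ * u) * x = p₂ * (u * x) := by group
      _ = p₂ * (x⁻¹ * u) := by rw [hux']
      _ = (p₂ * x⁻¹) * u := by group
      _ = x * p₂ * u := by rw [hp₂xi]
      _ = x * (p₂ * u) := by group
  rcases hsc.cent _ hc with h | h | h
  · left
    have : p₂ = u := by
      calc p₂ = (p₂ * u) * u⁻¹ := by group
        _ = u := by rw [h, hui, one_mul]
    exact ⟨this, by rw [hp₁, this]⟩
  · right; left
    have : p₂ = x * u := by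
      calc p₂ = (p₂ * u) * u⁻¹ := by group
        _ = x * u := by rw [h, hui]
    refine ⟨this, ?_⟩
    rw [hp₁, this, ← mul_assoc, hsc.sq]
  · right; right
    have : p₂ = x⁻¹ * u := by
      calc p₂ = (p₂ * u) * u⁻¹ := by group
        _ = x⁻¹ * u := by rw [h, hui]
    refine ⟨this, ?_⟩
    rw [hp₁, this]; group

lemma conj_xu (hsc : SC x) (hu : u * u = 1) (hux : u * x * u⁻¹ = x⁻¹) : IsConj u (x * u) := by
  rw [isConj_iff]
  refine ⟨x⁻¹, ?_⟩
  have hux' : u * x = x⁻¹ * u := by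
    rw [← hux]; group
  calc x⁻¹ * u * x⁻¹⁻¹ = x⁻¹ * (u * x) := by group
    _ = x⁻¹ * (x⁻¹ * u) := by rw [hux']
    _ = (x⁻¹ * x⁻¹) * u := by group
    _ = x * u := by rw [hsc.inv_sq]

lemma conj_xiu (hsc : SC x) (hu : u * u = 1) (hux : u * x * u⁻¹ = x⁻¹) : IsConj u (x⁻¹ * u) := by
  rw [isConj_iff]
  refine ⟨x, ?_⟩
  have hux' : u * x⁻¹ = x * u := by
    have : u * x * u⁻¹ = x⁻¹ := hux
    calc u * x⁻¹ = (u * x * u⁻¹)⁻¹ * u := by group
      _ = x * u := by rw [this, inv_inv]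
  calc x * u * x⁻¹ = x * (u * x⁻¹) := by group
    _ = x * (x * u) := by rw [hux']
    _ = (x * x) * u := by group
    _ = x⁻¹ * u := by rw [hsc.sq]

lemma invol_of_conj {a b : G} (ha : a * a = 1) (h : IsConj a b) : b * b = 1 := by
  obtain ⟨g, rfl⟩ := isConj_iff.mp h
  calc g * a * g⁻¹ * (g * a * g⁻¹) = g * (a * a) * g⁻¹ := by group
    _ = 1 := by rw [ha]; group

lemma count_uu [Finite G] (hsc : SC x) (hu : u * u = 1) (hux : u * x * u⁻¹ = x⁻¹) :
    Nat.card {p : G × G // IsConj u p.1 ∧ IsConj u p.2 ∧ p.1 * p.2 = x} = 3 := by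
  classical
  have hxu := conj_xu hsc hu hux
  have hxiu := conj_xiu hsc hu hux
  have hui : u⁻¹ = u := inv_eq_of_mul_eq_one_left hu
  have hux' : u * x = x⁻¹ * u := by
    rw [← hux]; group
  have hux'' : u * x⁻¹ = x * u := by
    calc u * x⁻¹ = (u * x * u⁻¹)⁻¹ * u := by group
      _ = x * u := by rw [hux, inv_inv]
  let s : Finset (G × G) := {(x * u, u), (x⁻¹ * u, x * u), (u, x⁻¹ * u)}
  have hiff : ∀ p : G × G, (IsConj u p.1 ∧ IsConj u p.2 ∧ p.1 * p.2 = x) ↔ p ∈ s := by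
    rintro ⟨p₁, p₂⟩
    simp only [s, Finset.mem_insert, Finset.mem_singleton, Prod.mk.injEq]
    constructor
    · rintro ⟨h1, h2, h3⟩
      rcases pairs_mem hsc hu hux (invol_of_conj hu h1) (invol_of_conj hu h2) h3 with h | h | h
      · left; exact ⟨h.2, h.1⟩
      · right; left; exact ⟨h.2, h.1⟩
      · right; right; exact ⟨h.2, h.1⟩
    · rintro (⟨rfl, rfl⟩ | ⟨rfl, rfl⟩ | ⟨hh, rfl⟩)
      · refine ⟨hxu, IsConj.refl _, ?_⟩
        rw [mul_assoc, hu, mul_one]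
      · refine ⟨hxiu, hxu, ?_⟩
        calc x⁻¹ * u * (x * u) = x⁻¹ * (u * x) * u := by group
          _ = x⁻¹ * (x⁻¹ * u) * u := by rw [hux']
          _ = (x⁻¹ * x⁻¹) * (u * u) := by group
          _ = x := by rw [hsc.inv_sq, hu, mul_one]
      · rw [hh]
        refine ⟨IsConj.refl _, hxiu, ?_⟩
        calc u * (x⁻¹ * u) = (u * x⁻¹) * u := by group
          _ = x * u * u := by rw [hux'']
          _ = x := by rw [mul_assoc, hu, mul_one]
  have hcard : s.card = 3 := by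
    have h1 : x * u ≠ u := fun h => hsc.ne (mul_right_cancel (h.trans (one_mul u).symm))
    have h2 : x⁻¹ * u ≠ u := fun h => hsc.inv_sc.ne (mul_right_cancel (h.trans (one_mul u).symm))
    have h3 : x * u ≠ x⁻¹ * u := fun h => hsc.ne_inv (mul_right_cancel h)
    simp only [s]
    rw [Finset.card_insert_of_notMem, Finset.card_insert_of_notMem, Finset.card_singleton]
    · simp [h2]
    · simp [h3, h1]
  rw [Nat.card_congr (Equiv.subtypeEquivRight hiff)]
  rw [Nat.card_eq_fintype_card, Fintype.card_coe, hcard]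

lemma count_zu (hsc : SC x) (hu : u * u = 1) (hux : u * x * u⁻¹ = x⁻¹) {z : G}
    (hz : z * z = 1) (hzu : ¬ IsConj u z) :
    Nat.card {p : G × G // IsConj z p.1 ∧ IsConj u p.2 ∧ p.1 * p.2 = x} = 0 := by
  have hxu := conj_xu hsc hu hux
  have hxiu := conj_xiu hsc hu hux
  have : IsEmpty {p : G × G // IsConj z p.1 ∧ IsConj u p.2 ∧ p.1 * p.2 = x} := by
    refine ⟨?_⟩
    rintro ⟨⟨p₁, p₂⟩, h1, h2, h3⟩
    simp only at h1 h2 h3
    apply hzu
    rcases pairs_mem hsc hu hux (invol_of_conj hz h1) (invol_of_conj hu h2) h3 with h | h | h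
    · rw [h.2] at h1; exact hxu.trans h1.symm
    · rw [h.2] at h1; exact hxiu.trans h1.symm
    · rw [h.2] at h1; exact h1.symm
  exact Nat.card_of_isEmpty

variable [Finite G] {χ₁ χ₂ : IrrCharacter G} {d : ℕ}

/-- Frobenius's formula specialized at `x`. -/
lemma frob (D : TD x χ₁ χ₂ d) (a b : G) :
    (Nat.card {p : G × G // IsConj a p.1 ∧ IsConj b p.2 ∧ p.1 * p.2 = x} : ℂ) =
      (Nat.card {g : G // IsConj a g} : ℂ) * (Nat.card {g : G // IsConj b g} : ℂ) /
        (Nat.card G : ℂ) *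
      (1 + χ₁.1 a * χ₁.1 b / d - χ₂.1 a * χ₂.1 b / (d + 1)) := by
  classical
  cases nonempty_fintype G
  haveI : Finite (IrrCharacter G) := finite_irrCharacter
  haveI : Fintype (IrrCharacter G) := Fintype.ofFinite _
  rw [card_product_eq a b x]
  congr 1
  rw [D.sum3 (fun ψ => ψ.1 a * ψ.1 b * conj (ψ.1 x) / ψ.1 1) (fun ψ h1 h2 h3 => by
    simp only [D.rest ψ h1 h2 h3, map_zero, mul_zero, zero_div])]
  have h0 : (triv G).1 a * (triv G).1 b * conj ((triv G).1 x) / (triv G).1 1 = 1 := by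
    change (1 : ℂ) * 1 * conj (1 : ℂ) / 1 = 1
    simp
  rw [h0]
  simp only [D.v1, D.v2, D.d1, D.d2, map_one, map_neg, mul_one, mul_neg]
  ring

lemma d_ne_zero (D : TD x χ₁ χ₂ d) : (d : ℂ) ≠ 0 := by
  have := D.hd
  exact Nat.cast_ne_zero.mpr (by omega)

lemma d1_ne_zero (D : TD x χ₁ χ₂ d) : (d : ℂ) + 1 ≠ 0 := by
  have : ((d + 1 : ℕ) : ℂ) ≠ 0 := Nat.cast_ne_zero.mpr (by omega)
  simpa using this

lemma not_conj_of_invol (hsc : SC x) {z : G} (hz : z * z = 1) : ¬ IsConj z x := by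
  intro h
  have := invol_of_conj hz h
  apply hsc.ne
  have h3 := hsc.mul3
  rwa [this, one_mul] at h3

lemma frob_invol (hsc : SC x) (D : TD x χ₁ χ₂ d) {z w : G} (hz : z * z = 1) (hw : w * w = 1) :
    (Nat.card {p : G × G // IsConj z p.1 ∧ IsConj w p.2 ∧ p.1 * p.2 = x} : ℂ) =
      (Nat.card {g : G // IsConj z g} : ℂ) * (Nat.card {g : G // IsConj w g} : ℂ) /
        (Nat.card G : ℂ) * (((d : ℂ) - χ₁.1 z) * ((d : ℂ) - χ₁.1 w) / ((d : ℂ) * (d + 1))) := by
  rw [frob D z w, D.off_class (not_conj_of_invol hsc hz), D.off_class (not_conj_of_invol hsc hw)]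
  congr 1
  have h1 := d_ne_zero D
  have h2 := d1_ne_zero D
  field_simp
  ring

/-- A count of the class of `g`. -/
lemma class_card (g : G) : Nat.card {y : G // IsConj g y} * Nat.card (Subgroup.centralizer ({g} : Set G)) =
    Nat.card G := by
  rw [← card_isConj_mul_card_centralizer g]
  congr 1
  exact Nat.card_congr (Equiv.subtypeEquivRight (fun y => isConj_comm))

lemma index_centralizer (g : G) : (Subgroup.centralizer ({g} : Set G)).index =
    Nat.card {y : G // IsConj g y} := by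
  have h1 := class_card g
  have h2 := (Subgroup.centralizer ({g} : Set G)).card_mul_index
  have hpos : 0 < Nat.card (Subgroup.centralizer ({g} : Set G)) := Nat.card_pos
  apply Nat.eq_of_mul_eq_mul_left hpos
  rw [h2, mul_comm, h1]

/-- Central character integrality. -/
lemma central_int {ψ : G → ℂ} (hψ : IsIrrCharacter G ψ) {g : G} {m : ℕ} {v : ℤ} (h1 : ψ 1 = m)
    (hv : ψ g = v) (hm : m ≠ 0) :
    ∃ k : ℤ, (Nat.card {y : G // IsConj g y} : ℤ) * v = m * k := by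
  obtain ⟨n, ρ, hirr, rfl⟩ := hψ
  haveI := hirr
  have h2 := Cfsg.Agent.Lib.Char.Central.index_mul_character_div_isIntegral ρ g
  have hfin : Module.finrank ℂ (Fin n → ℂ) = m := by
    rw [Representation.char_one] at h1
    exact_mod_cast h1
  rw [hv, hfin, index_centralizer] at h2
  have h3 : ((Nat.card {y : G // IsConj g y} : ℂ) * (v : ℂ) / (m : ℂ)) =
      ((((Nat.card {y : G // IsConj g y} : ℚ) * (v : ℚ) / (m : ℚ)) : ℚ) : ℂ) := by
    push_cast; rfl
  rw [h3] at h2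
  obtain ⟨z, hz⟩ := Cfsg.Agent.Lib.V4TI.Core.int_of_integral_rat h2
  refine ⟨z, ?_⟩
  have hmq : (m : ℚ) ≠ 0 := Nat.cast_ne_zero.mpr hm
  have h4 : (Nat.card {y : G // IsConj g y} : ℚ) * (v : ℚ) = m * z := by
    rw [div_eq_iff hmq] at hz
    rw [hz]; ring
  exact_mod_cast h4

end Cfsg.Agent.Lib.FT3.Chars
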