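import Cfsg.Agent.Lib.FT3.Chars2

/-!
# Numbers from the three characters
-/

set_option autoImplicit false
set_option linter.style.haveILetI false
set_option linter.unusedSectionVars false
set_option linter.unusedVariables false

namespace Cfsg.Agent.Lib.FT3.Chars

open Cfsg Cfsg.Agent.Lib.FT3.Fpf Cfsg.Agent.Lib.FT3.Base Cfsg.Agent.Lib.FT3.CharGen
open Cfsg.Agent.Lib.Char.Basic Cfsg.Agent.Lib.Char.Ortho Cfsg.Agent.Lib.Char.Complete
  Cfsg.Agent.Lib.Char.ClassProd Cfsg.Agent.Lib.Char.Linear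
open scoped ComplexConjugate

universe u

variable {G : Type u} [Group G] [Finite G] {x u : G} {χ₁ χ₂ : IrrCharacter G} {d : ℕ}

lemma class_pos (g : G) : 0 < Nat.card {y : G // IsConj g y} := by
  haveI : Nonempty {y : G // IsConj g y} := ⟨⟨g, IsConj.refl g⟩⟩
  exact Nat.card_pos

lemma eq_uu (hsc : SC x) (hu : u * u = 1) (hux : u * x * u⁻¹ = x⁻¹) (D : TD x χ₁ χ₂ d)
    {e : ℤ} (he : χ₁.1 u = e) :
    (Nat.card {g : G // IsConj u g} : ℤ) * ((d : ℤ) - e) * ((d : ℤ) - e) =
      3 * (Nat.card (Subgroup.centralizer ({u} : Set G)) : ℤ) * d * (d + 1) := by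
  have h := frob_invol hsc D hu hu
  rw [count_uu hsc hu hux, ← class_card u, he] at h
  have hn : (Nat.card {g : G // IsConj u g} : ℂ) ≠ 0 := Nat.cast_ne_zero.mpr (class_pos u).ne'
  have hc : (Nat.card (Subgroup.centralizer ({u} : Set G)) : ℂ) ≠ 0 :=
    Nat.cast_ne_zero.mpr Nat.card_pos.ne'
  have h1 := d_ne_zero D
  have h2 := d1_ne_zero D
  push_cast at h
  field_simp at h
  have h3 : (((Nat.card {g : G // IsConj u g} : ℤ) * ((d : ℤ) - e) * ((d : ℤ) - e) : ℤ) : ℂ) =
      ((3 * (Nat.card (Subgroup.centralizer ({u} : Set G)) : ℤ) * d * (d + 1) : ℤ) : ℂ) := by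
    push_cast
    linear_combination -h
  exact_mod_cast h3

lemma F_pos (hsc : SC x) (hu : u * u = 1) (hux : u * x * u⁻¹ = x⁻¹) (D : TD x χ₁ χ₂ d)
    {e : ℤ} (he : χ₁.1 u = e) : 0 < (d : ℤ) - e := by
  have h := eq_uu hsc hu hux D he
  have hd0 : 0 < d := by have := D.hd; omega
  have hc : 0 < Nat.card (Subgroup.centralizer ({u} : Set G)) := Nat.card_pos
  have hne : (d : ℤ) - e ≠ 0 := by
    intro h0
    rw [h0] at h
    have : (3 * (Nat.card (Subgroup.centralizer ({u} : Set G)) : ℤ) * d * (d + 1) : ℤ) > 0 := by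
      positivity
    simp at h
    omega
  have hle : e ≤ d := by
    obtain ⟨m, ρ, hirr, hρ⟩ := χ₁.2
    have h1 := norm_character_le ρ u
    rw [hρ, he] at h1
    have hfin : Module.finrank ℂ (Fin m → ℂ) = d := by
      have := D.d1
      rw [← hρ, Representation.char_one] at this
      exact_mod_cast this
    rw [hfin] at h1
    simp only [Complex.norm_intCast] at h1
    have h2 : ((|e| : ℤ) : ℝ) ≤ ((d : ℤ) : ℝ) := by
      push_cast
      exact h1
    have h3 : |e| ≤ (d : ℤ) := by exact_mod_cast h2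
    exact (le_abs_self e).trans h3
  omega

/-- Other involutions lie in the kernel of `χ₁`. -/
lemma invol_ker (hsc : SC x) (hu : u * u = 1) (hux : u * x * u⁻¹ = x⁻¹) (D : TD x χ₁ χ₂ d)
    {e : ℤ} (he : χ₁.1 u = e) {z : G} (hz : z * z = 1) (hzu : ¬ IsConj u z) :
    χ₁.1 z = χ₁.1 1 := by
  have h := frob_invol hsc D hz hu
  rw [count_zu hsc hu hux hz hzu, he] at h
  have hF := F_pos hsc hu hux D he
  have hF' : (d : ℂ) - (e : ℂ) ≠ 0 := by
    have : (((d : ℤ) - e : ℤ) : ℂ) ≠ 0 := Int.cast_ne_zero.mpr hF.ne'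
    simpa using this
  have h1 := d_ne_zero D
  have h2 := d1_ne_zero D
  have hn : (Nat.card {g : G // IsConj u g} : ℂ) ≠ 0 := Nat.cast_ne_zero.mpr (class_pos u).ne'
  have hn2 : (Nat.card {g : G // IsConj z g} : ℂ) ≠ 0 := Nat.cast_ne_zero.mpr (class_pos z).ne'
  have hG : (Nat.card G : ℂ) ≠ 0 := Nat.cast_ne_zero.mpr Nat.card_pos.ne'
  rw [D.d1]
  simp only [Nat.cast_zero] at h
  have h3 := h.symm
  simp only [mul_eq_zero, div_eq_zero_iff, hn, hn2, hG, h1, h2, hF', or_false, false_or] at h3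
  have : (d : ℂ) - χ₁.1 z = 0 := by simpa using h3
  linear_combination -this

/-- Faithfulness and `d ≥ 2` for simple groups. -/
lemma faithful (D : TD x χ₁ χ₂ d) [IsSimpleGroup G] {z : G} (hz : χ₁.1 z = χ₁.1 1) : z = 1 := by
  have hch := isCharacter_of_isIrrCharacter χ₁.2
  have hN := Cfsg.Agent.Lib.Char.Degree.charKer_normal hch
  rcases hN.eq_bot_or_eq_top with h | h
  · have : z ∈ Cfsg.Agent.Lib.Char.Degree.charKer hch := hz
    rw [h] at this
    exact this
  · exfalso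
    have hall : ∀ g, χ₁.1 g = χ₁.1 1 := fun g => by
      have : g ∈ Cfsg.Agent.Lib.Char.Degree.charKer hch := by rw [h]; trivial
      exact this
    have hd1 : (d : ℂ) = 1 := by
      have := hall x
      rw [D.v1, D.d1] at this
      exact this.symm
    apply D.h1
    apply Subtype.ext
    funext g
    rw [hall g, D.d1, hd1]
    rfl

lemma two_le (D : TD x χ₁ χ₂ d) [IsSimpleGroup G] (hnc : ∃ a b : G, a * b ≠ b * a) : 2 ≤ d := by
  have hd := D.hd
  by_contra hlt
  have hd1 : d = 1 := by omega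
  have hch := isCharacter_of_isIrrCharacter χ₁.2
  have h1 : χ₁.1 1 = 1 := by rw [D.d1, hd1]; simp
  obtain ⟨a, b, hab⟩ := hnc
  apply hab
  have hm := deg_one_mul hch h1
  have h2 : χ₁.1 (a * b * (b * a)⁻¹) = χ₁.1 1 := by
    have h3 : χ₁.1 ((a * b * (b * a)⁻¹) * (b * a)) = χ₁.1 (a * b * (b * a)⁻¹) * χ₁.1 (b * a) :=
      hm _ _
    have h4 : (a * b * (b * a)⁻¹) * (b * a) = a * b := by group
    rw [h4] at h3
    have h5 : χ₁.1 (a * b) = χ₁.1 (b * a) := by rw [hm, hm, mul_comm]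
    have h6 : χ₁.1 (b * a) ≠ 0 := by
      intro h7
      have h8 := hm (b * a) (b * a)⁻¹
      rw [h7, zero_mul, mul_inv_cancel, h1] at h8
      exact one_ne_zero h8
    rw [h1]
    rw [h5] at h3
    have : (χ₁.1 (a * b * (b * a)⁻¹) - 1) * χ₁.1 (b * a) = 0 := by
      linear_combination -h3
    rcases mul_eq_zero.mp this with h9 | h9
    · linear_combination h9
    · exact absurd h9 h6
  have h3 := faithful D h2
  have h4 : a * b = (a * b * (b * a)⁻¹) * (b * a) := by group
  rw [h4, h3, one_mul]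

/-- The central-character divisibility and the definition of `r`. -/
lemma exists_r (hsc : SC x) (hu : u * u = 1) (hux : u * x * u⁻¹ = x⁻¹) (D : TD x χ₁ χ₂ d)
    {e : ℤ} (he : χ₁.1 u = e) :
    ∃ F r : ℕ, 0 < F ∧ 0 < r ∧ (F : ℤ) = d - e ∧
      Nat.card (Subgroup.centralizer ({u} : Set G)) = r * F ∧
      Nat.card {g : G // IsConj u g} * F = 3 * r * d * (d + 1) := by
  have hF := F_pos hsc hu hux D he
  have hA := eq_uu hsc hu hux D he
  have hdm := D.hd
  have hd0 : 0 < d := by omega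
  obtain ⟨k₁, hk₁⟩ := central_int χ₁.2 D.d1 he (by omega)
  obtain ⟨k₂, hk₂⟩ := central_int (m := d + 1) (v := 1 + e) χ₂.2 (by rw [D.d2]; push_cast; rfl)
    (by rw [D.off_class (not_conj_of_invol hsc hu), he]; push_cast; rfl) (by omega)
  set n := Nat.card {g : G // IsConj u g} with hn
  set c := Nat.card (Subgroup.centralizer ({u} : Set G)) with hc
  have hc3 : ¬ 3 ∣ c := hsc.not_dvd_centralizer hu (by
    rintro rfl
    apply hsc.ne_inv
    have : x = x⁻¹ := by simpa using hux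
    exact this)
  have hcpos : 0 < c := Nat.card_pos
  have hnpos : 0 < n := class_pos u
  lift (d : ℤ) - e to ℕ using hF.le with F hFe
  have hFe' : (F : ℤ) = d - e := hFe
  have hFpos : 0 < F := by exact_mod_cast hF
  have hd1 : ((d : ℤ)) ∣ (n : ℤ) * F := ⟨(n : ℤ) - k₁, by rw [hFe']; push_cast at hk₁; linarith⟩
  have hd2 : ((d : ℤ) + 1) ∣ (n : ℤ) * F := ⟨(n : ℤ) - k₂, by
    rw [hFe']; push_cast at hk₂; linarith⟩
  have hcop : IsCoprime (d : ℤ) ((d : ℤ) + 1) := ⟨-1, 1, by ring⟩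
  obtain ⟨t, ht⟩ := hcop.mul_dvd hd1 hd2
  have hdd : (d : ℤ) * (d + 1) ≠ 0 := by positivity
  have htF : t * F = 3 * c := by
    apply mul_left_cancel₀ hdd
    rw [← mul_assoc, ← ht]
    linear_combination hA
  have hF3 : ¬ (3 : ℤ) ∣ F := by
    rintro ⟨m, hm⟩
    have h9 : (3 : ℤ) * ((c : ℤ) * d * (d + 1)) = 3 * (3 * ((n : ℤ) * m * m)) := by
      have := hA
      rw [hm] at this
      linear_combination -this
    have h10 : (c : ℤ) * d * (d + 1) = 3 * ((n : ℤ) * m * m) := by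
      have := mul_left_cancel₀ (by norm_num : (3 : ℤ) ≠ 0) h9
      exact this
    have h11 : (3 : ℤ) ∣ (c : ℤ) * d * (d + 1) := ⟨_, h10⟩
    have hp : Prime (3 : ℤ) := by norm_num [Int.prime_iff_natAbs_prime]
    rcases hp.dvd_or_dvd h11 with h12 | h12
    · rcases hp.dvd_or_dvd h12 with h13 | h13
      · exact hc3 (by exact_mod_cast h13)
      · omega
    · omega
  have h3t : (3 : ℤ) ∣ t := by
    have hp : Prime (3 : ℤ) := by norm_num [Int.prime_iff_natAbs_prime]
    have : (3 : ℤ) ∣ t * F := ⟨c, htF⟩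
    rcases hp.dvd_or_dvd this with h | h
    · exact h
    · exact absurd h hF3
  obtain ⟨r, rfl⟩ := h3t
  have hrF : r * F = c := by
    have : (3 : ℤ) * (r * F) = 3 * c := by rw [← htF]; ring
    exact mul_left_cancel₀ (by norm_num) this
  have hr0 : 0 < r := by
    by_contra hle
    have : r * (F : ℤ) ≤ 0 := by
      apply mul_nonpos_of_nonpos_of_nonneg (by omega) (by positivity)
    have hcc : (0 : ℤ) < c := by exact_mod_cast hcpos
    omega
  lift r to ℕ using hr0.le with R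
  refine ⟨F, R, hFpos, by exact_mod_cast hr0, rfl, by exact_mod_cast hrF.symm, ?_⟩
  have : (n : ℤ) * F = 3 * R * d * (d + 1) := by rw [ht]; ring
  exact_mod_cast this

end Cfsg.Agent.Lib.FT3.Chars
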