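import Cfsg.Agent.Lib.FT3.Chars3

/-!
# Numbers from the three characters: second part
-/

set_option autoImplicit false
set_option linter.style.haveILetI false
set_option linter.unusedSectionVars false
set_option linter.unusedVariables false

namespace Cfsg.Agent.Lib.FT3.Chars

open Cfsg Cfsg.Agent.Lib.FT3.Fpf Cfsg.Agent.Lib.FT3.Base Cfsg.Agent.Lib.FT3.CharGen
open Cfsg.Agent.Lib.Char.Basic Cfsg.Agent.Lib.Char.Ortho Cfsg.Agent.Lib.Char.Complete
  Cfsg.Agent.Lib.Char.ClassProd Cfsg.Agent.Lib.Char.Linear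
open scoped ComplexConjugate

universe u

variable {G : Type u} [Group G] [Finite G] {x u : G} {χ₁ χ₂ : IrrCharacter G} {d : ℕ}

/-- the number of conjugates `α` of `u` with `(α x)³ = 1` -/
noncomputable def i0 (x u : G) : ℕ := Nat.card {α : G // IsConj u α ∧ (α * x) ^ 3 = 1}

/-- the number of conjugates `y` of `x` with `(a y)³ = 1` -/
noncomputable def Ycard (x a : G) : ℕ := Nat.card {y : G // IsConj x y ∧ (a * y) ^ 3 = 1}

lemma conj_of_cube' (hsc : SC x) (hcj : IsConj x x⁻¹) {y : G} (hy : y ^ 3 = 1) (hy1 : y ≠ 1) :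
    IsConj x y := by
  rcases hsc.conj_of_cube hy hy1 with h | h
  · exact h
  · exact hcj.trans h

lemma cube_of_conj (hsc : SC x) {y : G} (h : IsConj x y) : y ^ 3 = 1 :=
  (hsc.of_isConj h).cube

lemma count_ux (hsc : SC x) (hcj : IsConj x x⁻¹) (hu : u * u = 1) :
    Nat.card {p : G × G // IsConj u p.1 ∧ IsConj x p.2 ∧ p.1 * p.2 = x} = i0 x u := by
  unfold i0
  apply Nat.card_congr
  refine
    { toFun := fun p => ⟨p.1.1, p.2.1, ?_⟩
      invFun := fun α => ⟨(α.1, α.1 * x), α.2.1, ?_, ?_⟩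
      left_inv := ?_
      right_inv := ?_ }
  · obtain ⟨⟨p₁, p₂⟩, h1, h2, h3⟩ := p
    simp only at h1 h2 h3 ⊢
    have h4 : p₁ * x = p₂ := by
      rw [← h3, ← mul_assoc, invol_of_conj hu h1, one_mul]
    rw [h4]
    exact cube_of_conj hsc h2
  · obtain ⟨α, h1, h2⟩ := α
    apply conj_of_cube' hsc hcj h2
    intro h3
    have h4 : x = α⁻¹ := eq_inv_of_mul_eq_one_right h3
    have h5 := invol_of_conj hu h1
    have h6 : α⁻¹ = α := inv_eq_of_mul_eq_one_left h5
    rw [h6] at h4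
    rw [← h4] at h5
    have h7 := hsc.mul3
    rw [h5, one_mul] at h7
    exact hsc.ne h7
  · obtain ⟨α, h1, h2⟩ := α
    have h5 := invol_of_conj hu h1
    simp only
    rw [← mul_assoc, h5, one_mul]
  · rintro ⟨⟨p₁, p₂⟩, h1, h2, h3⟩
    simp only at h1 h2 h3 ⊢
    apply Subtype.ext
    simp only [Prod.mk.injEq, true_and]
    rw [← h3, ← mul_assoc, invol_of_conj hu h1, one_mul]
  · rintro ⟨α, h1, h2⟩
    rfl

lemma class_x_card (hsc : SC x) : Nat.card {g : G // IsConj x g} * 3 = Nat.card G := by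
  have := class_card x
  rwa [hsc.card_centralizer] at this

lemma i0_formula (hsc : SC x) (hu : u * u = 1) (hux : u * x * u⁻¹ = x⁻¹) (D : TD x χ₁ χ₂ d)
    {e : ℤ} (he : χ₁.1 u = e) :
    3 * (i0 x u : ℤ) * d * (d + 1) =
      (Nat.card {g : G // IsConj u g} : ℤ) * (d * (d + 1) + e * (d + 1) + (1 + e) * d) := by
  have hcj : IsConj x x⁻¹ := isConj_x_inv hu hux
  have h := frob D u x
  rw [count_ux hsc hcj hu, ← class_x_card hsc, D.off_class (not_conj_of_invol hsc hu), he, D.v1, D.v2] at h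
  have hn : (Nat.card {g : G // IsConj x g} : ℂ) ≠ 0 := Nat.cast_ne_zero.mpr (class_pos x).ne'
  have h1 := d_ne_zero D
  have h2 := d1_ne_zero D
  push_cast at h
  field_simp at h
  have h3 : ((3 * (i0 x u : ℤ) * d * (d + 1) : ℤ) : ℂ) =
      (((Nat.card {g : G // IsConj u g} : ℤ) * (d * (d + 1) + e * (d + 1) + (1 + e) * d) : ℤ) : ℂ) := by
    push_cast
    linear_combination h
  exact_mod_cast h3

lemma i0_eq (hsc : SC x) (hu : u * u = 1) (hux : u * x * u⁻¹ = x⁻¹) (D : TD x χ₁ χ₂ d)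
    {e : ℤ} (he : χ₁.1 u = e) {F r : ℕ} (hF : (F : ℤ) = d - e)
    (hnF : Nat.card {g : G // IsConj u g} * F = 3 * r * d * (d + 1)) :
    i0 x u + r * (2 * d + 1) = Nat.card {g : G // IsConj u g} := by
  have h := i0_formula hsc hu hux D he
  have hd := D.hd
  have hd0 : (d : ℤ) ≠ 0 := by
    have : d ≠ 0 := by omega
    exact_mod_cast this
  have hd1 : (d : ℤ) + 1 ≠ 0 := by positivity
  set n := Nat.card {g : G // IsConj u g}
  have hnF' : (n : ℤ) * F = 3 * r * d * (d + 1) := by exact_mod_cast hnF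
  have he' : e = d - F := by linarith
  have key : (3 * (d : ℤ) * (d + 1)) * ((i0 x u : ℤ) + r * (2 * d + 1)) = (3 * (d : ℤ) * (d + 1)) * n := by
    rw [he'] at h
    linear_combination h - (2 * (d : ℤ) + 1) * hnF'
  have h3 : (3 * (d : ℤ) * (d + 1)) ≠ 0 := by positivity
  have := mul_left_cancel₀ h3 key
  exact_mod_cast this

/-- The `S₃` bound. -/
lemma s3_bound (hsc : SC x) (hu : u * u = 1) (hux : u * x * u⁻¹ = x⁻¹) (D : TD x χ₁ χ₂ d)
    {e : ℤ} (he : χ₁.1 u = e) : 0 ≤ (d : ℤ) + 2 + 3 * e := by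
  classical
  haveI : Fintype (Subgroup.zpowers x) := Fintype.ofFinite _
  have hcj : IsConj x x⁻¹ := isConj_x_inv hu hux
  have hch := isCharacter_of_isIrrCharacter χ₁.2
  have hcl := isClassFunction_of_isIrrCharacter χ₁.2
  have hxi : χ₁.1 x⁻¹ = 1 := by
    rw [← hux]
    have := hcl x u
    rw [this, D.v1]
  have hu1 : u ∉ Subgroup.zpowers x := by
    intro hmem
    rcases hsc.mem_zpowers hmem with h | h | h
    · rw [h] at hux
      apply hsc.ne_inv
      simpa using hux
    · rw [h] at hux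
      apply hsc.ne_inv
      simpa using hux
    · rw [h] at hux
      apply hsc.ne_inv
      simpa using hux
  obtain ⟨n₀, hn₀⟩ := coset_sum (Subgroup.zpowers x) u 2 (by norm_num) (by rw [sq, hu])
    (by
      intro t ht
      rcases hsc.mem_zpowers ht with h | h | h
      · rw [h]; simp
      · rw [h, hux]; exact inv_mem (Subgroup.mem_zpowers x)
      · rw [h]
        have : u * x⁻¹ * u⁻¹ = (u * x * u⁻¹)⁻¹ := by group
        rw [this, hux, inv_inv]
        exact Subgroup.mem_zpowers x)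
    (by
      intro i hi0 hi2
      have : i = 1 := by omega
      rw [this, pow_one]
      exact hu1) hch
  simp only [Finset.sum_range_succ, Finset.range_zero, Finset.sum_empty, zero_add, pow_zero, mul_one,
    pow_one] at hn₀
  rw [Finset.sum_add_distrib] at hn₀
  have h1 := sum_const_off_one (E := Subgroup.zpowers x) (fun e => χ₁.1 e) 1 (by
    intro t ht
    have ht1 : (t : G) ≠ 1 := fun h => ht (Subtype.ext h)
    rcases hsc.mem_zpowers t.2 with h | h | h
    · exact absurd h ht1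
    · simp only [h, D.v1]
    · simp only [h, hxi])
  have h2 : ∑ t : Subgroup.zpowers x, χ₁.1 ((t : G) * u) = 3 * e := by
    have hval : ∀ t : Subgroup.zpowers x, χ₁.1 ((t : G) * u) = e := by
      intro t
      rw [← he]
      have hc : IsConj u ((t : G) * u) := by
        rcases hsc.mem_zpowers t.2 with h | h | h
        · rw [h, one_mul]
        · rw [h]; exact conj_xu hsc hu hux
        · rw [h]; exact conj_xiu hsc hu hux
      obtain ⟨g, hg⟩ := isConj_iff.mp hc
      rw [← hg]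
      exact hcl u g
    rw [Finset.sum_congr rfl (fun t _ => hval t), Finset.sum_const, Finset.card_univ,
      ← Nat.card_eq_fintype_card, hsc.card_zpowers]
    simp
  rw [h1, h2, hsc.card_zpowers] at hn₀
  simp only [OneMemClass.coe_one, D.d1] at hn₀
  have h3 : (((d : ℤ) + 2 + 3 * e : ℤ) : ℂ) = ((6 * (n₀ : ℤ) : ℤ) : ℂ) := by
    push_cast at hn₀ ⊢
    linear_combination hn₀
  have h4 : ((d : ℤ) + 2 + 3 * e : ℤ) = 6 * (n₀ : ℤ) := by exact_mod_cast h3
  rw [h4]
  positivity

lemma Act3.cube_mul {E : Subgroup G} {y : G} (h : Act3 E y) {t : G} (ht : t ∈ E) :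
    (t * y) ^ 3 = 1 := by
  have h1 := h.prod t ht
  have h2 := h.cube
  calc (t * y) ^ 3 = (t * (y * t * y⁻¹) * (y * (y * t * y⁻¹) * y⁻¹)) * y ^ 3 := by
        simp only [pow_three]; group
    _ = 1 := by rw [h1, h2, one_mul]

/-- The value of `χ₁` on `E y`. -/
lemma val_Ey (hsc : SC x) (hu : u * u = 1) (hux : u * x * u⁻¹ = x⁻¹) (D : TD x χ₁ χ₂ d)
    {E : Subgroup G} {y : G} (hy : IsConj x y) (hA : Act3 E y) (he2 : ∀ e ∈ E, e * e = 1)
    {t : G} (ht : t ∈ E) : χ₁.1 (t * y) = 1 := by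
  have hcj : IsConj x x⁻¹ := isConj_x_inv hu hux
  have hsy : SC y := hsc.of_isConj hy
  have hne : t * y ≠ 1 := by
    intro h
    have h1 : y = t⁻¹ := eq_inv_of_mul_eq_one_right h
    have h2 : y ∈ E := h1 ▸ inv_mem ht
    have h3 := he2 y h2
    have h4 := hsy.mul3
    rw [h3, one_mul] at h4
    exact hsy.ne h4
  have hc : IsConj x (t * y) := conj_of_cube' hsc hcj (Act3.cube_mul hA ht) hne
  obtain ⟨g, hg⟩ := isConj_iff.mp hc
  rw [← hg]
  rw [isClassFunction_of_isIrrCharacter χ₁.2 x g, D.v1]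

/-- The multiplicity lemma on an elementary abelian subgroup normalized by a conjugate of `x`. -/
lemma E_bound (hsc : SC x) (hu : u * u = 1) (hux : u * x * u⁻¹ = x⁻¹) (D : TD x χ₁ χ₂ d)
    {e : ℤ} (he : χ₁.1 u = e) (hall : ∀ z : G, z * z = 1 → z ≠ 1 → IsConj u z)
    (E : Subgroup G) (y : G) (hy : IsConj x y) (hi : ∀ t ∈ E, y * t * y⁻¹ ∈ E)
    (he2 : ∀ t ∈ E, t * t = 1) :
    ∃ k : ℕ, 1 ≤ k ∧ (d : ℤ) + ((Nat.card E : ℤ) - 1) * e = (Nat.card E : ℤ) * k := by
  classical
  haveI : Fintype E := Fintype.ofFinite _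
  have hcj : IsConj x x⁻¹ := isConj_x_inv hu hux
  have hsy : SC y := hsc.of_isConj hy
  have hch := isCharacter_of_isIrrCharacter χ₁.2
  have hcl := isClassFunction_of_isIrrCharacter χ₁.2
  have hA : Act3 E y := ⟨hsy.cube, hi, fun s hs hf => by
    apply hsy.invol_comm (he2 s hs)
    calc s * y = (y * s * y⁻¹) * y := by rw [hf]
      _ = y * s := by group⟩
  have hyE : y ∉ E := fun h => by
    have h3 := he2 y h
    have h4 := hsy.mul3
    rw [h3, one_mul] at h4
    exact hsy.ne h4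
  have hcjy : IsConj x y⁻¹ := by
    have : IsConj x⁻¹ y⁻¹ := by
      obtain ⟨g, hg⟩ := isConj_iff.mp hy
      refine isConj_iff.mpr ⟨g, ?_⟩
      rw [← hg]; group
    exact hcj.trans this
  obtain ⟨k, hk⟩ := sum_subgroup E hch
  have h1 := sum_const_off_one (E := E) (fun t => χ₁.1 t) e (by
    intro t ht
    have ht1 : (t : G) ≠ 1 := fun h => ht (Subtype.ext h)
    have hc := hall t (he2 t t.2) ht1
    obtain ⟨g, hg⟩ := isConj_iff.mp hc
    show χ₁.1 (t : G) = e
    rw [← hg, hcl u g, he])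
  obtain ⟨n', hn'⟩ := coset_sum E y 3 (by norm_num) hsy.cube hi (by
    intro i hi0 hi3
    have : i = 1 ∨ i = 2 := by omega
    rcases this with rfl | rfl
    · rw [pow_one]; exact hyE
    · intro hmem
      have h3 := he2 _ hmem
      rw [sq, hsy.sq, hsy.inv_sq] at h3
      exact hsy.ne h3) hch
  simp only [Finset.sum_range_succ, Finset.range_zero, Finset.sum_empty, zero_add, pow_zero, mul_one,
    pow_one] at hn'
  rw [Finset.sum_add_distrib, Finset.sum_add_distrib, hk] at hn'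
  have h2 : ∑ t : E, χ₁.1 ((t : G) * y) = (Nat.card E : ℂ) := by
    rw [Finset.sum_congr rfl (fun t _ => val_Ey hsc hu hux D hy hA he2 t.2), Finset.sum_const,
      Finset.card_univ, ← Nat.card_eq_fintype_card]
    simp
  have h3 : ∑ t : E, χ₁.1 ((t : G) * y ^ 2) = (Nat.card E : ℂ) := by
    have hy2 : y ^ 2 = y⁻¹ := by rw [sq, hsy.sq]
    rw [hy2]
    rw [Finset.sum_congr rfl (fun t _ => val_Ey hsc hu hux D hcjy hA.inv_act he2 t.2), Finset.sum_const,
      Finset.card_univ, ← Nat.card_eq_fintype_card]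
    simp
  rw [h2, h3] at hn'
  have hm : (Nat.card E : ℂ) ≠ 0 := Nat.cast_ne_zero.mpr Nat.card_pos.ne'
  have h4 : (k : ℂ) + 2 = 3 * n' := by
    have : (Nat.card E : ℂ) * ((k : ℂ) + 2) = (Nat.card E : ℂ) * (3 * n') := by
      push_cast at hn'
      linear_combination hn'
    exact mul_left_cancel₀ hm this
  have h5 : k + 2 = 3 * n' := by exact_mod_cast h4
  refine ⟨k, by omega, ?_⟩
  rw [hk] at h1
  simp only [OneMemClass.coe_one, D.d1] at h1
  have h6 : (((d : ℤ) + ((Nat.card E : ℤ) - 1) * e : ℤ) : ℂ) = (((Nat.card E : ℤ) * k : ℤ) : ℂ) := by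
    push_cast
    linear_combination -h1
  exact_mod_cast h6

end Cfsg.Agent.Lib.FT3.Chars
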