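import Cfsg.Agent.Lib.FT3.Chars4

/-!
# Numbers from the three characters: the final statement
-/

set_option autoImplicit false
set_option linter.style.haveILetI false
set_option linter.unusedSectionVars false
set_option linter.unusedVariables false

namespace Cfsg.Agent.Lib.FT3.Chars

open Cfsg Cfsg.Agent.Lib.FT3.Fpf Cfsg.Agent.Lib.FT3.Base Cfsg.Agent.Lib.FT3.CharGen
open Cfsg.Agent.Lib.Char.Basic Cfsg.Agent.Lib.Char.Ortho Cfsg.Agent.Lib.Char.Complete
  Cfsg.Agent.Lib.Char.ClassProd Cfsg.Agent.Lib.Char.Linear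
open scoped ComplexConjugate

universe u

variable {G : Type u} [Group G] [Finite G] {x u : G} {χ₁ χ₂ : IrrCharacter G} {d : ℕ}

/-- Characters of 2-defect zero vanish at involutions. -/
lemma defect_zero {ψ : G → ℂ} (hψ : IsIrrCharacter G ψ) {m k : ℕ} (h1 : ψ 1 = m)
    (hG : Nat.card G = m * k) (hk : Odd k) (hu : u * u = 1) (hu1 : u ≠ 1) : ψ u = 0 := by
  obtain ⟨n, ρ, hirr, rfl⟩ := hψ
  haveI := hirr
  have hfin : Module.finrank ℂ (Fin n → ℂ) = m := by
    rw [Representation.char_one] at h1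
    exact_mod_cast h1
  have hm0 : m ≠ 0 := by
    intro h
    rw [h, zero_mul] at hG
    exact Nat.card_pos.ne' hG
  obtain ⟨v, m', hm', hmv⟩ := Nat.exists_eq_two_pow_mul_odd hm0
  have hodd : Odd (m' * k) := hm'.mul hk
  have hG2 : Nat.card G = 2 ^ v * (m' * k) := by rw [hG, hmv]; ring
  have h1' : 2 ^ v ∣ Nat.card G := ⟨_, hG2⟩
  have h2' : ¬ 2 ^ (v + 1) ∣ Nat.card G := by
    rintro ⟨c, hc⟩
    rw [hG2, pow_succ, mul_assoc] at hc
    have := Nat.eq_of_mul_eq_mul_left (by positivity) hc
    rcases hodd with ⟨t, ht⟩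
    omega
  have h3' : 2 ^ v ∣ Module.finrank ℂ (Fin n → ℂ) := by
    rw [hfin, hmv]; exact ⟨_, rfl⟩
  have ho : orderOf u = 2 := orderOf_eq_prime (by rw [sq, hu]) hu1
  exact Cfsg.Agent.Lib.Char.DefectZero.character_eq_zero_of_defect_zero ρ 2 v Nat.prime_two h1' h2' h3' u
    (by rw [ho])

lemma Ycard_conj (x a g : G) : Ycard x (g * a * g⁻¹) = Ycard x a := by
  unfold Ycard
  symm
  apply Nat.card_congr
  refine Equiv.subtypeEquiv (MulAut.conj g).toEquiv ?_
  intro y
  have h1 : IsConj x ((MulAut.conj g).toEquiv y) ↔ IsConj x y := by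
    have : IsConj y ((MulAut.conj g).toEquiv y) := isConj_iff.mpr ⟨g, by simp [MulAut.conj_apply]⟩
    constructor
    · intro h; exact h.trans this.symm
    · intro h; exact h.trans this
  have h2 : (g * a * g⁻¹ * (MulAut.conj g).toEquiv y) ^ 3 = g * (a * y) ^ 3 * g⁻¹ := by
    simp only [MulAut.conj_apply, MulEquiv.toEquiv_eq_coe, MulEquiv.coe_toEquiv, pow_three]
    group
  rw [h1, h2]
  constructor
  · rintro ⟨h3, h4⟩; exact ⟨h3, by rw [h4]; group⟩
  · rintro ⟨h3, h4⟩
    refine ⟨h3, ?_⟩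
    have : (a * y) ^ 3 = g⁻¹ * (g * (a * y) ^ 3 * g⁻¹) * g := by group
    rw [this, h4]; group

lemma i0_conj (x u g : G) : Nat.card {α : G // IsConj u α ∧ (α * (g * x * g⁻¹)) ^ 3 = 1} = i0 x u := by
  unfold i0
  symm
  apply Nat.card_congr
  refine Equiv.subtypeEquiv (MulAut.conj g).toEquiv ?_
  intro y
  have h1 : IsConj u ((MulAut.conj g).toEquiv y) ↔ IsConj u y := by
    have : IsConj y ((MulAut.conj g).toEquiv y) := isConj_iff.mpr ⟨g, by simp [MulAut.conj_apply]⟩
    constructor
    · intro h; exact h.trans this.symm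
    · intro h; exact h.trans this
  have h2 : ((MulAut.conj g).toEquiv y * (g * x * g⁻¹)) ^ 3 = g * (y * x) ^ 3 * g⁻¹ := by
    simp only [MulAut.conj_apply, MulEquiv.toEquiv_eq_coe, MulEquiv.coe_toEquiv, pow_three]
    group
  rw [h1, h2]
  constructor
  · rintro ⟨h3, h4⟩; exact ⟨h3, by rw [h4]; group⟩
  · rintro ⟨h3, h4⟩
    refine ⟨h3, ?_⟩
    have : (y * x) ^ 3 = g⁻¹ * (g * (y * x) ^ 3 * g⁻¹) * g := by group
    rw [this, h4]; group

lemma Y_count (x u a : G) (ha : IsConj u a) :
    Nat.card {g : G // IsConj u g} * Ycard x a = Nat.card {g : G // IsConj x g} * i0 x u := by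
  classical
  cases nonempty_fintype G
  let K : Finset G := Finset.univ.filter (fun g => IsConj u g)
  let L : Finset G := Finset.univ.filter (fun g => IsConj x g)
  let R : G → G → Prop := fun α y => (α * y) ^ 3 = 1
  have hK : K.card = Nat.card {g : G // IsConj u g} := by
    rw [Nat.card_eq_fintype_card, Fintype.card_subtype]
  have hL : L.card = Nat.card {g : G // IsConj x g} := by
    rw [Nat.card_eq_fintype_card, Fintype.card_subtype]
  have hdc := Finset.sum_card_bipartiteAbove_eq_sum_card_bipartiteBelow (s := K) (t := L) R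
  have h1 : ∀ α ∈ K, (L.bipartiteAbove R α).card = Ycard x a := by
    intro α hα
    have hα' : IsConj u α := by simpa [K] using hα
    have h2 : IsConj a α := ha.symm.trans hα'
    obtain ⟨g, hg⟩ := isConj_iff.mp h2
    rw [← Ycard_conj x a g, hg]
    unfold Ycard
    rw [Nat.card_eq_fintype_card, Fintype.card_subtype]
    congr 1
    ext y
    simp only [Finset.bipartiteAbove, Finset.mem_filter, L, R, Finset.mem_univ, true_and]
  have h2 : ∀ y ∈ L, (K.bipartiteBelow R y).card = i0 x u := by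
    intro y hy
    have hy' : IsConj x y := by simpa [L] using hy
    obtain ⟨g, hg⟩ := isConj_iff.mp hy'
    rw [← i0_conj x u g, hg]
    rw [Nat.card_eq_fintype_card, Fintype.card_subtype]
    congr 1
    ext α
    simp only [Finset.bipartiteBelow, Finset.mem_filter, K, R, Finset.mem_univ, true_and]
  rw [Finset.sum_congr rfl h1, Finset.sum_congr rfl h2, Finset.sum_const, Finset.sum_const, smul_eq_mul,
    smul_eq_mul, hK, hL] at hdc
  exact hdc

/-- The numbers attached to a simple group with a self-centralizing element of order 3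
inverted by an involution. -/
structure Nums (G : Type u) [Group G] (x : G) (d F r f n : ℕ) : Prop where
  d2 : 2 ≤ d
  hd : d % 3 = 1
  hF : 0 < F
  hr : 0 < r
  allconj : ∀ a b : G, a * a = 1 → a ≠ 1 → b * b = 1 → b ≠ 1 → IsConj a b
  card : ∀ a : G, a * a = 1 → a ≠ 1 → Nat.card (Subgroup.centralizer ({a} : Set G)) = r * F
  nF : n * F = 3 * r * d * (d + 1)
  cardG : Nat.card G = n * (r * F)
  fi : 3 * f + r * (2 * d + 1) = n
  bound : 3 * F ≤ 4 * d + 2
  E : ∀ (E : Subgroup G) (y : G), IsConj x y → (∀ t ∈ E, y * t * y⁻¹ ∈ E) → (∀ t ∈ E, t * t = 1) →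
    (Nat.card E - 1) * F + Nat.card E ≤ Nat.card E * d
  r1 : r = 1 → (Even d ∧ F = d) ∨ (Odd d ∧ F = d + 1)
  Y : ∀ a : G, a * a = 1 → a ≠ 1 → Ycard x a = r * F * f

theorem numbers (hsc : SC x) (hu : u * u = 1) (hux : u * x * u⁻¹ = x⁻¹) [IsSimpleGroup G]
    (hnc : ∃ a b : G, a * b ≠ b * a) : ∃ d F r f n : ℕ, Nums G x d F r f n := by
  have hcj : IsConj x x⁻¹ := isConj_x_inv hu hux
  have hu1 : u ≠ 1 := by
    rintro rfl
    apply hsc.ne_inv
    simpa using hux
  obtain ⟨χ₁, χ₂, d, D⟩ := exists_chars hsc hcj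
  obtain ⟨e, he⟩ := Cfsg.Agent.Lib.V4TI.Core.char_x_int hu (isCharacter_of_isIrrCharacter χ₁.2)
  obtain ⟨F, r, hF, hr, hFe, hcard, hnF⟩ := exists_r hsc hu hux D he
  have hall : ∀ z : G, z * z = 1 → z ≠ 1 → IsConj u z := by
    intro z hz hz1
    by_contra hc
    exact hz1 (faithful D (invol_ker hsc hu hux D he hz hc))
  set n := Nat.card {g : G // IsConj u g} with hn
  have hc3 : ¬ 3 ∣ Nat.card (Subgroup.centralizer ({u} : Set G)) := hsc.not_dvd_centralizer hu hu1
  have hY : ∀ a : G, IsConj u a → 3 * Ycard x a = r * F * i0 x u := by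
    intro a ha
    have h1 := Y_count x u a ha
    have h2 := class_card u
    have h3 := class_x_card hsc
    have hnpos : 0 < n := class_pos u
    apply Nat.eq_of_mul_eq_mul_left hnpos
    rw [← hcard]
    calc n * (3 * Ycard x a) = 3 * (n * Ycard x a) := by ring
      _ = 3 * (Nat.card {g : G // IsConj x g} * i0 x u) := by rw [h1]
      _ = (Nat.card {g : G // IsConj x g} * 3) * i0 x u := by ring
      _ = (n * Nat.card (Subgroup.centralizer ({u} : Set G))) * i0 x u := by rw [h3, ← h2]
      _ = _ := by ring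
  have h3i : 3 ∣ i0 x u := by
    have h1 := hY u (IsConj.refl u)
    have h2 : 3 ∣ r * F * i0 x u := ⟨_, h1.symm⟩
    rw [← hcard] at h2
    exact (Nat.Prime.dvd_mul Nat.prime_three).mp h2 |>.resolve_left hc3
  obtain ⟨f, hf⟩ := h3i
  have hdm := D.hd
  refine ⟨d, F, r, f, n, two_le D hnc, D.hd, hF, hr, ?_, ?_, hnF, ?_, ?_, ?_, ?_, ?_, ?_⟩
  · intro a b ha ha1 hb hb1
    exact (hall a ha ha1).symm.trans (hall b hb hb1)
  · intro a ha ha1
    have hc := hall a ha ha1
    have h1 : Nat.card {y : G // IsConj a y} = Nat.card {y : G // IsConj u y} :=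
      Nat.card_congr (Equiv.subtypeEquivRight (fun y => ⟨fun h => hc.trans h, fun h => hc.symm.trans h⟩))
    have h2 := class_card a
    have h3 := class_card u
    rw [h1] at h2
    rw [← hcard]
    exact Nat.eq_of_mul_eq_mul_left (class_pos u) (h2.trans h3.symm)
  · rw [← class_card u, hcard]
  · rw [← hf]
    exact i0_eq hsc hu hux D he hFe hnF
  · have h := s3_bound hsc hu hux D he
    have : (3 : ℤ) * F ≤ 4 * d + 2 := by rw [hFe]; linarith
    exact_mod_cast this
  · intro E y hy hi he2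
    obtain ⟨k, hk, hkE⟩ := E_bound hsc hu hux D he hall E y hy hi he2
    have hpos : 0 < Nat.card E := Nat.card_pos
    have he' : e = d - F := by linarith
    rw [he'] at hkE
    have h1 : ((Nat.card E - 1 : ℕ) : ℤ) = (Nat.card E : ℤ) - 1 := by
      rw [Nat.cast_sub hpos]; rfl
    have : (((Nat.card E - 1) * F + Nat.card E : ℕ) : ℤ) ≤ ((Nat.card E * d : ℕ) : ℤ) := by
      push_cast
      rw [h1]
      have h2 : (Nat.card E : ℤ) * 1 ≤ (Nat.card E : ℤ) * k :=
        mul_le_mul_of_nonneg_left (by exact_mod_cast hk) (by positivity)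
      nlinarith
    exact_mod_cast this
  · intro hr1
    subst hr1
    have hG : Nat.card G = 3 * d * (d + 1) := by
      rw [← class_card u, hcard, ← hn]
      have : n * (1 * F) = 3 * 1 * d * (d + 1) := by rw [one_mul, hnF]
      rw [this]
    rcases Nat.even_or_odd d with hev | hod
    · left
      refine ⟨hev, ?_⟩
      have h0 := defect_zero χ₁.2 (m := d) (k := 3 * (d + 1)) D.d1 (by rw [hG]; ring)
        (by
          have : Odd (d + 1) := hev.add_one
          exact (by decide : Odd 3).mul this) hu hu1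
      rw [he] at h0
      have : e = 0 := by exact_mod_cast h0
      rw [this] at hFe
      have : (F : ℤ) = d := by simpa using hFe
      exact_mod_cast this
    · right
      refine ⟨hod, ?_⟩
      have h0 := defect_zero χ₂.2 (m := d + 1) (k := 3 * d) (by rw [D.d2]; push_cast; rfl)
        (by rw [hG]; ring)
        ((by decide : Odd 3).mul hod) hu hu1
      rw [D.off_class (not_conj_of_invol hsc hu), he] at h0
      have h1 : (1 + (e : ℂ)) = ((1 + e : ℤ) : ℂ) := by simp
      rw [h1] at h0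
      have h2 : 1 + e = 0 := by exact_mod_cast h0
      have h3 : e = -1 := by omega
      rw [h3] at hFe
      have : (F : ℤ) = d + 1 := by simpa using hFe
      exact_mod_cast this
  · intro a ha ha1
    have h1 := hY a (hall a ha ha1)
    rw [hf] at h1
    have : 3 * Ycard x a = 3 * (r * F * f) := by rw [h1]; ring
    exact Nat.eq_of_mul_eq_mul_left (by norm_num) this

end Cfsg.Agent.Lib.FT3.Chars
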