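import Cfsg.Agent.Lib.FT3.Two

/-!
# The conclusion of the induction and the structure of `N(S)/S`
-/

set_option autoImplicit false
set_option linter.style.haveILetI false
set_option linter.unusedSectionVars false
set_option linter.unusedVariables false

namespace Cfsg.Agent.Lib.FT3.Conc

open Cfsg.Agent.Lib.FT3.Fpf Cfsg.Agent.Lib.FT3.Base Cfsg.Agent.Lib.FT3.Two

universe u

/-- A nontrivial `x`-invariant 2-subgroup. -/
def HasS {G : Type*} [Group G] (x : G) : Prop :=
  ∃ P : Subgroup G, P ≠ ⊥ ∧ IsPGroup 2 P ∧ ∀ p ∈ P, x * p * x⁻¹ ∈ P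

/-- First case. -/
def TypeI (G : Type*) [Group G] : Prop :=
  ∃ (N : Subgroup G) (hN : N.Normal), Group.IsNilpotent N ∧ (Nat.card N).Coprime 3 ∧
    (Nat.card (G ⧸ N) = 3 ∨ Nonempty (G ⧸ N ≃* Equiv.Perm (Fin 3)))

/-- Second case. -/
def TypeII (G : Type*) [Group G] : Prop :=
  ∃ (N : Subgroup G) (hN : N.Normal), IsMulCommutative N ∧ (∀ n ∈ N, n ^ 2 = 1) ∧
    Nonempty (G ⧸ N ≃* alternatingGroup (Fin 5))

/-- Third case. -/
def TypeIII (G : Type*) [Group G] : Prop := IsSimpleGroup G ∧ Nat.card G = 168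

/-- The conclusion of the induction. -/
def Conc {G : Type*} [Group G] (x : G) : Prop :=
  TypeI G ∨ (TypeII G ∧ HasS x) ∨ (TypeIII G ∧ HasS x)

lemma s3_inv : ∀ c : Equiv.Perm (Fin 3), c ^ 3 = 1 → c ≠ 1 →
    Equiv.swap 0 1 * c * (Equiv.swap 0 1)⁻¹ = c⁻¹ := by decide

lemma s3_all : ∀ c g : Equiv.Perm (Fin 3), c ^ 3 = 1 → c ≠ 1 →
    g = 1 ∨ g = c ∨ g = c * c ∨ g = Equiv.swap 0 1 ∨ g = Equiv.swap 0 1 * c ∨
      g = Equiv.swap 0 1 * (c * c) := by decide

section Abs

variable {M : Type*} [Group M] [Finite M]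

lemma exists_pow_of_card_three {Q : Type*} [Group Q] [Finite Q] (h : Nat.card Q = 3) {c : Q}
    (hc : c ≠ 1) (q : Q) : ∃ i : ℕ, q = c ^ i := by
  haveI : Fact (Nat.Prime 3) := ⟨Nat.prime_three⟩
  have hord : orderOf c = 3 := by
    have h1 : orderOf c ∣ 3 := h ▸ orderOf_dvd_natCard c
    rcases (Nat.dvd_prime Nat.prime_three).mp h1 with h2 | h2
    · exact absurd (orderOf_eq_one_iff.mp h2) hc
    · exact h2
  have htop : Subgroup.zpowers c = ⊤ := by
    apply Subgroup.eq_top_of_card_eq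
    rw [Nat.card_zpowers, hord, h]
  have hq : q ∈ Subgroup.zpowers c := by rw [htop]; trivial
  have := mem_powers_iff_mem_zpowers.mpr hq
  obtain ⟨i, hi⟩ := this
  exact ⟨i, hi.symm⟩

/-- The structure of a group `M` with a normal subgroup `S`, from the conclusion on `M/S` -/
theorem MxAbs (S : Subgroup M) [hS : S.Normal] (y : M) (hsc : SC y) (hA : Act3 S y)
    (hno : ¬ HasS ((y : M) : M ⧸ S)) (hC : Conc ((y : M) : M ⧸ S)) :
    ∃ Y : Subgroup M, Y.Normal ∧ S ≤ Y ∧ Act3 Y y ∧ (∀ e ∈ Y, Tw e → e ∈ S) ∧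
      ((∀ m, ∃ i : ℕ, ∃ e ∈ Y, m = y ^ i * e) ∨
       (∃ t : M, t * t = 1 ∧ t * y * t⁻¹ = y⁻¹ ∧ ∀ m, ∃ i : ℕ, ∃ e ∈ Y, m = y ^ i * e ∨ m = t * y ^ i * e)) := by
  rcases hC with ⟨N, hN, hnil, h3, hq⟩ | ⟨_, h⟩ | ⟨_, h⟩
  rotate_left
  · exact absurd h hno
  · exact absurd h hno
  haveI := hN
  have hsc' : SC ((y : M) : M ⧸ S) := hsc.quot S hA
  have hAN : Act3 N ((y : M) : M ⧸ S) := hsc'.act3 (by
    intro h
    have := Nat.Coprime.eq_one_of_dvd h3.symm h
    omega) (fun n hn => hN.conj_mem n hn _)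
  have hQ : Qof N = ⊥ := by
    by_contra hne
    exact hno ⟨Qof N, hne, Act3.isP_Qof hAN, (Act3.Qof_act hAN).inv⟩
  set f := QuotientGroup.mk' S with hf
  set Y := N.comap f with hY
  have hYn : Y.Normal := hN.comap f
  have hSY : S ≤ Y := by
    intro s hs
    have : f s = 1 := (QuotientGroup.eq_one_iff s).mpr hs
    show f s ∈ N
    rw [this]; exact one_mem _
  have htwo : ∀ e ∈ Y, Tw e → e ∈ S := by
    intro e he ht
    have h1 : f e ∈ N := he
    have h2 : Tw (f e) := by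
      obtain ⟨k, hk⟩ := ht
      exact ⟨k, by rw [← map_pow, hk, map_one]⟩
    have h4 : f e ∈ Qof N := mem_Qof h1 h2
    rw [hQ] at h4
    exact (QuotientGroup.eq_one_iff e).mp h4
  have hyN : ((y : M) : M ⧸ S) ∉ N := fun h => hsc'.ne (hAN.fix _ h (by group))
  have hyY : y ∉ Y := hyN
  have hAY : Act3 Y y := by
    refine ⟨hsc.cube, fun s hs => hYn.conj_mem s hs y, ?_⟩
    intro s hs hfix
    have hc : s * y = y * s := by
      calc s * y = (y * s * y⁻¹) * y := by rw [hfix]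
        _ = y * s := by group
    rcases hsc.cent s hc with h1 | h1 | h1
    · exact h1
    · rw [h1] at hs; exact absurd hs hyY
    · rw [h1] at hs; exact absurd (by simpa using inv_mem hs) hyY
  refine ⟨Y, hYn, hSY, hAY, htwo, ?_⟩
  let π : M →* (M ⧸ S) ⧸ N := (QuotientGroup.mk' N).comp f
  have hπ : ∀ m, π m = 1 ↔ m ∈ Y := by
    intro m
    show (QuotientGroup.mk' N) (f m) = 1 ↔ f m ∈ N
    exact QuotientGroup.eq_one_iff _
  have hπs : Function.Surjective π :=
    (QuotientGroup.mk'_surjective N).comp (QuotientGroup.mk'_surjective S)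
  have hπy : π y ≠ 1 := fun h => hyY ((hπ y).mp h)
  rcases hq with hq | ⟨⟨iso⟩⟩
  · left
    intro m
    obtain ⟨i, hi⟩ := exists_pow_of_card_three hq hπy (π m)
    refine ⟨i, (y ^ i)⁻¹ * m, ?_, by group⟩
    rw [← hπ, map_mul, map_inv, map_pow, hi]
    group
  · right
    let φ : M →* Equiv.Perm (Fin 3) := iso.toMonoidHom.comp π
    have hφ : ∀ m, φ m = 1 ↔ m ∈ Y := by
      intro m
      rw [← hπ]
      show iso (π m) = 1 ↔ _
      exact map_eq_one_iff iso iso.injective
    have hφs : Function.Surjective φ := iso.surjective.comp hπs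
    set c := φ y with hc
    have hc3 : c ^ 3 = 1 := by rw [hc, ← map_pow, hsc.cube, map_one]
    have hc1 : c ≠ 1 := fun h => hyY ((hφ y).mp h)
    obtain ⟨m₀, hm₀⟩ := hφs (Equiv.swap 0 1)
    set y' := m₀ * y * m₀⁻¹ with hy'
    have hy'φ : φ y' = c⁻¹ := by
      rw [hy', map_mul, map_mul, map_inv, hm₀, ← s3_inv c hc3 hc1]
    set e := y' * y with he
    have heY : e ∈ Y := by
      rw [← hφ, he, map_mul, hy'φ, inv_mul_cancel]
    obtain ⟨h, hhY, hh⟩ := hAY.inv_act.surj3 e heY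
    have hy'2 : y' = h * y⁻¹ * h⁻¹ := by
      have h1 : y' = e * y⁻¹ := by rw [he]; group
      rw [h1, ← hh]; group
    set t := h⁻¹ * m₀ with ht
    have hty : t * y * t⁻¹ = y⁻¹ := by
      calc t * y * t⁻¹ = h⁻¹ * y' * h := by rw [ht, hy']; group
        _ = y⁻¹ := by rw [hy'2]; group
    have htt : t * t = 1 := by
      have hc2 : (t * t) * y = y * (t * t) := by
        have h1 : t * y = y⁻¹ * t := by
          rw [← hty]; group
        have h2 : t * y⁻¹ = y * t := by
          calc t * y⁻¹ = (t * y * t⁻¹)⁻¹ * t := by group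
            _ = y * t := by rw [hty, inv_inv]
        calc (t * t) * y = t * (t * y) := by group
          _ = t * (y⁻¹ * t) := by rw [h1]
          _ = (t * y⁻¹) * t := by group
          _ = (y * t) * t := by rw [h2]
          _ = y * (t * t) := by group
      rcases hsc.cent _ hc2 with h1 | h1 | h1
      · exact h1
      · exfalso
        apply hsc.ne_inv
        have h2 : t * (t * t) * t⁻¹ = t * t := by group
        rw [h1, hty] at h2
        exact h2.symm
      · exfalso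
        apply hsc.ne_inv
        have h2 : t * (t * t) * t⁻¹ = t * t := by group
        rw [h1] at h2
        have h3 : t * y⁻¹ * t⁻¹ = (t * y * t⁻¹)⁻¹ := by group
        rw [h3, hty, inv_inv] at h2
        exact h2
    have hφt : φ t = Equiv.swap 0 1 := by
      rw [ht, map_mul, map_inv, hm₀]
      have : φ h = 1 := (hφ h).mpr hhY
      rw [this]; simp
    refine ⟨t, htt, hty, ?_⟩
    intro m
    have hall := s3_all c (φ m) hc3 hc1
    have pow_case : ∀ i : ℕ, φ m = φ (y ^ i) → ∃ i : ℕ, ∃ e ∈ Y, m = y ^ i * e ∨ m = t * y ^ i * e := by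
      intro i hi
      refine ⟨i, (y ^ i)⁻¹ * m, ?_, Or.inl (by group)⟩
      rw [← hφ, map_mul, map_inv, hi]; group
    have tpow_case : ∀ i : ℕ, φ m = φ (t * y ^ i) → ∃ i : ℕ, ∃ e ∈ Y, m = y ^ i * e ∨ m = t * y ^ i * e := by
      intro i hi
      refine ⟨i, (t * y ^ i)⁻¹ * m, ?_, Or.inr (by group)⟩
      rw [← hφ, map_mul, map_inv, hi]; group
    rcases hall with h1 | h1 | h1 | h1 | h1 | h1
    · exact pow_case 0 (by rw [h1]; simp)
    · exact pow_case 1 (by rw [h1, pow_one])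
    · exact pow_case 2 (by rw [h1, map_pow, sq])
    · exact tpow_case 0 (by rw [h1, pow_zero, mul_one, hφt])
    · exact tpow_case 1 (by rw [h1, pow_one, map_mul, hφt])
    · exact tpow_case 2 (by rw [h1, map_mul, hφt, map_pow, sq])

end Abs

variable {G : Type u} [Group G] [Finite G]

/-- conjugation by `m` preserving `S` means `m` normalizes `S` -/
lemma mem_normalizer_of_conj {S : Subgroup G} {m : G} (h : ∀ s ∈ S, m * s * m⁻¹ ∈ S) :
    m ∈ Subgroup.normalizer (S : Set G) := by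
  rw [Subgroup.mem_normalizer_iff]
  intro t
  refine ⟨h t, ?_⟩
  intro ht
  let φ : S → S := fun s => ⟨m * s * m⁻¹, h s s.2⟩
  have hinj : Function.Injective φ := by
    intro a b hab
    have : m * (a : G) * m⁻¹ = m * b * m⁻¹ := congrArg Subtype.val hab
    exact Subtype.ext (mul_left_cancel (mul_right_cancel this))
  have hsurj := Finite.surjective_of_injective hinj
  obtain ⟨s, hs⟩ := hsurj ⟨m * t * m⁻¹, ht⟩
  have h1 : m * (s : G) * m⁻¹ = m * t * m⁻¹ := congrArg Subtype.val hs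
  have h2 : (s : G) = t := mul_left_cancel (mul_right_cancel h1)
  rw [← h2]; exact s.2

end Cfsg.Agent.Lib.FT3.Conc
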