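import Cfsg.Agent.Lib.FT3.Two
import Cfsg.Agent.Lib.FT3.Chars5

/-!
# The counting lemma: conjugates `y` of `x` with `(a y)³ = 1`
-/

set_option autoImplicit false
set_option linter.style.haveILetI false
set_option linter.unusedSectionVars false
set_option linter.unusedVariables false

namespace Cfsg.Agent.Lib.FT3.Count

open Cfsg.Agent.Lib.FT3.Fpf Cfsg.Agent.Lib.FT3.Base Cfsg.Agent.Lib.FT3.Two

variable {G : Type*} [Group G] [Finite G]

open scoped Classical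

/-- The elements of a subgroup as a finset. -/
noncomputable def fin (C : Subgroup G) : Finset G := (Set.toFinite (C : Set G)).toFinset

lemma mem_fin {C : Subgroup G} {g : G} : g ∈ fin C ↔ g ∈ C := by
  simp [fin]

lemma card_fin (C : Subgroup G) : (fin C).card = Nat.card C := by
  rw [fin, ← Set.ncard_eq_toFinset_card _ (Set.toFinite _)]
  exact (Nat.card_coe_set_eq _).symm

/-- Centralizer of an element. -/
abbrev Cn (b : G) : Subgroup G := Subgroup.centralizer ({b} : Set G)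

lemma mem_Cn {b g : G} : g ∈ Cn b ↔ g * b = b * g := by
  rw [Subgroup.mem_centralizer_singleton_iff]

/-- fibers are cosets of a subgroup -/
lemma card_eq_image_mul {α : Type*} (A : Finset G) (K : Subgroup G) (f : G → α)
    (h : ∀ g ∈ A, ∀ g', (g' ∈ A ∧ f g' = f g) ↔ g' * g⁻¹ ∈ K) :
    A.card = (A.image f).card * Nat.card K := by
  rw [Finset.card_eq_sum_card_image f A, ← smul_eq_mul, ← Finset.sum_const]
  refine Finset.sum_congr rfl ?_
  intro v hv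
  obtain ⟨g, hg, rfl⟩ := Finset.mem_image.mp hv
  have : A.filter (fun g' => f g' = f g) = (fin K).image (fun k => k * g) := by
    ext g'
    simp only [Finset.mem_filter, Finset.mem_image, mem_fin]
    rw [h g hg g']
    constructor
    · intro h1
      exact ⟨g' * g⁻¹, h1, by group⟩
    · rintro ⟨k, hk, rfl⟩
      have : k * g * g⁻¹ = k := by group
      rwa [this]
  rw [this, Finset.card_image_of_injective _ (mul_left_injective g), card_fin]

/-- Orbit-stabilizer for conjugation by a subgroup. -/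
lemma orbit_stab (C : Subgroup G) (b : G) :
    ((fin C).image (fun g => g * b * g⁻¹)).card * Nat.card (C ⊓ Cn b : Subgroup G) = Nat.card C := by
  rw [← card_fin C]
  have h := card_eq_image_mul (fin C) ((C ⊓ Cn b : Subgroup G)) (fun g => g⁻¹ * b * g)
  have h' : ∀ g ∈ fin C, ∀ g', (g' ∈ fin C ∧ g'⁻¹ * b * g' = g⁻¹ * b * g) ↔ g' * g⁻¹ ∈ (C ⊓ Cn b : Subgroup G) := by
    intro g hg g'
    rw [mem_fin] at hg
    rw [mem_fin, Subgroup.mem_inf, mem_Cn]
    constructor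
    · rintro ⟨h1, h2⟩
      refine ⟨mul_mem h1 (inv_mem hg), ?_⟩
      have h3 : b * g' * g⁻¹ = g' * (g'⁻¹ * b * g') * g⁻¹ := by group
      rw [mul_assoc g', ← mul_assoc b, h3, h2]
      group
    · rintro ⟨h1, h2⟩
      have hg' : g' ∈ C := by
        have : g' = (g' * g⁻¹) * g := by group
        rw [this]; exact mul_mem h1 hg
      refine ⟨hg', ?_⟩
      have h3 : g' = (g' * g⁻¹) * g := by group
      calc g'⁻¹ * b * g' = g⁻¹ * ((g' * g⁻¹)⁻¹ * (b * (g' * g⁻¹))) * g := by group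
        _ = g⁻¹ * ((g' * g⁻¹)⁻¹ * ((g' * g⁻¹) * b)) * g := by rw [h2]
        _ = g⁻¹ * b * g := by group
  have := h h'
  -- the orbit under `g ↦ g⁻¹ b g` has the same size as the one under `g ↦ g b g⁻¹`
  have h2 : (fin C).image (fun g => g⁻¹ * b * g) = (fin C).image (fun g => g * b * g⁻¹) := by
    ext v
    simp only [Finset.mem_image, mem_fin]
    constructor
    · rintro ⟨g, hg, rfl⟩
      exact ⟨g⁻¹, inv_mem hg, by group⟩
    · rintro ⟨g, hg, rfl⟩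
      exact ⟨g⁻¹, inv_mem hg, by group⟩
  rw [h2] at this
  exact this.symm

/-- the number of `g ∈ C` with `g⁻¹ b g ∈ T` -/
lemma weight_le (C T : Subgroup G) (hT : T ≤ C) (b : G) (E : ℕ)
    (h1 : ∃ g ∈ C, g * b * g⁻¹ ∈ T)
    (h2 : ∀ g ∈ C, g * b * g⁻¹ ∈ T → E * Nat.card (T ⊓ Cn (g * b * g⁻¹) : Subgroup G) ≤ Nat.card T) :
    E * Nat.card (C ⊓ Cn b : Subgroup G) ≤ ((fin C).filter (fun g => g⁻¹ * b * g ∈ T)).card := by
  obtain ⟨g₀, hg₀, hg₀T⟩ := h1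
  set A := (fin C).filter (fun g => g⁻¹ * b * g ∈ T) with hA
  set b'' := g₀ * b * g₀⁻¹ with hb''
  have hf : ∀ g ∈ A, ∀ g', (g' ∈ A ∧ g'⁻¹ * b * g' = g⁻¹ * b * g) ↔ g' * g⁻¹ ∈ (C ⊓ Cn b : Subgroup G) := by
    intro g hg g'
    have hg1 : g ∈ C := mem_fin.mp (Finset.mem_filter.mp hg).1
    have hg2 : g⁻¹ * b * g ∈ T := (Finset.mem_filter.mp hg).2
    rw [Subgroup.mem_inf, mem_Cn]
    constructor
    · rintro ⟨h3, h4⟩
      have h5 : g' ∈ C := mem_fin.mp (Finset.mem_filter.mp h3).1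
      refine ⟨mul_mem h5 (inv_mem hg1), ?_⟩
      have h6 : b * g' * g⁻¹ = g' * (g'⁻¹ * b * g') * g⁻¹ := by group
      rw [mul_assoc g', ← mul_assoc b, h6, h4]
      group
    · rintro ⟨h3, h4⟩
      have hg' : g' ∈ C := by
        have : g' = (g' * g⁻¹) * g := by group
        rw [this]; exact mul_mem h3 hg1
      have h5 : g'⁻¹ * b * g' = g⁻¹ * b * g := by
        calc g'⁻¹ * b * g' = g⁻¹ * ((g' * g⁻¹)⁻¹ * (b * (g' * g⁻¹))) * g := by group
          _ = g⁻¹ * ((g' * g⁻¹)⁻¹ * ((g' * g⁻¹) * b)) * g := by rw [h4]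
          _ = g⁻¹ * b * g := by group
      refine ⟨?_, h5⟩
      rw [hA, Finset.mem_filter, mem_fin]
      exact ⟨hg', by rw [h5]; exact hg2⟩
  have hcard := card_eq_image_mul A _ _ hf
  rw [hcard]
  apply Nat.mul_le_mul_right
  -- the `T`-orbit of `b''`
  have horb := orbit_stab T b''
  have hE := h2 g₀ hg₀ hg₀T
  have hsub : (fin T).image (fun t => t * b'' * t⁻¹) ⊆ A.image (fun g => g⁻¹ * b * g) := by
    intro v hv
    obtain ⟨t, ht, rfl⟩ := Finset.mem_image.mp hv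
    have ht' := mem_fin.mp ht
    refine Finset.mem_image.mpr ⟨g₀⁻¹ * t⁻¹, ?_, ?_⟩
    · rw [hA, Finset.mem_filter, mem_fin]
      refine ⟨mul_mem (inv_mem hg₀) (inv_mem (hT ht')), ?_⟩
      have : (g₀⁻¹ * t⁻¹)⁻¹ * b * (g₀⁻¹ * t⁻¹) = t * b'' * t⁻¹ := by
        rw [hb'']; group
      rw [this]
      exact mul_mem (mul_mem ht' hg₀T) (inv_mem ht')
    · rw [hb'']; group
  have hle := Finset.card_le_card hsub
  refine le_trans ?_ hle
  -- E ≤ orbit
  have hpos : 0 < Nat.card (T ⊓ Cn b'' : Subgroup G) := Nat.card_pos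
  rw [← horb] at hE
  exact Nat.le_of_mul_le_mul_right hE hpos

/-- The weighted count. -/
theorem weighted (C T : Subgroup G) (hT : T ≤ C) (B : Finset G) (E : ℕ)
    (hB : ∀ g ∈ C, ∀ b ∈ B, g * b * g⁻¹ ∈ B)
    (h1 : ∀ b ∈ B, ∃ g ∈ C, g * b * g⁻¹ ∈ T)
    (h2 : ∀ b ∈ B, b ∈ T → E * Nat.card (T ⊓ Cn b : Subgroup G) ≤ Nat.card T) :
    E * ∑ b ∈ B, Nat.card (C ⊓ Cn b : Subgroup G) ≤ Nat.card C * (B.filter (· ∈ T)).card := by
  rw [Finset.mul_sum]
  have step1 : ∀ b ∈ B, E * Nat.card (C ⊓ Cn b : Subgroup G) ≤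
      ((fin C).filter (fun g => g⁻¹ * b * g ∈ T)).card := by
    intro b hb
    exact weight_le C T hT b E (h1 b hb) (fun g hg hgT => h2 _ (hB g hg b hb) hgT)
  refine le_trans (Finset.sum_le_sum step1) ?_
  have hdc := Finset.sum_card_bipartiteAbove_eq_sum_card_bipartiteBelow (s := B) (t := fin C)
    (fun b g => g⁻¹ * b * g ∈ T)
  simp only [Finset.bipartiteAbove, Finset.bipartiteBelow] at hdc
  rw [hdc, ← card_fin C, ← smul_eq_mul, ← Finset.sum_const]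
  refine Finset.sum_le_sum ?_
  intro g hg
  have hg' := mem_fin.mp hg
  -- bijection `b ↦ g⁻¹ b g`
  apply Finset.card_le_card_of_injOn (fun b => g⁻¹ * b * g)
  · intro b hb
    have hb' := Finset.mem_filter.mp hb
    refine Finset.mem_coe.mpr (Finset.mem_filter.mpr ⟨?_, hb'.2⟩)
    have := hB g⁻¹ (inv_mem hg') b hb'.1
    rwa [inv_inv] at this
  · intro b _ c _ hbc
    have : g⁻¹ * b * g = g⁻¹ * c * g := hbc
    exact mul_left_cancel (mul_right_cancel this)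

/-- Conjugates of `b` by `C` have conjugate stabilizers. -/
lemma card_stab_conj (C : Subgroup G) (b : G) {g : G} (hg : g ∈ C) :
    Nat.card (C ⊓ Cn (g * b * g⁻¹) : Subgroup G) = Nat.card (C ⊓ Cn b : Subgroup G) := by
  rw [← card_map_conj (C ⊓ Cn b) g]
  congr 2
  ext t
  rw [mem_map_conj, Subgroup.mem_inf, Subgroup.mem_inf, mem_Cn, mem_Cn]
  constructor
  · rintro ⟨h1, h2⟩
    refine ⟨mul_mem (mul_mem (inv_mem hg) h1) hg, ?_⟩
    calc g⁻¹ * t * g * b = g⁻¹ * (t * (g * b * g⁻¹)) * g := by group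
      _ = g⁻¹ * ((g * b * g⁻¹) * t) * g := by rw [h2]
      _ = b * (g⁻¹ * t * g) := by group
  · rintro ⟨h1, h2⟩
    have ht : t = g * (g⁻¹ * t * g) * g⁻¹ := by group
    refine ⟨by rw [ht]; exact mul_mem (mul_mem hg h1) (inv_mem hg), ?_⟩
    calc t * (g * b * g⁻¹) = g * ((g⁻¹ * t * g) * b) * g⁻¹ := by group
      _ = g * (b * (g⁻¹ * t * g)) * g⁻¹ := by rw [h2]
      _ = g * b * g⁻¹ * t := by group

/-- The total weight of a conjugacy class of `C` is at most `|C|`. -/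
lemma orbit_weight (C : Subgroup G) (b₀ : G) (S : Finset G)
    (hS : ∀ b ∈ S, ∃ g ∈ C, g * b₀ * g⁻¹ = b) :
    ∑ b ∈ S, Nat.card (C ⊓ Cn b : Subgroup G) ≤ Nat.card C := by
  have h : ∀ b ∈ S, Nat.card (C ⊓ Cn b : Subgroup G) = Nat.card (C ⊓ Cn b₀ : Subgroup G) := by
    intro b hb
    obtain ⟨g, hg, rfl⟩ := hS b hb
    exact card_stab_conj C b₀ hg
  rw [Finset.sum_congr rfl h, Finset.sum_const, smul_eq_mul, ← orbit_stab C b₀]
  apply Nat.mul_le_mul_right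
  apply Finset.card_le_card
  intro b hb
  obtain ⟨g, hg, rfl⟩ := hS b hb
  exact Finset.mem_image.mpr ⟨g, mem_fin.mpr hg, rfl⟩

/-- The set of `y` -/
noncomputable def Yset (x a : G) : Finset G :=
  (Set.toFinite {y : G | IsConj x y ∧ (a * y) ^ 3 = 1}).toFinset

lemma mem_Yset {x a y : G} : y ∈ Yset x a ↔ IsConj x y ∧ (a * y) ^ 3 = 1 := by
  simp [Yset]

lemma card_Yset (x a : G) : (Yset x a).card = Cfsg.Agent.Lib.FT3.Chars.Ycard x a := by
  rw [Yset, ← Set.ncard_eq_toFinset_card _ (Set.toFinite _)]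
  exact (Nat.card_coe_set_eq _).symm

/-- The set of `b` -/
noncomputable def Bset (x a : G) : Finset G := (Yset x a).image (fun y => y * a * y⁻¹)

lemma mem_Bset {x a b : G} : b ∈ Bset x a ↔ ∃ y, (IsConj x y ∧ (a * y) ^ 3 = 1) ∧ y * a * y⁻¹ = b := by
  simp [Bset, mem_Yset]

/-- Basic relation: the four-group. -/
lemma rel_of_Y {a y : G} (ha : a * a = 1) (h : (a * y) ^ 3 = 1) (hy : y ^ 3 = 1) :
    a * (y * a * y⁻¹) = y * (y * a * y⁻¹) * y⁻¹ ∧ a * (y * a * y⁻¹) = (y * a * y⁻¹) * a := by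
  set b := y * a * y⁻¹ with hb
  set c := y * b * y⁻¹ with hc
  have hbb : b * b = 1 := by
    calc b * b = y * (a * a) * y⁻¹ := by rw [hb]; group
      _ = 1 := by rw [ha]; group
  have hcc : c * c = 1 := by
    calc c * c = y * (b * b) * y⁻¹ := by rw [hc]; group
      _ = 1 := by rw [hbb]; group
  have h1 : a * b * c = 1 := by
    have h2 : (a * y) ^ 3 = a * b * c * y ^ 3 := by
      rw [hc, hb]; simp only [pow_three]; group
    rw [h, hy, mul_one] at h2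
    exact h2.symm
  have hc' : c = b * a := by
    have h3 : c = (a * b)⁻¹ := eq_inv_of_mul_eq_one_right h1
    rw [h3, mul_inv_rev, inv_eq_of_mul_eq_one_left ha, inv_eq_of_mul_eq_one_left hbb]
  have hcomm : a * b = b * a := by
    have h4 : (b * a) * (b * a) = 1 := by rw [← hc']; exact hcc
    have h5 : a * b = (b * a)⁻¹ := by
      rw [mul_inv_rev, inv_eq_of_mul_eq_one_left ha, inv_eq_of_mul_eq_one_left hbb]
    rw [h5]
    exact inv_eq_of_mul_eq_one_left h4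
  exact ⟨by rw [hc', hcomm], hcomm⟩

/-- Fibers of `y ↦ b`. -/
lemma Yset_le_sum (x a : G) (hsc : SC x) (ha : a * a = 1) :
    (Yset x a).card ≤ ∑ b ∈ Bset x a, Nat.card (Cn a ⊓ Cn b : Subgroup G) := by
  rw [Finset.card_eq_sum_card_image (fun y => y * a * y⁻¹) (Yset x a)]
  refine Finset.sum_le_sum ?_
  intro b hb
  obtain ⟨y₀, hy₀, rfl⟩ := Finset.mem_image.mp hb
  rw [← card_fin]
  apply Finset.card_le_card_of_injOn (fun y => y₀⁻¹ * y)
  · intro y hy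
    obtain ⟨hy1, hy2⟩ := Finset.mem_filter.mp hy
    obtain ⟨h1, h2⟩ := mem_Yset.mp hy1
    obtain ⟨h3, h4⟩ := mem_Yset.mp hy₀
    have hy : y * a * y⁻¹ = y₀ * a * y₀⁻¹ := hy2
    have hc1 := (hsc.of_isConj h1).cube
    have hc2 := (hsc.of_isConj h3).cube
    obtain ⟨h5, -⟩ := rel_of_Y ha h2 hc1
    obtain ⟨h6, -⟩ := rel_of_Y ha h4 hc2
    rw [hy] at h5
    rw [Finset.mem_coe, mem_fin, Subgroup.mem_inf, mem_Cn, mem_Cn]
    constructor
    · calc y₀⁻¹ * y * a = y₀⁻¹ * (y * a * y⁻¹) * y := by group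
        _ = y₀⁻¹ * (y₀ * a * y₀⁻¹) * y := by rw [hy]
        _ = a * (y₀⁻¹ * y) := by group
    · have h7 : y * (y₀ * a * y₀⁻¹) * y⁻¹ = y₀ * (y₀ * a * y₀⁻¹) * y₀⁻¹ := by rw [← h5, h6]
      calc y₀⁻¹ * y * (y₀ * a * y₀⁻¹) = y₀⁻¹ * (y * (y₀ * a * y₀⁻¹) * y⁻¹) * y := by group
        _ = y₀⁻¹ * (y₀ * (y₀ * a * y₀⁻¹) * y₀⁻¹) * y := by rw [h7]
        _ = y₀ * a * y₀⁻¹ * (y₀⁻¹ * y) := by group
  · intro y _ y' _ h
    exact mul_left_cancel h

lemma sum_biUnion_le' {ι α : Type*} [DecidableEq α] (Ex : Finset ι) (S : ι → Finset α) (w : α → ℕ) :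
    ∑ b ∈ Ex.biUnion S, w b ≤ ∑ i ∈ Ex, ∑ b ∈ S i, w b := by
  induction Ex using Finset.induction_on with
  | empty => simp
  | insert i s hi ih =>
    rw [Finset.biUnion_insert, Finset.sum_insert hi]
    have := Finset.sum_union_inter (s₁ := S i) (s₂ := s.biUnion S) (f := w)
    omega

/-- The invariance of the set of `b`'s under `C(a)`. -/
lemma Bset_conj {x a g b : G} (hg : g ∈ Cn a) (hb : b ∈ Bset x a) : g * b * g⁻¹ ∈ Bset x a := by
  obtain ⟨y, ⟨h1, h2⟩, rfl⟩ := mem_Bset.mp hb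
  have hga : g * a = a * g := mem_Cn.mp hg
  refine mem_Bset.mpr ⟨g * y * g⁻¹, ⟨?_, ?_⟩, ?_⟩
  · exact h1.trans (isConj_iff.mpr ⟨g, rfl⟩)
  · have h3 : a * (g * y * g⁻¹) = g * (a * y) * g⁻¹ := by
      calc a * (g * y * g⁻¹) = (a * g) * y * g⁻¹ := by group
        _ = (g * a) * y * g⁻¹ := by rw [hga]
        _ = _ := by group
    rw [h3, conj_pow, h2]; group
  · calc g * y * g⁻¹ * a * (g * y * g⁻¹)⁻¹ = g * y * (g⁻¹ * (a * g)) * y⁻¹ * g⁻¹ := by group
      _ = g * y * (g⁻¹ * (g * a)) * y⁻¹ * g⁻¹ := by rw [hga]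
      _ = g * (y * a * y⁻¹) * g⁻¹ := by group

/-- **The counting theorem.** -/
theorem count_bound (x a : G) (hsc : SC x) (ha : a * a = 1) (T : Subgroup G) (hT : T ≤ Cn a)
    (E : ℕ) (Ex : Finset G)
    (h1 : ∀ b ∈ Bset x a, (¬ ∃ b₀ ∈ Ex, ∃ g ∈ Cn a, g * b₀ * g⁻¹ = b) → ∃ g ∈ Cn a, g * b * g⁻¹ ∈ T)
    (h2 : ∀ b ∈ Bset x a, (¬ ∃ b₀ ∈ Ex, ∃ g ∈ Cn a, g * b₀ * g⁻¹ = b) → b ∈ T →
      E * Nat.card (T ⊓ Cn b : Subgroup G) ≤ Nat.card T) :
    E * (Yset x a).card ≤ Nat.card (Cn a) *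
      ((((Bset x a).filter (fun b => ¬ ∃ b₀ ∈ Ex, ∃ g ∈ Cn a, g * b₀ * g⁻¹ = b)).filter (· ∈ T)).card
        + E * Ex.card) := by
  set B' := (Bset x a).filter (fun b => ¬ ∃ b₀ ∈ Ex, ∃ g ∈ Cn a, g * b₀ * g⁻¹ = b) with hB'
  set B'' := (Bset x a).filter (fun b => ∃ b₀ ∈ Ex, ∃ g ∈ Cn a, g * b₀ * g⁻¹ = b) with hB''
  have hsum : ∑ b ∈ Bset x a, Nat.card (Cn a ⊓ Cn b : Subgroup G) =
      ∑ b ∈ B'', Nat.card (Cn a ⊓ Cn b : Subgroup G) + ∑ b ∈ B', Nat.card (Cn a ⊓ Cn b : Subgroup G) := by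
    rw [hB'', hB']
    exact (Finset.sum_filter_add_sum_filter_not _ _ _).symm
  have hY := Yset_le_sum x a hsc ha
  have hw := weighted (Cn a) T hT B' E
    (by
      intro g hg b hb
      obtain ⟨hb1, hb2⟩ := Finset.mem_filter.mp hb
      refine Finset.mem_filter.mpr ⟨Bset_conj hg hb1, ?_⟩
      rintro ⟨b₀, hb₀, k, hk, hkb⟩
      apply hb2
      refine ⟨b₀, hb₀, g⁻¹ * k, mul_mem (inv_mem hg) hk, ?_⟩
      calc g⁻¹ * k * b₀ * (g⁻¹ * k)⁻¹ = g⁻¹ * (k * b₀ * k⁻¹) * g := by group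
        _ = g⁻¹ * (g * b * g⁻¹) * g := by rw [hkb]
        _ = b := by group)
    (fun b hb => h1 b (Finset.mem_filter.mp hb).1 (Finset.mem_filter.mp hb).2)
    (fun b hb => h2 b (Finset.mem_filter.mp hb).1 (Finset.mem_filter.mp hb).2)
  have hex : ∑ b ∈ B'', Nat.card (Cn a ⊓ Cn b : Subgroup G) ≤ Ex.card * Nat.card (Cn a) := by
    have hsub : B'' ⊆ Ex.biUnion (fun b₀ => (Bset x a).filter (fun b => ∃ g ∈ Cn a, g * b₀ * g⁻¹ = b)) := by
      intro b hb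
      obtain ⟨hb1, b₀, hb₀, k, hk, hkb⟩ := Finset.mem_filter.mp hb
      exact Finset.mem_biUnion.mpr ⟨b₀, hb₀, Finset.mem_filter.mpr ⟨hb1, k, hk, hkb⟩⟩
    refine le_trans (Finset.sum_le_sum_of_subset hsub) ?_
    refine le_trans (sum_biUnion_le' _ _ _) ?_
    rw [← smul_eq_mul, ← Finset.sum_const]
    refine Finset.sum_le_sum ?_
    intro b₀ _
    exact orbit_weight (Cn a) b₀ _ (fun b hb => (Finset.mem_filter.mp hb).2)
  calc E * (Yset x a).card ≤ E * (∑ b ∈ B'', Nat.card (Cn a ⊓ Cn b : Subgroup G) +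
        ∑ b ∈ B', Nat.card (Cn a ⊓ Cn b : Subgroup G)) := by
        rw [← hsum]; exact Nat.mul_le_mul_left _ hY
    _ = E * ∑ b ∈ B'', Nat.card (Cn a ⊓ Cn b : Subgroup G) + E * ∑ b ∈ B', Nat.card (Cn a ⊓ Cn b : Subgroup G) := by
        ring
    _ ≤ E * (Ex.card * Nat.card (Cn a)) + Nat.card (Cn a) * (B'.filter (· ∈ T)).card :=
        add_le_add (Nat.mul_le_mul_left _ hex) hw
    _ = _ := by ring

end Cfsg.Agent.Lib.FT3.Count
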