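import Cfsg.Agent.Lib.FT3.Chars5

/-!
# Numerical consequences
-/

set_option autoImplicit false
set_option linter.unusedVariables false

namespace Cfsg.Agent.Lib.FT3.Numeric

open Cfsg.Agent.Lib.FT3.Chars

/-- core identity -/
lemma core_identity {d F r f n : ℕ} (hfi : 3 * f + r * (2 * d + 1) = n)
    (hnF : n * F = 3 * r * d * (d + 1)) :
    3 * (f : ℤ) * F = r * (3 * d * (d + 1) - (2 * d + 1) * F) := by
  have h1 : ((3 * f + r * (2 * d + 1) : ℕ) : ℤ) * F = ((3 * r * d * (d + 1) : ℕ) : ℤ) := by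
    rw [hfi]; exact_mod_cast hnF
  push_cast at h1
  linarith

lemma fpos {d F r f n : ℕ} (hfi : 3 * f + r * (2 * d + 1) = n)
    (hnF : n * F = 3 * r * d * (d + 1)) (hb : 3 * F ≤ 4 * d + 2) (hr : 0 < r) (hd : 2 ≤ d) :
    0 < f := by
  by_contra hf
  have hf0 : f = 0 := by omega
  subst hf0
  have h1 := core_identity hfi hnF
  simp only [Nat.cast_zero, mul_zero, zero_mul] at h1
  have hr' : (r : ℤ) ≠ 0 := by exact_mod_cast hr.ne'
  have h2 : (3 * (d : ℤ) * (d + 1) - (2 * d + 1) * F) = 0 := by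
    rcases mul_eq_zero.mp h1.symm with h | h
    · exact absurd h hr'
    · exact h
  have hb' : (3 : ℤ) * F ≤ 4 * d + 2 := by exact_mod_cast hb
  have hd' : (2 : ℤ) ≤ d := by exact_mod_cast hd
  nlinarith

lemma key16 {d F r f n : ℕ} (hfi : 3 * f + r * (2 * d + 1) = n)
    (hnF : n * F = 3 * r * d * (d + 1)) (h4 : 3 * F + 4 ≤ 4 * d) (hr : 0 < r) (hF : 0 < F)
    (hd : 2 ≤ d) : r * F + 20 * r < 16 * f := by
  have h1 := core_identity hfi hnF
  have hF' : (0 : ℤ) < F := by exact_mod_cast hF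
  have hr' : (0 : ℤ) < r := by exact_mod_cast hr
  have hd' : (2 : ℤ) ≤ d := by exact_mod_cast hd
  have h4' : (3 : ℤ) * F + 4 ≤ 4 * d := by exact_mod_cast h4
  have hA : (96 : ℤ) ≤ 48 * d * (d + 1) - 16 * (2 * d + 1) * F - 3 * F ^ 2 - 60 * F := by
    nlinarith [mul_nonneg (sub_nonneg.mpr h4') (by positivity : (0 : ℤ) ≤ 36 * d + 72 + 3 * F)]
  have h5 : (3 * (F : ℤ)) * ((r : ℤ) * F + 20 * r) < (3 * (F : ℤ)) * (16 * f) := by
    have h6 : (3 * (F : ℤ)) * (16 * f) = 16 * (3 * (f : ℤ) * F) := by ring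
    rw [h6, h1]
    nlinarith [mul_pos hr' (by linarith : (0 : ℤ) < 48 * d * (d + 1) - 16 * (2 * d + 1) * F - 3 * F ^ 2 - 60 * F)]
  have h7 := lt_of_mul_lt_mul_left h5 (by positivity)
  exact_mod_cast h7

lemma key4 {d F r f n : ℕ} (hfi : 3 * f + r * (2 * d + 1) = n)
    (hnF : n * F = 3 * r * d * (d + 1)) (h15 : 15 * F + 16 ≤ 16 * d) (hr : 0 < r) (hF : 0 < F)
    (hd : 2 ≤ d) : r * F + 4 < 4 * f := by
  have h1 := core_identity hfi hnF
  have hF' : (0 : ℤ) < F := by exact_mod_cast hF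
  have hr' : (1 : ℤ) ≤ r := by exact_mod_cast hr
  have hd' : (2 : ℤ) ≤ d := by exact_mod_cast hd
  have h4' : (15 : ℤ) * F + 16 ≤ 16 * d := by exact_mod_cast h15
  have hA : (0 : ℤ) < 12 * d * (d + 1) - 4 * (2 * d + 1) * F - 3 * F ^ 2 - 12 * F := by
    nlinarith [mul_nonneg (sub_nonneg.mpr h4') (by linarith : (0 : ℤ) ≤ 120 * d + 240 + 3 * (15 * F) + 3 * (16 * d - 16))]
  have h5 : (3 * (F : ℤ)) * ((r : ℤ) * F + 4) < (3 * (F : ℤ)) * (4 * f) := by
    have h6 : (3 * (F : ℤ)) * (4 * f) = 4 * (3 * (f : ℤ) * F) := by ring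
    rw [h6, h1]
    set B : ℤ := 12 * d * (d + 1) - 4 * (2 * d + 1) * F - 3 * F ^ 2 - 12 * F with hB
    have h8 : (r : ℤ) * (B + 12 * F) ≥ (r : ℤ) * B + 12 * F := by nlinarith
    have h9 : (r : ℤ) * B > 0 := by positivity
    nlinarith
  have h7 := lt_of_mul_lt_mul_left h5 (by positivity)
  exact_mod_cast h7

variable {G : Type*} [Group G] {x : G} {d F r f n : ℕ}

/-- When `r = 1`: the two possibilities. -/
lemma r_one (N : Nums G x d F r f n) (hr : r = 1) :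
    (Even d ∧ F = d ∧ 3 * f = d + 2 ∧ n = 3 * (d + 1)) ∨
    (Odd d ∧ F = d + 1 ∧ 3 * f + 1 = d ∧ n = 3 * d) := by
  have hd := N.d2
  subst hr
  have hnF := N.nF
  have hfi := N.fi
  rcases N.r1 rfl with ⟨h, hF⟩ | ⟨h, hF⟩
  · left
    have hn : n = 3 * (d + 1) := by
      subst hF
      have : n * F = (3 * (F + 1)) * F := by rw [hnF]; ring
      exact Nat.eq_of_mul_eq_mul_right (by omega) this
    exact ⟨h, hF, by omega, hn⟩
  · right
    have hn : n = 3 * d := by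
      subst hF
      have : n * (d + 1) = (3 * d) * (d + 1) := by rw [hnF]
      exact Nat.eq_of_mul_eq_mul_right (by omega) this
    exact ⟨h, hF, by omega, hn⟩

lemma finish_A (N : Nums G x d F r f n) (h4 : 3 * F + 4 ≤ 4 * d) {q : ℕ} (hq : q ≤ r * F)
    (hq16 : 16 ≤ q) (hf : f ≤ 3) : False := by
  have hk := key16 N.fi N.nF h4 N.hr N.hF N.d2
  have hr1 : r = 1 := by
    have := N.hr
    omega
  rcases r_one N hr1 with ⟨_, hF, h3, hn⟩ | ⟨_, hF, h3, hn⟩
  · subst hr1 hF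
    omega
  · subst hr1 hF
    omega

lemma finish_B (N : Nums G x d F r f n) (h4 : 3 * F + 4 ≤ 4 * d) {q : ℕ} (hq : q ≤ r * F)
    (hq8 : 8 ≤ q) (hf : 16 * f ≤ q + 24) : Nat.card G = 168 := by
  have hk := key16 N.fi N.nF h4 N.hr N.hF N.d2
  have hr1 : r = 1 := by
    have := N.hr
    omega
  have hG := N.cardG
  have hd3 := N.hd
  rcases r_one N hr1 with ⟨hev, hF, h3, hn⟩ | ⟨hod, hF, h3, hn⟩
  · subst hr1 hF
    exfalso
    omega
  · subst hr1 hF
    have hd7 : d = 7 := by omega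
    subst hd7
    rw [hG, hn]

lemma finish_C (N : Nums G x d F r f n) (h4 : 3 * F + 4 ≤ 4 * d) (hf : f ≤ 2) :
    Nat.card G = 60 ∨ Nat.card G = 168 := by
  have hk := key16 N.fi N.nF h4 N.hr N.hF N.d2
  have hr1 : r = 1 := by
    have := N.hr
    have := N.hF
    by_contra hne
    have h2 : 2 ≤ r := by omega
    have h3 : 1 * 1 ≤ r * F := Nat.mul_le_mul (by omega) (by omega)
    omega
  have hG := N.cardG
  have hd3 := N.hd
  have hd2 := N.d2
  rcases r_one N hr1 with ⟨hev, hF, h3, hn⟩ | ⟨hod, hF, h3, hn⟩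
  · subst hr1 hF
    have hd4 : F = 4 := by
      obtain ⟨c, hc⟩ := hev
      omega
    subst hd4
    left
    rw [hG, hn]
  · subst hr1 hF
    have hd7 : d = 7 := by
      obtain ⟨c, hc⟩ := hod
      omega
    subst hd7
    right
    rw [hG, hn]

/-- two powers of 2 congruent to 1 modulo 3 -/
lemma four_mul_le {s m a b : ℕ} (hs : s = 2 ^ a) (hm : m = 2 ^ b) (hs3 : s % 3 = 1) (hm3 : m % 3 = 1)
    (hle : s ≤ m) (hne : s ≠ m) : 4 * s ≤ m := by
  have hab : a < b := by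
    by_contra h
    push Not at h
    have : 2 ^ b ≤ 2 ^ a := Nat.pow_le_pow_right (by norm_num) h
    have h2 : s = m := le_antisymm hle (by rw [hs, hm]; exact this)
    exact hne h2
  have hne1 : b ≠ a + 1 := by
    rintro rfl
    rw [hs] at hs3
    rw [hm, pow_succ] at hm3
    omega
  have h3 : a + 2 ≤ b := by omega
  have h4 : 2 ^ (a + 2) ≤ 2 ^ b := Nat.pow_le_pow_right (by norm_num) h3
  rw [hs, hm]
  rw [pow_add] at h4
  omega

end Cfsg.Agent.Lib.FT3.Numeric
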