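import Cfsg.Agent.Lib.FT3.Om
import Cfsg.Agent.Lib.FT3.Numeric

/-!
# The subgroups `R(b) = C(a) ∩ C(b)` and `Q(b)`
-/

set_option autoImplicit false
set_option linter.style.haveILetI false
set_option linter.unusedSectionVars false
set_option linter.unusedVariables false

namespace Cfsg.Agent.Lib.FT3.Loc

open Cfsg.Agent.Lib.FT3.Fpf Cfsg.Agent.Lib.FT3.Base Cfsg.Agent.Lib.FT3.Two
  Cfsg.Agent.Lib.FT3.Conc Cfsg.Agent.Lib.FT3.Mx Cfsg.Agent.Lib.FT3.Count Cfsg.Agent.Lib.FT3.Om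

universe u

variable {G : Type u} [Group G] [Finite G]

/-- `C(a) ∩ C(b)` -/
abbrev Rb (a b : G) : Subgroup G := Cn a ⊓ Cn b

/-- The 2-part of `C(a) ∩ C(b)` -/
abbrev Qb (a b : G) : Subgroup G := Qof (Rb a b)

lemma mem_Rb {a b g : G} : g ∈ Rb a b ↔ g * a = a * g ∧ g * b = b * g := by
  rw [Subgroup.mem_inf, mem_Cn, mem_Cn]

lemma Qof_map (R : Subgroup G) (g : G) :
    Qof (R.map (MulAut.conj g).toMonoidHom) = (Qof R).map (MulAut.conj g).toMonoidHom := by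
  rw [Qof, Qof, MonoidHom.map_closure]
  congr 1
  ext t
  constructor
  · rintro ⟨⟨r, hr, rfl⟩, ht⟩
    refine ⟨r, ⟨hr, ?_⟩, rfl⟩
    have : (MulAut.conj g).toMonoidHom r = g * r * g⁻¹ := by simp [MulAut.conj_apply]
    rw [this] at ht
    have h2 := ht.conj g⁻¹
    have h3 : g⁻¹ * (g * r * g⁻¹) * g⁻¹⁻¹ = r := by group
    rwa [h3] at h2
  · rintro ⟨r, ⟨hr, ht⟩, rfl⟩
    refine ⟨⟨r, hr, rfl⟩, ?_⟩
    have : (MulAut.conj g).toMonoidHom r = g * r * g⁻¹ := by simp [MulAut.conj_apply]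
    rw [this]
    exact ht.conj g

lemma Rb_conj {a b g : G} (hg : g ∈ Cn a) :
    Rb a (g * b * g⁻¹) = (Rb a b).map (MulAut.conj g).toMonoidHom := by
  ext t
  rw [mem_map_conj, mem_Rb, mem_Rb]
  have hga : g * a = a * g := mem_Cn.mp hg
  have hga' : g⁻¹ * a = a * g⁻¹ := by
    calc g⁻¹ * a = g⁻¹ * (a * g) * g⁻¹ := by group
      _ = g⁻¹ * (g * a) * g⁻¹ := by rw [hga]
      _ = a * g⁻¹ := by group
  constructor
  · rintro ⟨h1, h2⟩
    constructor
    · calc g⁻¹ * t * g * a = g⁻¹ * t * (a * g) := by rw [mul_assoc (g⁻¹ * t), hga]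
        _ = g⁻¹ * (t * a) * g := by group
        _ = g⁻¹ * (a * t) * g := by rw [h1]
        _ = (g⁻¹ * a) * t * g := by group
        _ = (a * g⁻¹) * t * g := by rw [hga']
        _ = a * (g⁻¹ * t * g) := by group
    · calc g⁻¹ * t * g * b = g⁻¹ * (t * (g * b * g⁻¹)) * g := by group
        _ = g⁻¹ * ((g * b * g⁻¹) * t) * g := by rw [h2]
        _ = b * (g⁻¹ * t * g) := by group
  · rintro ⟨h1, h2⟩
    have ht : t = g * (g⁻¹ * t * g) * g⁻¹ := by group
    constructor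
    · rw [ht]
      calc g * (g⁻¹ * t * g) * g⁻¹ * a = g * (g⁻¹ * t * g) * (g⁻¹ * a) := by group
        _ = g * (g⁻¹ * t * g) * (a * g⁻¹) := by rw [hga']
        _ = g * ((g⁻¹ * t * g) * a) * g⁻¹ := by group
        _ = g * (a * (g⁻¹ * t * g)) * g⁻¹ := by rw [h1]
        _ = (g * a) * (g⁻¹ * t * g) * g⁻¹ := by group
        _ = (a * g) * (g⁻¹ * t * g) * g⁻¹ := by rw [hga]
        _ = a * (g * (g⁻¹ * t * g) * g⁻¹) := by group
    · calc t * (g * b * g⁻¹) = g * ((g⁻¹ * t * g) * b) * g⁻¹ := by group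
        _ = g * (b * (g⁻¹ * t * g)) * g⁻¹ := by rw [h2]
        _ = g * b * g⁻¹ * t := by group

lemma Qb_conj {a b g : G} (hg : g ∈ Cn a) :
    Qb a (g * b * g⁻¹) = (Qb a b).map (MulAut.conj g).toMonoidHom := by
  rw [Qb, Rb_conj hg, Qof_map]

lemma card_Qb_conj {a b g : G} (hg : g ∈ Cn a) :
    Nat.card (Qb a (g * b * g⁻¹)) = Nat.card (Qb a b) := by
  rw [Qb_conj hg, card_map_conj]

/-- The basic facts on an element of `Yset x a`. -/
structure YData (x a y : G) : Prop where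
  sc : SC y
  conj : IsConj x y
  rel : a * (y * a * y⁻¹) = y * (y * a * y⁻¹) * y⁻¹
  comm : a * (y * a * y⁻¹) = (y * a * y⁻¹) * a
  bb : (y * a * y⁻¹) * (y * a * y⁻¹) = 1
  b1 : y * a * y⁻¹ ≠ 1
  ba : y * a * y⁻¹ ≠ a
  act : Act3 (Rb a (y * a * y⁻¹)) y

theorem yData {x a y : G} (hsc : SC x) (ha : a * a = 1) (ha1 : a ≠ 1) (hy : y ∈ Yset x a) :
    YData x a y := by
  obtain ⟨h1, h2⟩ := mem_Yset.mp hy
  have hsy : SC y := hsc.of_isConj h1
  obtain ⟨h3, h4⟩ := rel_of_Y ha h2 hsy.cube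
  set b := y * a * y⁻¹ with hb
  have hbb : b * b = 1 := by
    calc b * b = y * (a * a) * y⁻¹ := by rw [hb]; group
      _ = 1 := by rw [ha]; group
  have hb1 : b ≠ 1 := by
    intro h
    apply ha1
    calc a = y⁻¹ * (y * a * y⁻¹) * y := by group
      _ = 1 := by rw [← hb, h]; group
  have hba : b ≠ a := by
    intro h
    apply ha1
    apply hsy.invol_comm ha
    calc a * y = (y * a * y⁻¹) * y := by rw [← hb, h]
      _ = y * a := by group
  refine ⟨hsy, h1, h3, h4, hbb, hb1, hba, ?_⟩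
  apply hsy.act3
  · intro h3'
    have h5 : Nat.card (Rb a b) ∣ Nat.card (Cn a) := Subgroup.card_dvd_of_le inf_le_left
    exact hsy.not_dvd_centralizer ha ha1 (h3'.trans h5)
  · intro r hr
    rw [mem_Rb] at hr ⊢
    obtain ⟨h5, h6⟩ := hr
    have h7 : (y * r * y⁻¹) * b = b * (y * r * y⁻¹) := by
      rw [hb]
      calc y * r * y⁻¹ * (y * a * y⁻¹) = y * (r * a) * y⁻¹ := by group
        _ = y * (a * r) * y⁻¹ := by rw [h5]
        _ = y * a * y⁻¹ * (y * r * y⁻¹) := by group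
    have h8 : (y * r * y⁻¹) * (a * b) = (a * b) * (y * r * y⁻¹) := by
      rw [h3]
      calc y * r * y⁻¹ * (y * b * y⁻¹) = y * (r * b) * y⁻¹ := by group
        _ = y * (b * r) * y⁻¹ := by rw [h6]
        _ = y * b * y⁻¹ * (y * r * y⁻¹) := by group
    refine ⟨?_, h7⟩
    set r' := y * r * y⁻¹ with hr'
    calc r' * a = r' * a * (b * b) := by rw [hbb, mul_one]
      _ = (r' * (a * b)) * b := by group
      _ = ((a * b) * r') * b := by rw [h8]
      _ = (a * b) * (r' * b) := by group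
      _ = (a * b) * (b * r') := by rw [h7]
      _ = a * (b * b) * r' := by group
      _ = a * r' := by rw [hbb, mul_one]

section Y

variable {x a y : G} (hsc : SC x) (ha : a * a = 1) (ha1 : a ≠ 1)

lemma a_mem_Rb (b : G) (hab : a * b = b * a) : a ∈ Rb a b := by
  rw [mem_Rb]; exact ⟨rfl, hab⟩

lemma b_mem_Rb (b : G) (hab : a * b = b * a) : b ∈ Rb a b := by
  rw [mem_Rb]; exact ⟨hab.symm, rfl⟩

lemma YData.Qact (h : YData x a y) : Act3 (Qb a (y * a * y⁻¹)) y := Act3.Qof_act h.act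

lemma YData.Qtwo (h : YData x a y) : IsPGroup 2 (Qb a (y * a * y⁻¹)) := Act3.isP_Qof h.act

include ha in
lemma YData.a_om (h : YData x a y) : IsOm (Qb a (y * a * y⁻¹)) a := by
  refine ⟨mem_Qof (a_mem_Rb _ h.comm) (Tw.of_invol ha), ha, ?_⟩
  intro s hs
  exact (mem_Rb.mp (Qof_le _ hs)).1

lemma YData.b_om (h : YData x a y) : IsOm (Qb a (y * a * y⁻¹)) (y * a * y⁻¹) := by
  refine ⟨mem_Qof (b_mem_Rb _ h.comm) (Tw.of_invol h.bb), h.bb, ?_⟩
  intro s hs
  exact (mem_Rb.mp (Qof_le _ hs)).2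

lemma le_Qb {P : Subgroup G} (hP : IsPGroup 2 P) {a b : G} (h1 : ∀ p ∈ P, p * a = a * p)
    (h2 : ∀ p ∈ P, p * b = b * p) : P ≤ Qb a b :=
  le_Qof hP (fun p hp => mem_Rb.mpr ⟨h1 p hp, h2 p hp⟩)

lemma card_T_le (T : Subgroup G) (hT : IsPGroup 2 T) (hTa : T ≤ Cn a) (b : G) :
    Nat.card (T ⊓ Cn b : Subgroup G) ≤ Nat.card (Qb a b) := by
  apply Subgroup.card_le_of_le
  apply le_Qof (hT.to_le inf_le_left)
  intro p hp
  rw [mem_Rb]
  exact ⟨mem_Cn.mp (hTa hp.1), mem_Cn.mp hp.2⟩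

end Y

/-- A nontrivial 2-group has a central involution. -/
lemma exists_om {S : Subgroup G} (hS : IsPGroup 2 S) (hne : S ≠ ⊥) : ∃ z, IsOm S z ∧ z ≠ 1 := by
  haveI : Fact (Nat.Prime 2) := ⟨Nat.prime_two⟩
  haveI : Nontrivial S := (Subgroup.nontrivial_iff_ne_bot _).mpr hne
  haveI := hS.center_nontrivial
  obtain ⟨k, hk⟩ := IsPGroup.iff_card.mp (hS.to_subgroup (Subgroup.center S))
  have hk0 : k ≠ 0 := by
    rintro rfl
    rw [pow_zero] at hk
    have := (Nat.card_eq_one_iff_unique.mp hk).1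
    exact not_subsingleton _ this
  obtain ⟨y, hy⟩ := exists_prime_orderOf_dvd_card' (G := Subgroup.center S) 2 (hk ▸ dvd_pow_self 2 hk0)
  have hy2 : y ^ 2 = 1 := by rw [← hy]; exact pow_orderOf_eq_one y
  refine ⟨((y : S) : G), ⟨(y : S).2, ?_, ?_⟩, ?_⟩
  · have := congrArg (fun w : Subgroup.center S => ((w : S) : G)) hy2
    simpa [sq] using this
  · intro s hs
    have := Subgroup.mem_center_iff.mp y.2 ⟨s, hs⟩
    exact congrArg Subtype.val this
  · intro h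
    have h1 : y = 1 := Subtype.ext (Subtype.ext h)
    rw [h1, orderOf_one] at hy
    omega

/-- **Maximality of `Q(b)` for `b` maximizing `|Q(b)|`.** -/
theorem isMaxY_of_max {x a y : G} (hsc : SC x)
    (hinv : ∀ a b : G, a * a = 1 → a ≠ 1 → b * b = 1 → b ≠ 1 → IsConj a b)
    (ha : a * a = 1) (ha1 : a ≠ 1) (hy : y ∈ Yset x a)
    (hmax : ∀ y' ∈ Yset x a, Nat.card (Qb a (y' * a * y'⁻¹)) ≤ Nat.card (Qb a (y * a * y⁻¹))) :
    IsMaxY (Qb a (y * a * y⁻¹)) y := by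
  have hd := yData hsc ha ha1 hy
  refine ⟨hd.Qtwo, hd.Qact.inv, ?_⟩
  intro S' hS' hi hle
  have hne : S' ≠ ⊥ := by
    rintro rfl
    have : a ∈ (⊥ : Subgroup G) := hle (YData.a_om ha hd).1
    exact ha1 this
  obtain ⟨z, hz, hz1⟩ := exists_om hS' hne
  have hA : Act3 S' y := hd.sc.act3 (not_three_dvd_of_isP hS') hi
  have hcube := Cfsg.Agent.Lib.FT3.Chars.Act3.cube_mul hA hz.1
  obtain ⟨g, hg⟩ := isConj_iff.mp (hinv z a hz.2.1 hz1 ha ha1)
  set y' := g * y * g⁻¹ with hy'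
  have hy'Y : y' ∈ Yset x a := by
    rw [mem_Yset]
    refine ⟨hd.conj.trans (isConj_iff.mpr ⟨g, rfl⟩), ?_⟩
    have h1 : a * y' = g * (z * y) * g⁻¹ := by rw [← hg, hy']; group
    rw [h1, conj_pow, hcube]; group
  have hb' : y' * a * y'⁻¹ = g * (y * z * y⁻¹) * g⁻¹ := by rw [← hg, hy']; group
  have hw : IsOm S' (y * z * y⁻¹) := hz.conj' hi
  have hcard : Nat.card S' ≤ Nat.card (Qb a (y' * a * y'⁻¹)) := by
    have hle2 : S'.map (MulAut.conj g).toMonoidHom ≤ Qb a (y' * a * y'⁻¹) := by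
      apply le_Qb (hS'.map _)
      · rintro _ ⟨s, hs, rfl⟩
        have h2 := hz.2.2 s hs
        have : (MulAut.conj g).toMonoidHom s = g * s * g⁻¹ := by simp [MulAut.conj_apply]
        rw [this, ← hg]
        calc g * s * g⁻¹ * (g * z * g⁻¹) = g * (s * z) * g⁻¹ := by group
          _ = g * (z * s) * g⁻¹ := by rw [h2]
          _ = _ := by group
      · rintro _ ⟨s, hs, rfl⟩
        have h2 := hw.2.2 s hs
        have : (MulAut.conj g).toMonoidHom s = g * s * g⁻¹ := by simp [MulAut.conj_apply]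
        rw [this, hb']
        calc g * s * g⁻¹ * (g * (y * z * y⁻¹) * g⁻¹) = g * (s * (y * z * y⁻¹)) * g⁻¹ := by group
          _ = g * ((y * z * y⁻¹) * s) * g⁻¹ := by rw [h2]
          _ = _ := by group
    have := Subgroup.card_le_of_le hle2
    rwa [card_map_conj] at this
  have h3 := hmax y' hy'Y
  exact (Subgroup.eq_of_le_of_card_ge hle (hcard.trans h3)).symm

end Cfsg.Agent.Lib.FT3.Loc
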