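import Cfsg.Agent.Lib.FT3.CaseA

/-!
# The main lemma: a simple group with a self-centralizing element of order three inverted by an
involution has order 60 or 168.
-/

set_option autoImplicit false
set_option linter.style.haveILetI false
set_option linter.unusedSectionVars false
set_option linter.unusedVariables false

namespace Cfsg.Agent.Lib.FT3.MainL

open Cfsg.Agent.Lib.FT3.Fpf Cfsg.Agent.Lib.FT3.Base Cfsg.Agent.Lib.FT3.Two
  Cfsg.Agent.Lib.FT3.Conc Cfsg.Agent.Lib.FT3.Mx Cfsg.Agent.Lib.FT3.Count Cfsg.Agent.Lib.FT3.Om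
  Cfsg.Agent.Lib.FT3.Loc Cfsg.Agent.Lib.FT3.Chars Cfsg.Agent.Lib.FT3.Numeric
  Cfsg.Agent.Lib.FT3.St Cfsg.Agent.Lib.FT3.TypeL Cfsg.Agent.Lib.FT3.CaseC
  Cfsg.Agent.Lib.FT3.CaseN Cfsg.Agent.Lib.FT3.CaseA

universe u

variable {G : Type u} [Group G] [Finite G]

open scoped Classical

/-- The four-group `{1, a, b, ab}` -/
def fourSub (a b : G) (ha : a * a = 1) (hb : b * b = 1) (hab : a * b = b * a) : Subgroup G where
  carrier := {1, a, b, a * b}
  one_mem' := by simp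
  mul_mem' := by
    have h1 : ∀ (c : G), c * c = 1 → c⁻¹ = c := fun c hc => inv_eq_of_mul_eq_one_left hc
    rintro x y hx hy
    simp only [Set.mem_insert_iff, Set.mem_singleton_iff] at hx hy ⊢
    have e1 : a * (a * b) = b := by rw [← mul_assoc, ha, one_mul]
    have e2 : b * (a * b) = a := by rw [hab, ← mul_assoc, hb, one_mul]
    have e3 : (a * b) * a = b := by rw [hab, mul_assoc, ha, mul_one]
    have e4 : (a * b) * b = a := by rw [mul_assoc, hb, mul_one]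
    have e5 : (a * b) * (a * b) = 1 := by rw [mul_assoc, e2, ha]
    have e6 : b * a = a * b := hab.symm
    rcases hx with hx | hx | hx | hx <;> rcases hy with hy | hy | hy | hy <;> rw [hx, hy] <;>
      simp only [one_mul, mul_one, ha, hb, e1, e2, e3, e4, e5, e6, true_or, or_true]
  inv_mem' := by
    rintro x hx
    simp only [Set.mem_insert_iff, Set.mem_singleton_iff] at hx ⊢
    have e5 : (a * b) * (a * b) = 1 := by
      calc (a * b) * (a * b) = a * (b * a) * b := by group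
        _ = a * (a * b) * b := by rw [hab]
        _ = (a * a) * (b * b) := by group
        _ = 1 := by rw [ha, hb, one_mul]
    rcases hx with rfl | rfl | rfl | rfl
    · simp
    · right; left; exact inv_eq_of_mul_eq_one_left ha
    · right; right; left; exact inv_eq_of_mul_eq_one_left hb
    · right; right; right; exact inv_eq_of_mul_eq_one_left e5

lemma mem_fourSub {a b : G} {ha : a * a = 1} {hb : b * b = 1} {hab : a * b = b * a} {t : G} :
    t ∈ fourSub a b ha hb hab ↔ t = 1 ∨ t = a ∨ t = b ∨ t = a * b := by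
  show t ∈ ({1, a, b, a * b} : Set G) ↔ _
  simp

lemma card_fourSub {a b : G} {ha : a * a = 1} {hb : b * b = 1} {hab : a * b = b * a} (ha1 : a ≠ 1)
    (hb1 : b ≠ 1) (hba : b ≠ a) : Nat.card (fourSub a b ha hb hab) = 4 := by
  rw [← card_fin, ← four_card ha ha1 hb1 hb hba]
  congr 1
  ext t
  rw [mem_fin, mem_fourSub]
  simp

/-- `3F + 4 ≤ 4d` -/
lemma f4_of {x a y : G} {d F r f n : ℕ} (N : Nums G x d F r f n) (ha : a * a = 1) (ha1 : a ≠ 1)
    (hy : YData x a y) : 3 * F + 4 ≤ 4 * d := by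
  have hcomm := hy.comm
  have h := N.E (fourSub a (y * a * y⁻¹) ha hy.bb hcomm) y hy.conj (by
    intro t ht
    rw [mem_fourSub] at ht ⊢
    have e1 : y * (y * a * y⁻¹) * y⁻¹ = a * (y * a * y⁻¹) := hy.rel.symm
    rcases ht with rfl | rfl | rfl | rfl
    · left; group
    · right; right; left; rfl
    · right; right; right; exact e1
    · right; left
      have e2 : y * (a * (y * a * y⁻¹)) * y⁻¹ = (y * a * y⁻¹) * (y * (y * a * y⁻¹) * y⁻¹) := by group
      rw [e2, e1, hcomm, ← mul_assoc, hy.bb, one_mul]) (by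
    intro t ht
    rw [mem_fourSub] at ht
    rcases ht with rfl | rfl | rfl | rfl
    · simp
    · exact ha
    · exact hy.bb
    · calc a * (y * a * y⁻¹) * (a * (y * a * y⁻¹)) = a * ((y * a * y⁻¹) * a) * (y * a * y⁻¹) := by
            simp only [mul_assoc]
        _ = a * (a * (y * a * y⁻¹)) * (y * a * y⁻¹) := by rw [hcomm]
        _ = (a * a) * ((y * a * y⁻¹) * (y * a * y⁻¹)) := by simp only [mul_assoc]
        _ = 1 := by rw [ha, hy.bb, one_mul])
  rw [card_fourSub ha1 hy.b1 hy.ba] at h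
  omega

/-- `Y_conj` without `St` -/
lemma Y_conj' {x a y k : G} (hy : y ∈ Yset x a) (hk : k ∈ Cn a) :
    k * y * k⁻¹ ∈ Yset x a ∧ (k * y * k⁻¹) * a * (k * y * k⁻¹)⁻¹ = k * (y * a * y⁻¹) * k⁻¹ := by
  obtain ⟨h1, h2⟩ := mem_Yset.mp hy
  have hga : k * a = a * k := mem_Cn.mp hk
  constructor
  · refine mem_Yset.mpr ⟨h1.trans (isConj_iff.mpr ⟨k, rfl⟩), ?_⟩
    have h3 : a * (k * y * k⁻¹) = k * (a * y) * k⁻¹ := by
      calc a * (k * y * k⁻¹) = (a * k) * y * k⁻¹ := by group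
        _ = (k * a) * y * k⁻¹ := by rw [hga]
        _ = _ := by group
    rw [h3, conj_pow, h2]; group
  · calc k * y * k⁻¹ * a * (k * y * k⁻¹)⁻¹ = k * y * (k⁻¹ * (a * k)) * y⁻¹ * k⁻¹ := by group
      _ = k * y * (k⁻¹ * (k * a)) * y⁻¹ * k⁻¹ := by rw [hga]
      _ = k * (y * a * y⁻¹) * k⁻¹ := by group

/-- **The main lemma.** -/
theorem main_lemma [IsSimpleGroup G] {x u : G} (hsc : SC x) (hu : u * u = 1)
    (hux : u * x * u⁻¹ = x⁻¹) (hnc : ∃ a b : G, a * b ≠ b * a)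
    (IH : ∀ (H : Type u) [Group H] [Finite H] (z : H), Nat.card H < Nat.card G → SC z → Conc z) :
    (Nat.card G = 60 ∨ Nat.card G = 168) ∧ HasS x := by
  haveI : Fact (Nat.Prime 2) := ⟨Nat.prime_two⟩
  obtain ⟨d, F, r, f, n, N⟩ := numbers hsc hu hux hnc
  have hu1 : u ≠ 1 := by
    rintro rfl
    apply hsc.ne_inv
    simpa using hux
  have h2G : 2 ∣ Nat.card G := by
    have ho : orderOf u = 2 := orderOf_eq_prime (by rw [sq, hu]) hu1
    rw [← ho]
    exact orderOf_dvd_natCard u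
  obtain ⟨T⟩ : Nonempty (Sylow 2 G) := inferInstance
  have hTne : (T : Subgroup G) ≠ ⊥ := T.ne_bot_of_dvd_card h2G
  obtain ⟨a, haOm, ha1⟩ := exists_om T.isPGroup' hTne
  have ha : a * a = 1 := haOm.2.1
  have hTa : (T : Subgroup G) ≤ Cn a := le_Cn_of_Om haOm
  have hfpos : 0 < f := fpos N.fi N.nF N.bound N.hr N.d2
  have hYne : (Yset x a).Nonempty := by
    rw [← Finset.card_pos, card_Yset, N.Y a ha ha1]
    exact Nat.mul_pos (Nat.mul_pos N.hr N.hF) hfpos
  obtain ⟨y₀, hy₀, hmax₀⟩ := Finset.exists_max_image (Yset x a)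
    (fun y => Nat.card (Qb a (y * a * y⁻¹))) hYne
  have hd₀ := yData hsc ha ha1 hy₀
  have hle₀ : Qb a (y₀ * a * y₀⁻¹) ≤ Cn a := (Qof_le _).trans inf_le_left
  obtain ⟨k, hk, hks⟩ := exists_conj_into (Cn a) T hTa _ hd₀.Qtwo hle₀
  obtain ⟨hy₁, hy₁b⟩ := Y_conj' hy₀ hk
  set y₁ := k * y₀ * k⁻¹ with hy₁def
  have hd₁ := yData hsc ha ha1 hy₁
  have hc₁ : Nat.card (Qb a (y₁ * a * y₁⁻¹)) = Nat.card (Qb a (y₀ * a * y₀⁻¹)) := by
    rw [hy₁b, card_Qb_conj hk]
  have hmax : ∀ y' ∈ Yset x a, Nat.card (Qb a (y' * a * y'⁻¹)) ≤ Nat.card (Qb a (y₁ * a * y₁⁻¹)) := by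
    intro y' hy'
    rw [hc₁]
    exact hmax₀ y' hy'
  have hle : Qb a (y₁ * a * y₁⁻¹) ≤ (T : Subgroup G) := by
    rw [hy₁b, Qb_conj hk]
    rintro _ ⟨s, hs, rfl⟩
    have : (MulAut.conj k).toMonoidHom s = k * s * k⁻¹ := by simp [MulAut.conj_apply]
    rw [this]
    exact hks s hs
  have hM := isMaxY_of_max hsc N.allconj ha ha1 hy₁ hmax
  have hne : Qb a (y₁ * a * y₁⁻¹) ≠ ⊥ := by
    intro h
    have := (YData.a_om ha hd₁).1
    rw [h] at this
    exact ha1 this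
  obtain ⟨Y, D⟩ := mx_exists IH hd₁.sc hM hne
  have hS : St x a T y₁ Y d F r f n :=
    ⟨hsc, N, ha, ha1, hTa, hy₁, hmax, hle, D, f4_of N ha ha1 hd₁, IH⟩
  constructor
  · by_cases hT₀ : Qb a (y₁ * a * y₁⁻¹) = (T : Subgroup G)
    · exact finish_C N hS.f4 (f_le_two hS hT₀)
    · by_cases hB : ∀ t ∈ (T : Subgroup G), NS (Qb a (y₁ * a * y₁⁻¹)) t
      · exact Or.inr (caseB hS hT₀ hB)
      · exact (caseA hS hT₀ hB).elim
  · obtain ⟨g, hg⟩ := isConj_iff.mp hd₁.conj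
    refine ⟨(Qb a (y₁ * a * y₁⁻¹)).map (MulAut.conj g⁻¹).toMonoidHom, ?_, hd₁.Qtwo.map _, ?_⟩
    · intro h
      rw [Subgroup.map_eq_bot_iff_of_injective _ (MulAut.conj g⁻¹).injective] at h
      exact hne h
    · intro p hp
      rw [mem_map_conj, inv_inv] at hp ⊢
      have : g * (x * p * x⁻¹) * g⁻¹ = (g * x * g⁻¹) * (g * p * g⁻¹) * (g * x * g⁻¹)⁻¹ := by group
      rw [this, hg]
      exact hd₁.Qact.inv _ hp

end Cfsg.Agent.Lib.FT3.MainL
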