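import Cfsg.Agent.Lib.FT3.Conc

/-!
# The structure of the normalizer of a maximal invariant 2-subgroup
-/

set_option autoImplicit false
set_option linter.style.haveILetI false
set_option linter.unusedSectionVars false
set_option linter.unusedVariables false

namespace Cfsg.Agent.Lib.FT3.Mx

open Cfsg.Agent.Lib.FT3.Fpf Cfsg.Agent.Lib.FT3.Base Cfsg.Agent.Lib.FT3.Two
  Cfsg.Agent.Lib.FT3.Conc

universe u

variable {G : Type u} [Group G] [Finite G]

/-- `N` normalizes: element form -/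
def NS (S : Subgroup G) (m : G) : Prop := ∀ s ∈ S, m * s * m⁻¹ ∈ S

/-- The structure of `N(S)`. -/
structure MxData (S : Subgroup G) (y : G) (Y : Subgroup G) : Prop where
  le : S ≤ Y
  leN : ∀ e ∈ Y, NS S e
  nrm : ∀ m, NS S m → ∀ e ∈ Y, m * e * m⁻¹ ∈ Y
  act : Act3 Y y
  two : ∀ e ∈ Y, Tw e → e ∈ S
  cases : (∀ m, NS S m → ∃ i : ℕ, ∃ e ∈ Y, m = y ^ i * e) ∨
    (∃ t, NS S t ∧ t * t = 1 ∧ t * y * t⁻¹ = y⁻¹ ∧
      ∀ m, NS S m → ∃ i : ℕ, ∃ e ∈ Y, m = y ^ i * e ∨ m = t * y ^ i * e)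

/-- `S` is a maximal `y`-invariant 2-subgroup. -/
structure IsMaxY (S : Subgroup G) (y : G) : Prop where
  two : IsPGroup 2 S
  inv : ∀ s ∈ S, y * s * y⁻¹ ∈ S
  max : ∀ S' : Subgroup G, IsPGroup 2 S' → (∀ s ∈ S', y * s * y⁻¹ ∈ S') → S ≤ S' → S' = S

lemma not_three_dvd_of_isP {S : Subgroup G} (h : IsPGroup 2 S) : ¬ 3 ∣ Nat.card S := by
  haveI : Fact (Nat.Prime 2) := ⟨Nat.prime_two⟩
  obtain ⟨k, hk⟩ := IsPGroup.iff_card.mp h
  rw [hk]
  intro h3
  have := Nat.Prime.dvd_of_dvd_pow Nat.prime_three h3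
  omega

theorem mx_exists (IH : ∀ (H : Type u) [Group H] [Finite H] (z : H), Nat.card H < Nat.card G →
      SC z → Conc z)
    {S : Subgroup G} {y : G} (hsc : SC y) (hM : IsMaxY S y) (hne : S ≠ ⊥) :
    ∃ Y, MxData S y Y := by
  classical
  have hA : Act3 S y := hsc.act3 (not_three_dvd_of_isP hM.two) hM.inv
  set M := Subgroup.normalizer (S : Set G) with hMdef
  have hyM : y ∈ M := mem_normalizer_of_conj hM.inv
  let y' : M := ⟨y, hyM⟩
  let S' : Subgroup M := S.subgroupOf M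
  haveI hS' : S'.Normal := Subgroup.normal_in_normalizer
  have hsc' : SC y' := hsc.sub M hyM
  have hA' : Act3 S' y' := by
    refine ⟨hsc'.cube, ?_, ?_⟩
    · intro s hs
      exact hA.inv _ hs
    · intro s hs hf
      have : (s : G) = 1 := hA.fix _ hs (congrArg Subtype.val hf)
      exact Subtype.ext this
  have hS'2 : IsPGroup 2 S' := by
    rw [isP_iff_forall]
    intro e he
    obtain ⟨k, hk⟩ := tw_of_mem hM.two he
    exact ⟨k, Subtype.ext hk⟩
  have hcardS' : Nat.card S' = Nat.card S := by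
    have hle : S ≤ M := Subgroup.le_normalizer
    exact Nat.card_congr (Subgroup.subgroupOfEquivOfLe hle).toEquiv
  have hno : ¬ HasS ((y' : M) : M ⧸ S') := by
    rintro ⟨P, hP, hP2, hPi⟩
    apply hP
    set f := QuotientGroup.mk' S' with hf
    set Pm := P.comap f with hPm
    have hPG : ((Pm.map M.subtype : Subgroup G)) = S := by
      apply hM.max
      · rw [isP_iff_forall]
        rintro e ⟨m, hm, rfl⟩
        have h1 : f m ∈ P := hm
        obtain ⟨k, hk⟩ := tw_of_mem hP2 h1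
        have h2 : m ^ 2 ^ k ∈ S' := by
          rw [← map_pow] at hk
          exact (QuotientGroup.eq_one_iff _).mp hk
        obtain ⟨l, hl⟩ := tw_of_mem hS'2 h2
        refine ⟨k + l, ?_⟩
        have h3 : m ^ 2 ^ (k + l) = 1 := by
          rw [pow_add, pow_mul, hl]
        exact congrArg Subtype.val h3
      · rintro _ ⟨m, hm, rfl⟩
        refine ⟨y' * m * y'⁻¹, ?_, rfl⟩
        show f (y' * m * y'⁻¹) ∈ P
        rw [map_mul, map_mul, map_inv]
        exact hPi _ hm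
      · intro s hs
        refine ⟨⟨s, Subgroup.le_normalizer hs⟩, ?_, rfl⟩
        show f _ ∈ P
        have : f ⟨s, Subgroup.le_normalizer hs⟩ = 1 := (QuotientGroup.eq_one_iff _).mpr hs
        rw [this]; exact one_mem _
    rw [eq_bot_iff]
    intro p hp
    obtain ⟨m, rfl⟩ := QuotientGroup.mk_surjective p
    have h1 : m ∈ Pm := hp
    have h2 : (m : G) ∈ S := by
      rw [← hPG]
      exact ⟨m, h1, rfl⟩
    exact (QuotientGroup.eq_one_iff m).mpr h2
  have hcard : Nat.card (M ⧸ S') < Nat.card G := by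
    have h1 := Subgroup.card_eq_card_quotient_mul_card_subgroup S'
    have h2 : Nat.card M ≤ Nat.card G := Subgroup.card_le_card_group M
    have h3 : 2 ≤ Nat.card S := by
      by_contra hlt
      have h4 : Nat.card S = 1 := by
        have := Nat.card_pos (α := S)
        omega
      exact hne (Subgroup.card_eq_one.mp h4)
    rw [hcardS'] at h1
    have h5 : 0 < Nat.card (M ⧸ S') := Nat.card_pos
    nlinarith
  have hsc'' : SC ((y' : M) : M ⧸ S') := hsc'.quot S' hA'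
  have hC := IH _ _ hcard hsc''
  obtain ⟨Y, hYn, hSY, hAY, htwo, hcases⟩ := MxAbs S' y' hsc' hA' hno hC
  have hmemN : ∀ {m : G}, NS S m → m ∈ M := fun h => mem_normalizer_of_conj h
  have hNSN : ∀ {m : G}, m ∈ M → NS S m := by
    intro m hm s hs
    exact (Subgroup.mem_normalizer_iff.mp hm s).mp hs
  refine ⟨Y.map M.subtype, ?_, ?_, ?_, ?_, ?_, ?_⟩
  · intro s hs
    exact ⟨⟨s, Subgroup.le_normalizer hs⟩, hSY hs, rfl⟩
  · rintro _ ⟨m, _, rfl⟩
    exact hNSN m.2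
  · rintro m hm _ ⟨e, he, rfl⟩
    exact ⟨⟨m, hmemN hm⟩ * e * (⟨m, hmemN hm⟩ : M)⁻¹, hYn.conj_mem e he _, rfl⟩
  · refine ⟨hsc.cube, ?_, ?_⟩
    · rintro _ ⟨e, he, rfl⟩
      exact ⟨y' * e * y'⁻¹, hAY.inv e he, rfl⟩
    · rintro _ ⟨e, he, rfl⟩ hf
      have : e = 1 := hAY.fix e he (Subtype.ext hf)
      rw [this]; rfl
  · rintro _ ⟨e, he, rfl⟩ ⟨k, hk⟩
    have : e ∈ S' := htwo e he ⟨k, Subtype.ext hk⟩
    exact this
  · rcases hcases with h | ⟨t, htt, hty, h⟩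
    · left
      intro m hm
      obtain ⟨i, e, he, h1⟩ := h ⟨m, hmemN hm⟩
      refine ⟨i, e, ⟨e, he, rfl⟩, ?_⟩
      exact congrArg Subtype.val h1
    · right
      refine ⟨t, hNSN t.2, congrArg Subtype.val htt, congrArg Subtype.val hty, ?_⟩
      intro m hm
      obtain ⟨i, e, he, h1⟩ := h ⟨m, hmemN hm⟩
      refine ⟨i, e, ⟨e, he, rfl⟩, ?_⟩
      rcases h1 with h1 | h1
      · exact Or.inl (congrArg Subtype.val h1)
      · exact Or.inr (congrArg Subtype.val h1)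

/-- `Ω₁ Z(S)`: the central involutions of `S`. -/
def IsOm (S : Subgroup G) (z : G) : Prop := z ∈ S ∧ z * z = 1 ∧ ∀ s ∈ S, s * z = z * s

section Data

variable {S Y : Subgroup G} {y : G}

lemma y_not_mem (hsc : SC y) (D : MxData S y Y) : y ∉ Y := fun h =>
  hsc.ne (D.act.fix y h (by group))

/-- powers of `y` modulo 3 -/
lemma pow_cases (hsc : SC y) (i : ℕ) : y ^ i = 1 ∨ y ^ i = y ∨ y ^ i = y⁻¹ := by
  have h1 : y ^ i = y ^ (i % 3) := by
    conv_lhs => rw [← Nat.div_add_mod i 3, pow_add, pow_mul, hsc.cube, one_pow, one_mul]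
  have h2 : i % 3 < 3 := Nat.mod_lt _ (by norm_num)
  rw [h1]
  interval_cases (i % 3)
  · left; simp
  · right; left; simp
  · right; right; rw [sq, hsc.sq]

lemma pow_mem_Y (hsc : SC y) (D : MxData S y Y) {j : ℕ} (h : y ^ j ∈ Y) : y ^ j = 1 := by
  rcases pow_cases hsc j with h1 | h1 | h1
  · exact h1
  · rw [h1] at h; exact absurd h (y_not_mem hsc D)
  · rw [h1] at h; exact absurd (by simpa using inv_mem h) (y_not_mem hsc D)

lemma pow_conj_Y (D : MxData S y Y) : ∀ (j : ℕ), ∀ e ∈ Y, y ^ j * e * (y ^ j)⁻¹ ∈ Y := by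
  intro j
  induction j with
  | zero => intro e he; simpa using he
  | succ j ih =>
    intro e he
    have h1 := ih _ (D.act.inv e he)
    have h2 : y ^ (j + 1) * e * (y ^ (j + 1))⁻¹ = y ^ j * (y * e * y⁻¹) * (y ^ j)⁻¹ := by
      rw [pow_succ]; group
    rw [h2]; exact h1

/-- powers of an element of `y^i Y` -/
lemma pow_form (D : MxData S y Y) {i : ℕ} {e : G} (he : e ∈ Y) (n : ℕ) :
    ∃ e' ∈ Y, (y ^ i * e) ^ n = y ^ (i * n) * e' := by
  induction n with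
  | zero => exact ⟨1, one_mem _, by simp⟩
  | succ n ih =>
    obtain ⟨e', he', h⟩ := ih
    refine ⟨(y ^ i)⁻¹ * e' * y ^ i * e, mul_mem ?_ he, ?_⟩
    · have h1 : (y ^ i)⁻¹ = y ^ (2 * i) := by
        apply inv_eq_of_mul_eq_one_right
        rw [← pow_add]
        have : i + 2 * i = 3 * i := by ring
        rw [this, pow_mul, D.act.cube, one_pow]
      have h2 : (y ^ i)⁻¹ * e' * y ^ i = y ^ (2 * i) * e' * (y ^ (2 * i))⁻¹ := by
        rw [← h1, inv_inv]
      rw [h2]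
      exact pow_conj_Y D _ _ he'
    · rw [pow_succ, h, Nat.mul_succ, pow_add]; group

/-- A 2-element in `y^i Y` lies in `S`. -/
lemma mem_of_tw (hsc : SC y) (D : MxData S y Y) {i : ℕ} {e : G} (he : e ∈ Y) (ht : Tw (y ^ i * e)) :
    y ^ i * e ∈ S := by
  obtain ⟨k, hk⟩ := ht
  obtain ⟨e', he', h⟩ := pow_form (i := i) D he (2 ^ k)
  rw [hk] at h
  have h1 : y ^ (i * 2 ^ k) = e'⁻¹ := eq_inv_of_mul_eq_one_left h.symm
  have h2 : y ^ (i * 2 ^ k) ∈ Y := by rw [h1]; exact inv_mem he'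
  have h3 := pow_mem_Y hsc D h2
  have h4 : 3 ∣ i * 2 ^ k := by
    rw [← hsc.orderOf_eq]
    exact orderOf_dvd_of_pow_eq_one h3
  have h5 : 3 ∣ i := by
    rcases (Nat.Prime.dvd_mul Nat.prime_three).mp h4 with h6 | h6
    · exact h6
    · have := Nat.Prime.dvd_of_dvd_pow Nat.prime_three h6
      omega
  have h6 : y ^ i = 1 := by
    obtain ⟨c, rfl⟩ := h5
    rw [pow_mul, hsc.cube, one_pow]
  rw [h6, one_mul] at hk ⊢
  exact D.two e he ⟨k, hk⟩

/-- Two elements of `N(S) \ S`: the quotient is a 2-element. -/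
lemma coset_two (hsc : SC y) (D : MxData S y Y) {t : G} (hallt : ∀ m, NS S m → ∃ i : ℕ, ∃ e ∈ Y, m = y ^ i * e ∨ m = t * y ^ i * e)
    {m₁ m₂ : G} (h1 : NS S m₁) (h2 : NS S m₂) (ht1 : Tw m₁) (ht2 : Tw m₂) (hn1 : m₁ ∉ S) (hn2 : m₂ ∉ S)
    (ht : Tw (m₁⁻¹ * m₂)) : m₁⁻¹ * m₂ ∈ S := by
  obtain ⟨i, e₁, he₁, h3⟩ := hallt m₁ h1
  obtain ⟨j, e₂, he₂, h4⟩ := hallt m₂ h2
  rcases h3 with h3 | h3
  · rw [h3] at ht1 hn1
    exact absurd (mem_of_tw hsc D he₁ ht1) hn1
  rcases h4 with h4 | h4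
  · rw [h4] at ht2 hn2
    exact absurd (mem_of_tw hsc D he₂ ht2) hn2
  have hinv : (y ^ i)⁻¹ = y ^ (2 * i) := by
    apply inv_eq_of_mul_eq_one_right
    rw [← pow_add]
    have : i + 2 * i = 3 * i := by ring
    rw [this, pow_mul, hsc.cube, one_pow]
  have hform : m₁⁻¹ * m₂ = y ^ (2 * i + j) * ((y ^ (2 * i + j))⁻¹ * e₁⁻¹ * y ^ (2 * i + j) * e₂) := by
    rw [h3, h4, pow_add, ← hinv]; group
  have hkey : ((y ^ (2 * i + j))⁻¹ * e₁⁻¹ * y ^ (2 * i + j) * e₂) ∈ Y := by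
    refine mul_mem ?_ he₂
    have hinv2 : (y ^ (2 * i + j))⁻¹ = y ^ (2 * (2 * i + j)) := by
      apply inv_eq_of_mul_eq_one_right
      rw [← pow_add]
      have : (2 * i + j) + 2 * (2 * i + j) = 3 * (2 * i + j) := by ring
      rw [this, pow_mul, hsc.cube, one_pow]
    have h5 : (y ^ (2 * i + j))⁻¹ * e₁⁻¹ * y ^ (2 * i + j) =
        y ^ (2 * (2 * i + j)) * e₁⁻¹ * (y ^ (2 * (2 * i + j)))⁻¹ := by
      rw [← hinv2, inv_inv]
    rw [h5]
    exact pow_conj_Y D _ _ (inv_mem he₁)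
  rw [hform] at ht ⊢
  exact mem_of_tw hsc D hkey ht

lemma t_not_mem (hsc : SC y) (D : MxData S y Y) {t : G} (hty : t * y * t⁻¹ = y⁻¹) : t ∉ Y := by
  intro h
  have h1 : t * (y * t⁻¹ * y⁻¹) ∈ Y := mul_mem h (D.act.inv _ (inv_mem h))
  have h2 : t * (y * t⁻¹ * y⁻¹) = y := by
    calc t * (y * t⁻¹ * y⁻¹) = (t * y * t⁻¹) * y⁻¹ := by group
      _ = y⁻¹ * y⁻¹ := by rw [hty]
      _ = y := hsc.inv_sq
  rw [h2] at h1
  exact y_not_mem hsc D h1

/-- `t` conjugates powers of `y` to inverse powers -/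
lemma t_pow (hty : ∀ {t : G}, t = t) {t : G} (h : t * y * t⁻¹ = y⁻¹) (i : ℕ) :
    t * y ^ i * t⁻¹ = (y ^ i)⁻¹ := by
  induction i with
  | zero => simp
  | succ i ih =>
    have : t * y ^ (i + 1) * t⁻¹ = (t * y ^ i * t⁻¹) * (t * y * t⁻¹) := by
      rw [pow_succ]; group
    rw [this, ih, h, pow_succ]
    have hc : (y ^ i)⁻¹ * y⁻¹ = y⁻¹ * (y ^ i)⁻¹ := by
      have : Commute (y ^ i)⁻¹ y⁻¹ := ((Commute.refl y).pow_left i).inv_inv
      exact this.eq
    rw [hc]; group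

end Data

/-! ### `Ω₁ Z(S)` -/

section Om

variable {S Y : Subgroup G} {y : G}

lemma IsOm.one : IsOm S (1 : G) := ⟨one_mem _, by simp, by simp⟩

lemma IsOm.mul {a b : G} (ha : IsOm S a) (hb : IsOm S b) : IsOm S (a * b) := by
  refine ⟨mul_mem ha.1 hb.1, ?_, ?_⟩
  · have h1 : b * a = a * b := (hb.2.2 a ha.1).symm
    calc a * b * (a * b) = a * (b * a) * b := by group
      _ = a * (a * b) * b := by rw [h1]
      _ = (a * a) * (b * b) := by group
      _ = 1 := by rw [ha.2.1, hb.2.1, one_mul]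
  · intro s hs
    calc s * (a * b) = (s * a) * b := by group
      _ = (a * s) * b := by rw [ha.2.2 s hs]
      _ = a * (s * b) := by group
      _ = a * (b * s) := by rw [hb.2.2 s hs]
      _ = a * b * s := by group

/-- Conjugation by an element normalizing `S` preserves `Ω₁ Z(S)`. -/
lemma IsOm.conj {z m : G} (hz : IsOm S z) (hm : m ∈ Subgroup.normalizer (S : Set G)) :
    IsOm S (m * z * m⁻¹) := by
  refine ⟨(Subgroup.mem_normalizer_iff.mp hm z).mp hz.1, ?_, ?_⟩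
  · calc m * z * m⁻¹ * (m * z * m⁻¹) = m * (z * z) * m⁻¹ := by group
      _ = 1 := by rw [hz.2.1]; group
  · intro s hs
    have h1 : m⁻¹ * s * m ∈ S := by
      have := (Subgroup.mem_normalizer_iff.mp hm (m⁻¹ * s * m)).mpr (by
        have : m * (m⁻¹ * s * m) * m⁻¹ = s := by group
        rw [this]; exact hs)
      exact this
    have h2 := hz.2.2 _ h1
    calc s * (m * z * m⁻¹) = m * ((m⁻¹ * s * m) * z) * m⁻¹ := by group
      _ = m * (z * (m⁻¹ * s * m)) * m⁻¹ := by rw [h2]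
      _ = m * z * m⁻¹ * s := by group

lemma IsOm.conj' {z m : G} (hz : IsOm S z) (hm : NS S m) : IsOm S (m * z * m⁻¹) :=
  hz.conj (mem_normalizer_of_conj hm)

lemma IsOm.comm {a b : G} (ha : IsOm S a) (hb : IsOm S b) : a * b = b * a := hb.2.2 a ha.1

/-- In terms of powers. -/
lemma orb_of_pow (hsc : SC y) {a z : G} {i : ℕ} (h : z = y ^ i * a * (y ^ i)⁻¹) :
    z = a ∨ z = y * a * y⁻¹ ∨ z = y⁻¹ * a * y := by
  rcases pow_cases hsc i with h1 | h1 | h1
  · left; rw [h, h1]; group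
  · right; left; rw [h, h1]
  · right; right; rw [h, h1, inv_inv]

/-- The `S₃` argument: a module for `S₃` with no fixed points under the 3-cycle, in which all
vectors are fixed by a transposition, is of dimension at most 2. -/
theorem om_S3 (hsc : SC y) (hA : Act3 S y) {t : G} (ht : NS S t) (htt : t * t = 1)
    (hty : t * y * t⁻¹ = y⁻¹)
    (hH : ∀ z, IsOm S z → z ≠ 1 → t * z * t⁻¹ = z ∨ t * z * t⁻¹ = y * z * y⁻¹ ∨
      t * z * t⁻¹ = y⁻¹ * z * y)
    {a z : G} (ha : IsOm S a) (ha1 : a ≠ 1) (hz : IsOm S z) (hz1 : z ≠ 1) :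
    z = a ∨ z = y * a * y⁻¹ ∨ z = y⁻¹ * a * y := by
  have hyS : y ∈ Subgroup.normalizer (S : Set G) := mem_normalizer_of_conj hA.inv
  have hyiS : y⁻¹ ∈ Subgroup.normalizer (S : Set G) := inv_mem hyS
  have htS : t ∈ Subgroup.normalizer (S : Set G) := mem_normalizer_of_conj ht
  have ty : t * y = y⁻¹ * t := by rw [← hty]; group
  have tyi : t * y⁻¹ = y * t := by
    calc t * y⁻¹ = (t * y * t⁻¹)⁻¹ * t := by group
      _ = y * t := by rw [hty, inv_inv]
  have yyi := hsc.sq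
  have yiyi := hsc.inv_sq
  have tyi' : t * y⁻¹ * t⁻¹ = y := by
    calc t * y⁻¹ * t⁻¹ = (t * y * t⁻¹)⁻¹ := by group
      _ = y := by rw [hty, inv_inv]
  have tconj_y : ∀ w, t * (y * w * y⁻¹) * t⁻¹ = y⁻¹ * (t * w * t⁻¹) * y := by
    intro w
    calc t * (y * w * y⁻¹) * t⁻¹ = (t * y * t⁻¹) * (t * w * t⁻¹) * (t * y⁻¹ * t⁻¹) := by group
      _ = _ := by rw [hty, tyi']
  have tconj_yi : ∀ w, t * (y⁻¹ * w * y) * t⁻¹ = y * (t * w * t⁻¹) * y⁻¹ := by
    intro w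
    calc t * (y⁻¹ * w * y) * t⁻¹ = (t * y⁻¹ * t⁻¹) * (t * w * t⁻¹) * (t * y * t⁻¹) := by group
      _ = _ := by rw [hty, tyi']
  have c1 : ∀ z, IsOm S z → z ≠ 1 → ∃ j : ℕ, t * (y ^ j * z * (y ^ j)⁻¹) * t⁻¹ = y ^ j * z * (y ^ j)⁻¹ := by
    intro z hz hz1
    rcases hH z hz hz1 with h | h | h
    · exact ⟨0, by simpa using h⟩
    · refine ⟨2, ?_⟩
      rw [sq, yyi, inv_inv, tconj_yi, h]
      calc y * (y * z * y⁻¹) * y⁻¹ = (y * y) * z * (y * y)⁻¹ := by group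
        _ = _ := by rw [yyi, inv_inv]
    · refine ⟨1, ?_⟩
      rw [pow_one, tconj_y, h]
      calc y⁻¹ * (y⁻¹ * z * y) * y = (y⁻¹ * y⁻¹) * z * (y⁻¹ * y⁻¹)⁻¹ := by
            simp only [mul_inv_rev, inv_inv, mul_assoc]
        _ = _ := by rw [yiyi]
  have c2 : ∀ c w, IsOm S c → c ≠ 1 → IsOm S w → w ≠ 1 → t * c * t⁻¹ = c → t * w * t⁻¹ = w → c = w := by
    intro c w hc hc1 hw hw1 hcf hwf
    have hw' : IsOm S (y * w * y⁻¹) := hw.conj hyS
    have hw₁ : IsOm S (y⁻¹ * w * y) := by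
      have := hw.conj hyiS
      rwa [inv_inv] at this
    have hc₁ : IsOm S (y⁻¹ * c * y) := by
      have := hc.conj hyiS
      rwa [inv_inv] at this
    have hv : IsOm S (c * (y * w * y⁻¹)) := hc.mul hw'
    have htv : t * (c * (y * w * y⁻¹)) * t⁻¹ = c * (y⁻¹ * w * y) := by
      calc t * (c * (y * w * y⁻¹)) * t⁻¹ = (t * c * t⁻¹) * (t * (y * w * y⁻¹) * t⁻¹) := by group
        _ = _ := by rw [hcf, tconj_y, hwf]
    have hbad : y⁻¹ * w * y ≠ y * w * y⁻¹ := by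
      intro he
      apply hw1
      apply hA.inv_act.fix w hw.1
      rw [inv_inv]
      have : w = y * (y * w * y⁻¹) * y⁻¹ := by
        rw [← he]; group
      have h2 : y * (y * w * y⁻¹) * y⁻¹ = (y * y) * w * (y * y)⁻¹ := by group
      rw [h2, yyi, inv_inv] at this
      exact this.symm
    by_cases hv1 : c * (y * w * y⁻¹) = 1
    · exfalso
      have h1 : t * (c * (y * w * y⁻¹)) * t⁻¹ = 1 := by rw [hv1]; group
      rw [htv] at h1
      have h2 : c = y * w * y⁻¹ := by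
        have := eq_inv_of_mul_eq_one_left hv1
        rwa [inv_eq_of_mul_eq_one_left hw'.2.1] at this
      have h3 : y⁻¹ * w * y = y * w * y⁻¹ := by
        have := eq_inv_of_mul_eq_one_right h1
        rw [inv_eq_of_mul_eq_one_left hc.2.1, h2] at this
        exact this
      exact hbad h3
    rcases hH _ hv hv1 with h | h | h
    · exfalso
      rw [htv] at h
      exact hbad (mul_left_cancel h)
    · exfalso
      rw [htv] at h
      have h2 : y * (c * (y * w * y⁻¹)) * y⁻¹ = (y * c * y⁻¹) * (y⁻¹ * w * y) := by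
        calc y * (c * (y * w * y⁻¹)) * y⁻¹ = (y * c * y⁻¹) * ((y * y) * w * (y * y)⁻¹) := by group
          _ = _ := by rw [yyi, inv_inv]
      rw [h2] at h
      have h3 : c = y * c * y⁻¹ := mul_right_cancel h
      exact hc1 (hA.fix c hc.1 h3.symm)
    · rw [htv] at h
      have h2 : y⁻¹ * (c * (y * w * y⁻¹)) * y = (y⁻¹ * c * y) * w := by group
      rw [h2] at h
      -- `c w₁ = c₁ w` gives `c w = c₁ w₁`
      set w₁ := y⁻¹ * w * y with hw₁def
      set c₁ := y⁻¹ * c * y with hc₁def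
      have hcw : c * w = c₁ * w₁ := by
        have h3 : c * w₁ * w₁ * w = c₁ * w * w₁ * w := by rw [h]
        have h4 : c * w₁ * w₁ * w = c * w := by
          rw [mul_assoc c, hw₁.2.1, mul_one]
        have h5 : c₁ * w * w₁ * w = c₁ * w₁ := by
          calc c₁ * w * w₁ * w = c₁ * (w * w₁) * w := by group
            _ = c₁ * (w₁ * w) * w := by rw [hw.comm hw₁]
            _ = c₁ * w₁ * (w * w) := by group
            _ = c₁ * w₁ := by rw [hw.2.1, mul_one]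
        rw [h4, h5] at h3
        exact h3
      have h6 : y⁻¹ * (c * w) * y = c₁ * w₁ := by
        rw [hc₁def, hw₁def]; group
      have h7 : c * w = 1 := by
        apply hA.inv_act.fix (c * w) (mul_mem hc.1 hw.1)
        rw [inv_inv, h6, hcw]
      have h8 : c = w⁻¹ := eq_inv_of_mul_eq_one_left h7
      rw [h8, inv_eq_of_mul_eq_one_left hw.2.1]
  -- final step
  obtain ⟨j₁, hj₁⟩ := c1 a ha ha1
  obtain ⟨j₂, hj₂⟩ := c1 z hz hz1
  have hpowOm : ∀ (j : ℕ) {w : G}, IsOm S w → IsOm S (y ^ j * w * (y ^ j)⁻¹) := by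
    intro j w hw
    exact hw.conj (pow_mem hyS j)
  have hpow1 : ∀ (j : ℕ) {w : G}, w ≠ 1 → y ^ j * w * (y ^ j)⁻¹ ≠ 1 := by
    intro j w hw h
    apply hw
    calc w = (y ^ j)⁻¹ * (y ^ j * w * (y ^ j)⁻¹) * y ^ j := by group
      _ = 1 := by rw [h]; group
  have heq := c2 _ _ (hpowOm j₁ ha) (hpow1 j₁ ha1) (hpowOm j₂ hz) (hpow1 j₂ hz1) hj₁ hj₂
  apply orb_of_pow hsc (i := j₁ + 2 * j₂)
  have hinv : (y ^ j₂)⁻¹ = y ^ (2 * j₂) := by
    apply inv_eq_of_mul_eq_one_right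
    rw [← pow_add]
    have : j₂ + 2 * j₂ = 3 * j₂ := by ring
    rw [this, pow_mul, hsc.cube, one_pow]
  have hz2 : z = (y ^ j₂)⁻¹ * (y ^ j₁ * a * (y ^ j₁)⁻¹) * y ^ j₂ := by
    rw [heq]; group
  rw [hz2, hinv]
  have hc : y ^ j₁ * y ^ (2 * j₂) = y ^ (2 * j₂) * y ^ j₁ := (Commute.pow_pow_self y _ _)
  have h3 : y ^ j₂ = (y ^ (2 * j₂))⁻¹ := by rw [← hinv, inv_inv]
  rw [h3, pow_add, hc]
  group

end Om

end Cfsg.Agent.Lib.FT3.Mx
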