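import Cfsg.Agent.Lib.FT3.Mx
import Cfsg.Agent.Lib.FT3.Count

/-!
# `Ω₁ Z(S)` is a four-group on which `y` is transitive
-/

set_option autoImplicit false
set_option linter.style.haveILetI false
set_option linter.unusedSectionVars false
set_option linter.unusedVariables false

namespace Cfsg.Agent.Lib.FT3.Om

open Cfsg.Agent.Lib.FT3.Fpf Cfsg.Agent.Lib.FT3.Base Cfsg.Agent.Lib.FT3.Two
  Cfsg.Agent.Lib.FT3.Conc Cfsg.Agent.Lib.FT3.Mx Cfsg.Agent.Lib.FT3.Count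

universe u

variable {G : Type u} [Group G] [Finite G]

lemma mem_smul_sylow {P : Sylow 2 G} {g x : G} :
    x ∈ ((g • P : Sylow 2 G) : Subgroup G) ↔ g⁻¹ * x * g ∈ (P : Subgroup G) := by
  rw [Sylow.smul_def, Sylow.pointwise_smul_def, Subgroup.mem_pointwise_smul_iff_inv_smul_mem]
  simp [MulAut.smul_def]

/-- one class of involutions and a central involution in a Sylow subgroup: every involution
is central in a Sylow subgroup -/
lemma hcz_of (hinv : ∀ a b : G, a * a = 1 → a ≠ 1 → b * b = 1 → b ≠ 1 → IsConj a b)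
    (T : Sylow 2 G) {a₀ : G} (ha : a₀ * a₀ = 1) (ha1 : a₀ ≠ 1)
    (hc : ∀ t ∈ (T : Subgroup G), t * a₀ = a₀ * t) :
    ∀ z : G, z * z = 1 → z ≠ 1 → ∃ Tz : Sylow 2 G, (Tz : Subgroup G) ≤ Cn z := by
  intro z hz hz1
  obtain ⟨g, rfl⟩ := isConj_iff.mp (hinv a₀ z ha ha1 hz hz1)
  refine ⟨g • T, ?_⟩
  intro s hs
  rw [mem_smul_sylow] at hs
  rw [mem_Cn]
  have h1 := hc _ hs
  calc s * (g * a₀ * g⁻¹) = g * ((g⁻¹ * s * g) * a₀) * g⁻¹ := by group
    _ = g * (a₀ * (g⁻¹ * s * g)) * g⁻¹ := by rw [h1]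
    _ = _ := by group

variable {S Y : Subgroup G} {y : G}

lemma le_Cn_of_Om {z : G} (hz : IsOm S z) : S ≤ Cn z := fun s hs => mem_Cn.mpr (hz.2.2 s hs)

/-- Elements of `Y` centralize `Ω₁ Z(S)`. -/
lemma Y_comm_Om (D : MxData S y Y) {z e : G} (hz : IsOm S z) (he : e ∈ Y) : e * z = z * e :=
  nilp_commute D.act.nilpotent D.le D.two hz.1 hz.2.1 hz.2.2 he

/-- The existence of a 2-element of `N(S) \ S` centralizing a given central involution, when
`S` is not a Sylow subgroup. -/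
lemma exists_tw_comm (hcz : ∀ z : G, z * z = 1 → z ≠ 1 → ∃ Tz : Sylow 2 G, (Tz : Subgroup G) ≤ Cn z)
    (hS : IsPGroup 2 S) (hns : ∀ P : Sylow 2 G, (P : Subgroup G) ≠ S) {z : G} (hz : IsOm S z)
    (hz1 : z ≠ 1) : ∃ m, NS S m ∧ m ∉ S ∧ Tw m ∧ m * z = z * m := by
  obtain ⟨Tz, hTz⟩ := hcz z hz.2.1 hz1
  obtain ⟨k, hk, hks⟩ := exists_conj_into (Cn z) Tz hTz S hS (le_Cn_of_Om hz)
  set P : Sylow 2 G := k⁻¹ • Tz with hP
  have hSP : S ≤ (P : Subgroup G) := by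
    intro s hs
    rw [hP, mem_smul_sylow, inv_inv]
    exact hks s hs
  have hPC : (P : Subgroup G) ≤ Cn z := by
    intro p hp
    rw [hP, mem_smul_sylow, inv_inv] at hp
    have h1 := hTz hp
    have h2 := inv_mem hk
    have h3 : p = k⁻¹ * (k * p * k⁻¹) * k := by group
    rw [h3]
    exact mul_mem (mul_mem h2 h1) hk
  obtain ⟨m, hm, hm2, hm3⟩ := exists_normalizer_elt P.isPGroup' hSP (hns P).symm
  exact ⟨m, hm3, hm2, tw_of_mem P.isPGroup' hm, mem_Cn.mp (hPC hm)⟩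

/-- **Transitivity on `Ω₁ Z(S)`.** -/
theorem om_trans (hsc : SC y)
    (hinv : ∀ a b : G, a * a = 1 → a ≠ 1 → b * b = 1 → b ≠ 1 → IsConj a b)
    (hcz : ∀ z : G, z * z = 1 → z ≠ 1 → ∃ Tz : Sylow 2 G, (Tz : Subgroup G) ≤ Cn z)
    (D : MxData S y Y) (hS : IsPGroup 2 S) (hi : ∀ s ∈ S, y * s * y⁻¹ ∈ S)
    {a z : G} (ha : IsOm S a) (ha1 : a ≠ 1) (hz : IsOm S z) (hz1 : z ≠ 1) :
    z = a ∨ z = y * a * y⁻¹ ∨ z = y⁻¹ * a * y := by
  haveI : Fact (Nat.Prime 2) := ⟨Nat.prime_two⟩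
  have hAS : Act3 S y := D.act.mono D.le hi
  rcases D.cases with hI | ⟨t, htS, htt, hty, hII⟩
  · obtain ⟨P, hP⟩ := hS.exists_le_sylow
    have hSP : (P : Subgroup G) = S := by
      by_contra hne
      obtain ⟨m, hm, hm2, hm3⟩ := exists_normalizer_elt P.isPGroup' hP (Ne.symm hne)
      obtain ⟨i, e, he, rfl⟩ := hI m hm3
      exact hm2 (mem_of_tw hsc D he (tw_of_mem P.isPGroup' hm))
    obtain ⟨g, hg⟩ := isConj_iff.mp (hinv a z ha.2.1 ha1 hz.2.1 hz1)
    have hTz : ((g • P : Sylow 2 G) : Subgroup G) ≤ Cn z := by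
      intro s hs
      rw [mem_smul_sylow, hSP] at hs
      rw [mem_Cn, ← hg]
      have h1 := ha.2.2 _ hs
      calc s * (g * a * g⁻¹) = g * ((g⁻¹ * s * g) * a) * g⁻¹ := by group
        _ = g * (a * (g⁻¹ * s * g)) * g⁻¹ := by rw [h1]
        _ = _ := by group
    obtain ⟨k, hk, hks⟩ := exists_conj_into (Cn z) (g • P) hTz S hS (le_Cn_of_Om hz)
    have hmNS : NS S (g⁻¹ * k) := by
      intro s hs
      have h1 := hks s hs
      rw [mem_smul_sylow, hSP] at h1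
      have h2 : g⁻¹ * k * s * (g⁻¹ * k)⁻¹ = g⁻¹ * (k * s * k⁻¹) * g := by group
      rw [h2]; exact h1
    obtain ⟨i, e, he, hm⟩ := hI _ hmNS
    have hkz : k * z * k⁻¹ = z := by
      have := mem_Cn.mp hk
      rw [this]; group
    have h3 : (g⁻¹ * k) * z * (g⁻¹ * k)⁻¹ = a := by
      calc (g⁻¹ * k) * z * (g⁻¹ * k)⁻¹ = g⁻¹ * (k * z * k⁻¹) * g := by group
        _ = g⁻¹ * (g * a * g⁻¹) * g := by rw [hkz, hg]
        _ = a := by group
    have hez : e * z * e⁻¹ = z := by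
      rw [Y_comm_Om D hz he]; group
    rw [hm] at h3
    have h4 : y ^ i * z * (y ^ i)⁻¹ = a := by
      rw [← h3, ← hez]
      conv_rhs => rw [hez]
      group
    apply orb_of_pow hsc (i := 2 * i)
    have hinv2 : (y ^ i)⁻¹ = y ^ (2 * i) := by
      apply inv_eq_of_mul_eq_one_right
      rw [← pow_add]
      have : i + 2 * i = 3 * i := by ring
      rw [this, pow_mul, hsc.cube, one_pow]
    have h5 : z = (y ^ i)⁻¹ * a * y ^ i := by rw [← h4]; group
    rw [h5, hinv2]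
    congr 1
    rw [← hinv2, inv_inv]
  · have htnot : t ∉ S := fun h => t_not_mem hsc D hty (D.le h)
    have hns : ∀ P : Sylow 2 G, (P : Subgroup G) ≠ S := by
      intro P hPS
      have hQ : IsPGroup 2 ((S ⊔ Subgroup.zpowers t : Subgroup G)) := by
        apply IsPGroup.to_sup_of_normal_left' hS (isP_zpowers (Tw.of_invol htt))
        rw [Subgroup.zpowers_le]
        exact mem_normalizer_of_conj htS
      have h1 := P.is_maximal' hQ (by rw [hPS]; exact le_sup_left)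
      apply htnot
      rw [← hPS, ← h1]
      exact (le_sup_right : Subgroup.zpowers t ≤ _) (Subgroup.mem_zpowers t)
    apply om_S3 hsc hAS htS htt hty ?_ ha ha1 hz hz1
    intro w hw hw1
    obtain ⟨m, hmN, hmS, hmT, hmc⟩ := exists_tw_comm hcz hS hns hw hw1
    obtain ⟨i, e, he, hm⟩ := hII m hmN
    rcases hm with hm | hm
    · rw [hm] at hmT hmS
      exact absurd (mem_of_tw hsc D he hmT) hmS
    · have hew : e * w * e⁻¹ = w := by
        rw [Y_comm_Om D hw he]; group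
      have h1 : m * w * m⁻¹ = w := by rw [hmc]; group
      have h2 : t * (y ^ i * w * (y ^ i)⁻¹) * t⁻¹ = w := by
        rw [hm] at h1
        calc t * (y ^ i * w * (y ^ i)⁻¹) * t⁻¹
            = t * (y ^ i * (e * w * e⁻¹) * (y ^ i)⁻¹) * t⁻¹ := by rw [hew]
          _ = t * y ^ i * e * w * (t * y ^ i * e)⁻¹ := by group
          _ = w := h1
      have h3 : t * y ^ i * t⁻¹ = (y ^ i)⁻¹ := t_pow (fun {_} => rfl) hty i
      have h4 : t * (y ^ i * w * (y ^ i)⁻¹) * t⁻¹ = (y ^ i)⁻¹ * (t * w * t⁻¹) * y ^ i := by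
        calc t * (y ^ i * w * (y ^ i)⁻¹) * t⁻¹
            = (t * y ^ i * t⁻¹) * (t * w * t⁻¹) * (t * y ^ i * t⁻¹)⁻¹ := by group
          _ = _ := by rw [h3, inv_inv]
      rw [h4] at h2
      apply orb_of_pow hsc (i := i)
      calc t * w * t⁻¹ = y ^ i * ((y ^ i)⁻¹ * (t * w * t⁻¹) * y ^ i) * (y ^ i)⁻¹ := by group
        _ = y ^ i * w * (y ^ i)⁻¹ := by rw [h2]

end Cfsg.Agent.Lib.FT3.Om
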