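import Cfsg.Agent.Lib.FT3.Fpf

/-!
# The "phi trick"
-/

set_option autoImplicit false

namespace Cfsg.Agent.Lib.FT3.Phi

open scoped commutatorElement
open Cfsg.Agent.Lib.FT3.Fpf

variable {G : Type*} [Group G] {S : Subgroup G} {y : G}

lemma comm_mul_left (u v t : G) : ⁅u * v, t⁆ = u * ⁅v, t⁆ * u⁻¹ * ⁅u, t⁆ := by
  simp only [commutatorElement_def]; group

lemma comm_mul_right (w s t : G) : ⁅w, s * t⁆ = ⁅w, s⁆ * (s * ⁅w, t⁆ * s⁻¹) := by
  simp only [commutatorElement_def]; group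

/-- Let `y` act fixed-point-freely on `S`, let `a` be a central involution of `S` with
`{1, a, σ a, σ² a}` a four-group, and let `w ∈ S` with all commutators `⁅w, s⁆ ∈ {1, a}`.
Then `w` is central in `S`. -/
theorem central_of_comm_mem [Finite G] (h : Act3 S y) {a w : G} (ha : a ∈ S) (ha1 : a ≠ 1) (ha2 : a * a = 1)
    (hc : ∀ s ∈ S, Commute a s) (hV : a * (y * a * y⁻¹) = y * (y * a * y⁻¹) * y⁻¹)
    (hw : w ∈ S) (hws : ∀ s ∈ S, ⁅w, s⁆ = 1 ∨ ⁅w, s⁆ = a) : ∀ s ∈ S, ⁅w, s⁆ = 1 := by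
  set a₂ := y * a * y⁻¹ with ha₂
  set a₃ := y * a₂ * y⁻¹ with ha₃
  have hy := h.inv_act
  have hyi : ∀ s ∈ S, y⁻¹ * s * y ∈ S := fun s hs => by
    have := hy.inv s hs
    rwa [inv_inv] at this
  have ne_conj : ∀ b : G, b ≠ 1 → y * b * y⁻¹ ≠ 1 := fun b hb e => hb (by
    have h2 : b = y⁻¹ * (y * b * y⁻¹) * y := by group
    rw [h2, e]; group)
  have hc₂ : ∀ s ∈ S, Commute a₂ s := fun s hs => by
    have h1 := (hc _ (hyi s hs)).eq
    change a₂ * s = s * a₂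
    rw [ha₂]
    calc y * a * y⁻¹ * s = y * (a * (y⁻¹ * s * y)) * y⁻¹ := by group
      _ = y * ((y⁻¹ * s * y) * a) * y⁻¹ := by rw [h1]
      _ = s * (y * a * y⁻¹) := by group
  have hc₃ : ∀ s ∈ S, Commute a₃ s := fun s hs => by
    have h1 := (hc₂ _ (hyi s hs)).eq
    change a₃ * s = s * a₃
    rw [ha₃]
    calc y * a₂ * y⁻¹ * s = y * (a₂ * (y⁻¹ * s * y)) * y⁻¹ := by group
      _ = y * ((y⁻¹ * s * y) * a₂) * y⁻¹ := by rw [h1]
      _ = s * (y * a₂ * y⁻¹) := by group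
  set w₂ := y * w * y⁻¹ with hw₂
  set w₃ := y * w₂ * y⁻¹ with hw₃
  have hw₂S : w₂ ∈ S := h.inv _ hw
  have hw₃S : w₃ ∈ S := h.inv _ hw₂S
  have hprod : w * w₂ * w₃ = 1 := h.prod w hw
  have ha₂1 : a₂ ≠ 1 := ne_conj a ha1
  have ha₃1 : a₃ ≠ 1 := ne_conj a₂ ha₂1
  have hcaa₂ : a * a₂ = a₂ * a := (hc₂ a ha).eq.symm
  -- the key step
  have step : ∀ t ∈ S, ⁅w, t⁆ = a → ⁅w, y⁻¹ * t * y⁆ = a := by
    intro t ht hta
    set t₁ := y⁻¹ * t * y with ht₁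
    set t₂ := y⁻¹ * t₁ * y with ht₂
    have ht₁S : t₁ ∈ S := hyi t ht
    have ht₂S : t₂ ∈ S := hyi t₁ ht₁S
    have e₂ : ⁅w₂, t⁆ = y * ⁅w, t₁⁆ * y⁻¹ := by
      simp only [commutatorElement_def, hw₂, ht₁]; group
    have e₂' : ⁅w₂, t₁⁆ = y * ⁅w, t₂⁆ * y⁻¹ := by
      simp only [commutatorElement_def, hw₂, ht₂]; group
    have e₃ : ⁅w₃, t⁆ = y * ⁅w₂, t₁⁆ * y⁻¹ := by
      simp only [commutatorElement_def, hw₃, ht₁]; group
    have hB : ⁅w₂, t⁆ = 1 ∨ ⁅w₂, t⁆ = a₂ := by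
      rw [e₂]
      rcases hws t₁ ht₁S with h1 | h1
      · left; rw [h1]; group
      · right; rw [h1]
    have hC : ⁅w₃, t⁆ = 1 ∨ ⁅w₃, t⁆ = a₃ := by
      rw [e₃, e₂']
      rcases hws t₂ ht₂S with h1 | h1
      · left; rw [h1]; group
      · right; rw [h1]
    have hrel : ⁅w₃, t⁆ * ⁅w₂, t⁆ * a = 1 := by
      have h0 : ⁅w * w₂ * w₃, t⁆ = 1 := by
        rw [hprod]; simp [commutatorElement_def]
      have h0a := comm_mul_left (w * w₂) w₃ t
      have h0b := comm_mul_left w w₂ t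
      rw [h0b, hta] at h0a
      rw [h0a] at h0
      have h1 : w * ⁅w₂, t⁆ * w⁻¹ = ⁅w₂, t⁆ := by
        rcases hB with h1 | h1
        · rw [h1]; group
        · rw [h1, (hc₂ w hw).symm.eq]; group
      have h2 : w * w₂ * ⁅w₃, t⁆ * (w * w₂)⁻¹ = ⁅w₃, t⁆ := by
        rcases hC with h2 | h2
        · rw [h2]; group
        · rw [h2, (hc₃ _ (mul_mem hw hw₂S)).symm.eq]; group
      rw [h1, h2] at h0
      rw [mul_assoc]; exact h0
    rcases hB with hB | hB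
    · exfalso
      rcases hC with hC | hC
      · rw [hB, hC] at hrel
        simp only [mul_one, one_mul] at hrel
        exact ha1 hrel
      · rw [hB, hC, mul_one] at hrel
        -- a₃ * a = 1 with a₃ = a * a₂
        rw [← hV] at hrel
        apply ha₂1
        calc a₂ = a * a * a₂ := by rw [ha2, one_mul]
          _ = a * (a₂ * a) := by rw [mul_assoc, hcaa₂]
          _ = a * a₂ * a := by group
          _ = 1 := hrel
    · have h1 : y * ⁅w, t₁⁆ * y⁻¹ = y * a * y⁻¹ := by rw [← e₂, hB]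
      exact mul_left_cancel (mul_right_cancel h1)
  -- conclusion
  intro s hs
  rcases hws s hs with h1 | h1
  · exact h1
  exfalso
  set t₁ := y⁻¹ * s * y with ht₁
  set t₂ := y⁻¹ * t₁ * y with ht₂
  have ht₁S : t₁ ∈ S := hyi s hs
  have ht₂S : t₂ ∈ S := hyi t₁ ht₁S
  have h2 : ⁅w, t₁⁆ = a := step s hs h1
  have h3 : ⁅w, t₂⁆ = a := step t₁ ht₁S h2
  have hp : s * t₁ * t₂ = 1 := by
    have := hy.prod s hs
    simp only [inv_inv] at this
    exact this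
  have h4 : ⁅w, t₁ * t₂⁆ = 1 := by
    rw [comm_mul_right, h2, h3, (hc _ ht₁S).symm.eq]
    rw [mul_inv_cancel_right, ha2]
  have h5 : ⁅w, s * (t₁ * t₂)⁆ = a := by
    rw [comm_mul_right, h1, h4]; group
  rw [← mul_assoc, hp] at h5
  apply ha1
  rw [← h5]
  simp [commutatorElement_def]

end Cfsg.Agent.Lib.FT3.Phi
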