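import Cfsg.Agent.Lib.FT3.Loc

/-!
# The local setting
-/

set_option autoImplicit false
set_option linter.style.haveILetI false
set_option linter.unusedSectionVars false
set_option linter.unusedVariables false
set_option linter.dupNamespace false

namespace Cfsg.Agent.Lib.FT3.St

open Cfsg.Agent.Lib.FT3.Fpf Cfsg.Agent.Lib.FT3.Base Cfsg.Agent.Lib.FT3.Two
  Cfsg.Agent.Lib.FT3.Conc Cfsg.Agent.Lib.FT3.Mx Cfsg.Agent.Lib.FT3.Count Cfsg.Agent.Lib.FT3.Om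
  Cfsg.Agent.Lib.FT3.Loc Cfsg.Agent.Lib.FT3.Chars Cfsg.Agent.Lib.FT3.Numeric

universe u

variable {G : Type u} [Group G] [Finite G]

open scoped Classical

/-- The local setting. -/
structure St (x a : G) (T : Sylow 2 G) (y₀ : G) (Y : Subgroup G) (d F r f n : ℕ) : Prop where
  sc : SC x
  N : Nums G x d F r f n
  ha : a * a = 1
  ha1 : a ≠ 1
  hTa : (T : Subgroup G) ≤ Cn a
  hy₀ : y₀ ∈ Yset x a
  hmax : ∀ y' ∈ Yset x a, Nat.card (Qb a (y' * a * y'⁻¹)) ≤ Nat.card (Qb a (y₀ * a * y₀⁻¹))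
  hle : Qb a (y₀ * a * y₀⁻¹) ≤ T
  D : MxData (Qb a (y₀ * a * y₀⁻¹)) y₀ Y
  f4 : 3 * F + 4 ≤ 4 * d
  IH : ∀ (H : Type u) [Group H] [Finite H] (z : H), Nat.card H < Nat.card G → SC z → Conc z

variable {x a : G} {T : Sylow 2 G} {y₀ : G} {Y : Subgroup G} {d F r f n : ℕ}

namespace St

variable (S : St x a T y₀ Y d F r f n)

include S

lemma hinv : ∀ a b : G, a * a = 1 → a ≠ 1 → b * b = 1 → b ≠ 1 → IsConj a b := S.N.allconj

lemma hTc : ∀ t ∈ (T : Subgroup G), t * a = a * t := fun t ht => mem_Cn.mp (S.hTa ht)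

lemma hcz : ∀ z : G, z * z = 1 → z ≠ 1 → ∃ Tz : Sylow 2 G, (Tz : Subgroup G) ≤ Cn z :=
  hcz_of S.hinv T S.ha S.ha1 S.hTc

lemma d₀ : YData x a y₀ := yData S.sc S.ha S.ha1 S.hy₀

lemma M₀ : IsMaxY (Qb a (y₀ * a * y₀⁻¹)) y₀ :=
  isMaxY_of_max S.sc S.hinv S.ha S.ha1 S.hy₀ S.hmax

lemma card_Cn : Nat.card (Cn a) = r * F := S.N.card a S.ha S.ha1

lemma card_Y : (Yset x a).card = r * F * f := by
  rw [card_Yset]; exact S.N.Y a S.ha S.ha1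

lemma q_le : Nat.card (T : Subgroup G) ≤ r * F := by
  rw [← S.card_Cn]
  exact Subgroup.card_le_of_le S.hTa

lemma rF_pos : 0 < r * F := Nat.mul_pos S.N.hr S.N.hF

/-- relation in the four-group -/
lemma y_inv_a (y : G) (hy : YData x a y) : y⁻¹ * a * y = a * (y * a * y⁻¹) := by
  rw [hy.rel]
  have hi : y⁻¹ = y * y := by rw [hy.sc.sq]
  calc y⁻¹ * a * y = (y * y) * a * (y * y)⁻¹ := by rw [← hi, inv_inv]
    _ = y * (y * a * y⁻¹) * y⁻¹ := by group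

/-- Four-group structure of `Ω₁ Z(Q(b))` for `b` with `|Q(b)|` maximal -/
lemma om_general {y : G} (hy : y ∈ Yset x a)
    (hs : Nat.card (Qb a (y * a * y⁻¹)) = Nat.card (Qb a (y₀ * a * y₀⁻¹))) {z : G}
    (hz : IsOm (Qb a (y * a * y⁻¹)) z) :
    z = 1 ∨ z = a ∨ z = y * a * y⁻¹ ∨ z = a * (y * a * y⁻¹) := by
  have hd := yData S.sc S.ha S.ha1 hy
  have hM : IsMaxY (Qb a (y * a * y⁻¹)) y :=
    isMaxY_of_max S.sc S.hinv S.ha S.ha1 hy (fun y' hy' => by rw [hs]; exact S.hmax y' hy')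
  have hne : Qb a (y * a * y⁻¹) ≠ ⊥ := by
    intro h
    have := (YData.a_om S.ha hd).1
    rw [h] at this
    exact S.ha1 this
  obtain ⟨Y', D'⟩ := mx_exists S.IH hd.sc hM hne
  by_cases hz1 : z = 1
  · exact Or.inl hz1
  right
  rcases om_trans hd.sc S.hinv S.hcz D' hM.two hM.inv (YData.a_om S.ha hd) S.ha1 hz hz1 with h | h | h
  · exact Or.inl h
  · exact Or.inr (Or.inl h)
  · right; right
    rw [h, S.y_inv_a y hd]

lemma om₀ {z : G} (hz : IsOm (Qb a (y₀ * a * y₀⁻¹)) z) :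
    z = 1 ∨ z = a ∨ z = y₀ * a * y₀⁻¹ ∨ z = a * (y₀ * a * y₀⁻¹) :=
  S.om_general S.hy₀ rfl hz

/-- The order of `Q(b)` -/
lemma s_data {y : G} (hy : y ∈ Yset x a) :
    Nat.card (Qb a (y * a * y⁻¹)) % 3 = 1 ∧ ∃ k, Nat.card (Qb a (y * a * y⁻¹)) = 2 ^ k := by
  have hd := yData S.sc S.ha S.ha1 hy
  haveI : Fact (Nat.Prime 2) := ⟨Nat.prime_two⟩
  exact ⟨hd.Qact.card_mod, IsPGroup.iff_card.mp hd.Qtwo⟩

/-- `|Q(b)| < |Q(b₀)|` implies `4 |Q(b)| ≤ |Q(b₀)|` -/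
lemma s_lt {y : G} (hy : y ∈ Yset x a)
    (hne : Nat.card (Qb a (y * a * y⁻¹)) ≠ Nat.card (Qb a (y₀ * a * y₀⁻¹))) :
    4 * Nat.card (Qb a (y * a * y⁻¹)) ≤ Nat.card (Qb a (y₀ * a * y₀⁻¹)) := by
  obtain ⟨h1, k, hk⟩ := S.s_data hy
  obtain ⟨h2, l, hl⟩ := S.s_data S.hy₀
  exact four_mul_le hk hl h1 h2 (S.hmax y hy) hne

/-- Conjugating into `T` -/
lemma rep {b : G} (hb : b ∈ Bset x a) : ∃ k ∈ Cn a, Qb a (k * b * k⁻¹) ≤ T := by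
  obtain ⟨y, ⟨h1, h2⟩, rfl⟩ := mem_Bset.mp hb
  have hy : y ∈ Yset x a := mem_Yset.mpr ⟨h1, h2⟩
  have hd := yData S.sc S.ha S.ha1 hy
  have hle : Qb a (y * a * y⁻¹) ≤ Cn a := (Qof_le _).trans inf_le_left
  obtain ⟨k, hk, hks⟩ := exists_conj_into (Cn a) T S.hTa _ hd.Qtwo hle
  refine ⟨k, hk, ?_⟩
  rw [Qb_conj hk]
  rintro _ ⟨s, hs, rfl⟩
  have : (MulAut.conj k).toMonoidHom s = k * s * k⁻¹ := by simp [MulAut.conj_apply]
  rw [this]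
  exact hks s hs

/-- elements of `Bset` lie in `Q(b)` -/
lemma b_mem_Q {b : G} (hb : b ∈ Bset x a) : b ∈ Qb a b := by
  obtain ⟨y, ⟨h1, h2⟩, rfl⟩ := mem_Bset.mp hb
  have hd := yData S.sc S.ha S.ha1 (mem_Yset.mpr ⟨h1, h2⟩)
  exact hd.b_om.1

lemma a_mem_Q {b : G} (hb : b ∈ Bset x a) : a ∈ Qb a b := by
  obtain ⟨y, ⟨h1, h2⟩, rfl⟩ := mem_Bset.mp hb
  have hd := yData S.sc S.ha S.ha1 (mem_Yset.mpr ⟨h1, h2⟩)
  exact (YData.a_om S.ha hd).1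

/-- An element of `T` commuting with `b` lies in `Q(b)`. -/
lemma T_comm_Q {b t : G} (ht : t ∈ (T : Subgroup G)) (htb : t * b = b * t) : t ∈ Qb a b :=
  mem_Qof (mem_Rb.mpr ⟨S.hTc t ht, htb⟩) (tw_of_mem T.isPGroup' ht)

lemma Bset_ne_one {b : G} (hb : b ∈ Bset x a) : b ≠ 1 := by
  obtain ⟨y, ⟨h1, h2⟩, rfl⟩ := mem_Bset.mp hb
  exact (yData S.sc S.ha S.ha1 (mem_Yset.mpr ⟨h1, h2⟩)).b1

lemma Bset_ne_a {b : G} (hb : b ∈ Bset x a) : b ≠ a := by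
  obtain ⟨y, ⟨h1, h2⟩, rfl⟩ := mem_Bset.mp hb
  exact (yData S.sc S.ha S.ha1 (mem_Yset.mpr ⟨h1, h2⟩)).ba

lemma Bset_sq {b : G} (hb : b ∈ Bset x a) : b * b = 1 := by
  obtain ⟨y, ⟨h1, h2⟩, rfl⟩ := mem_Bset.mp hb
  exact (yData S.sc S.ha S.ha1 (mem_Yset.mpr ⟨h1, h2⟩)).bb

/-- **The counting consequence.** -/
lemma count (E : ℕ) (Ex : Finset G)
    (h2 : ∀ y ∈ Yset x a, (¬ ∃ b₀ ∈ Ex, ∃ g ∈ Cn a, g * b₀ * g⁻¹ = y * a * y⁻¹) → y * a * y⁻¹ ∈ (T : Subgroup G) →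
      E * Nat.card (Qb a (y * a * y⁻¹)) ≤ Nat.card (T : Subgroup G)) :
    E * f ≤ (((Bset x a).filter (fun b => ¬ ∃ b₀ ∈ Ex, ∃ g ∈ Cn a, g * b₀ * g⁻¹ = b)).filter (· ∈ (T : Subgroup G))).card
        + E * Ex.card := by
  have h := count_bound x a S.sc S.ha (T : Subgroup G) S.hTa E Ex
    (by
      intro b hb _
      obtain ⟨k, hk, hks⟩ := S.rep hb
      exact ⟨k, hk, hks (S.b_mem_Q (Bset_conj hk hb))⟩)
    (by
      intro b hb hnot hbT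
      obtain ⟨y, ⟨h1, h3⟩, rfl⟩ := mem_Bset.mp hb
      have h4 := h2 y (mem_Yset.mpr ⟨h1, h3⟩) hnot hbT
      refine le_trans (Nat.mul_le_mul_left E ?_) h4
      exact card_T_le (a := a) _ T.isPGroup' S.hTa _)
  rw [S.card_Y, S.card_Cn] at h
  have hpos := S.rF_pos
  have : r * F * (E * f) ≤ r * F * (((Bset x a).filter (fun b => ¬ ∃ b₀ ∈ Ex, ∃ g ∈ Cn a, g * b₀ * g⁻¹ = b)).filter (· ∈ (T : Subgroup G))).card
        + r * F * (E * Ex.card) := by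
    calc r * F * (E * f) = E * (r * F * f) := by ring
      _ ≤ _ := h
      _ = _ := by ring
  rw [← mul_add] at this
  exact Nat.le_of_mul_le_mul_left this hpos

end St

end Cfsg.Agent.Lib.FT3.St
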