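import Cfsg.Agent.Lib.FT3.MainL

/-!
# Tools for the induction: lifting along a normal subgroup of order prime to 3.
-/

set_option autoImplicit false
set_option linter.style.haveILetI false
set_option linter.unusedSectionVars false
set_option linter.unusedVariables false

namespace Cfsg.Agent.Lib.FT3.TopA

open Cfsg.Agent.Lib.FT3.Fpf Cfsg.Agent.Lib.FT3.Base Cfsg.Agent.Lib.FT3.Two
  Cfsg.Agent.Lib.FT3.Conc Cfsg.Agent.Lib.FT3.Mx

open scoped commutatorElement

open QuotientGroup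

universe u

variable {G : Type u} [Group G] [Finite G] {x : G}

/-- **Burnside's transfer**: no element inverts `x`: the first case. -/
theorem burnside_typeI (hsc : SC x) (hno : ∀ g : G, g * x * g⁻¹ ≠ x⁻¹) : TypeI G := by
  haveI : Fact (Nat.Prime 3) := ⟨Nat.prime_three⟩
  obtain ⟨P, hP⟩ := hsc.exists_sylow
  have hcomm : ∀ g ∈ Subgroup.zpowers x, ∀ k : G, k * x = x * k → g * k = k * g := by
    rintro _ ⟨n, rfl⟩ k hk
    have : Commute k x := hk
    exact (this.zpow_right n).eq.symm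
  have hN : Subgroup.normalizer (P : Set G) ≤ Subgroup.centralizer (P : Set G) := by
    intro g hg
    rw [Subgroup.mem_centralizer_iff]
    intro p hp
    have hpx : p ∈ Subgroup.zpowers x := by
      rw [← hP]; exact hp
    have h1 : g * x * g⁻¹ ∈ Subgroup.zpowers x := by
      rw [← hP]
      apply (Subgroup.mem_normalizer_iff.mp hg x).mp
      rw [hP]
      exact Subgroup.mem_zpowers x
    rcases hsc.mem_zpowers h1 with h2 | h2 | h2
    · exfalso
      apply hsc.ne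
      calc x = g⁻¹ * (g * x * g⁻¹) * g := by group
        _ = 1 := by rw [h2]; group
    · have h3 : g * x = x * g := by
        calc g * x = (g * x * g⁻¹) * g := by group
          _ = x * g := by rw [h2]
      exact (hcomm p hpx g h3)
    · exact absurd h2 (hno g)
  haveI : (P : Subgroup G).FiniteIndex := inferInstance
  have hK := MonoidHom.ker_transferSylow_isComplement' P hN
  have h3 := MonoidHom.not_dvd_card_ker_transferSylow P hN
  set K := (MonoidHom.transferSylow P hN).ker with hKdef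
  have hKn : K.Normal := MonoidHom.normal_ker _
  have hA : Act3 K x := hsc.act3 h3 (fun s hs => hKn.conj_mem s hs x)
  refine ⟨K, hKn, hA.nilpotent, ?_, Or.inl ?_⟩
  · exact ((Nat.Prime.coprime_iff_not_dvd Nat.prime_three).mpr h3).symm
  · rw [← Subgroup.index_eq_card, hK.symm.index_eq_card, hP, hsc.card_zpowers]

section Quot

variable (E : Subgroup G) [hE : E.Normal]

lemma card_comap_mk (P : Subgroup (G ⧸ E)) :
    Nat.card (P.comap (mk' E)) = Nat.card E * Nat.card P := by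
  have h1 := Subgroup.card_mul_index (P.comap (mk' E))
  have h2 : (P.comap (mk' E)).index = P.index :=
    Subgroup.index_comap_of_surjective _ (mk'_surjective E)
  have h3 := Subgroup.card_mul_index P
  have h4 := Subgroup.card_eq_card_quotient_mul_card_subgroup E
  rw [h2] at h1
  rw [← h3] at h4
  have hpos : 0 < P.index := by
    rw [Nat.pos_iff_ne_zero]
    exact Subgroup.index_ne_zero_of_finite
  have h5 : Nat.card (P.comap (mk' E)) * P.index = (Nat.card E * Nat.card P) * P.index := by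
    rw [h1, h4]; ring
  exact Nat.eq_of_mul_eq_mul_right hpos h5

variable {E}

lemma not_three_dvd_comap {P : Subgroup (G ⧸ E)} (hE3 : ¬ 3 ∣ Nat.card E) (hP3 : ¬ 3 ∣ Nat.card P) :
    ¬ 3 ∣ Nat.card (P.comap (mk' E)) := by
  rw [card_comap_mk]
  intro h
  exact ((Nat.Prime.dvd_mul Nat.prime_three).mp h).elim hE3 hP3

lemma comap_inv {P : Subgroup (G ⧸ E)}
    (hinv : ∀ p ∈ P, ((x : G) : G ⧸ E) * p * ((x : G) : G ⧸ E)⁻¹ ∈ P) :
    ∀ s ∈ P.comap (mk' E), x * s * x⁻¹ ∈ P.comap (mk' E) := by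
  intro s hs
  show mk' E (x * s * x⁻¹) ∈ P
  rw [map_mul, map_mul, map_inv]
  exact hinv _ hs

variable (E)

/-- The third isomorphism theorem, in a convenient form. -/
lemma quot_comap_equiv (Nb : Subgroup (G ⧸ E)) [Nb.Normal] [(Nb.comap (mk' E)).Normal] :
    Nonempty (G ⧸ Nb.comap (mk' E) ≃* (G ⧸ E) ⧸ Nb) := by
  let φ : G →* (G ⧸ E) ⧸ Nb := (mk' Nb).comp (mk' E)
  have hs : Function.Surjective φ := (mk'_surjective Nb).comp (mk'_surjective E)
  have hk : φ.ker = Nb.comap (mk' E) := by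
    ext g
    rw [MonoidHom.mem_ker]
    show ((mk' E g : G ⧸ E) : (G ⧸ E) ⧸ Nb) = 1 ↔ _
    rw [QuotientGroup.eq_one_iff]
    rfl
  exact ⟨(quotientMulEquivOfEq hk.symm).trans (quotientKerEquivOfSurjective φ hs)⟩

variable {E}

/-- Lifting the first case. -/
theorem lift_I (hsc : SC x) (hE3 : ¬ 3 ∣ Nat.card E) (h : TypeI (G ⧸ E)) : TypeI G := by
  obtain ⟨Nb, hNb, _, h3, hq⟩ := h
  haveI := hNb
  have hN₁ : (Nb.comap (mk' E)).Normal := hNb.comap _
  haveI := hN₁
  have h3b : ¬ 3 ∣ Nat.card Nb := fun h => by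
    have := Nat.Coprime.eq_one_of_dvd h3.symm h
    omega
  have hc := not_three_dvd_comap hE3 h3b
  have hA : Act3 (Nb.comap (mk' E)) x := hsc.act3 hc (fun s hs => hN₁.conj_mem s hs x)
  obtain ⟨iso⟩ := quot_comap_equiv E Nb
  refine ⟨Nb.comap (mk' E), hN₁, hA.nilpotent, ?_, ?_⟩
  · exact ((Nat.Prime.coprime_iff_not_dvd Nat.prime_three).mpr hc).symm
  · rcases hq with h | ⟨⟨i⟩⟩
    · left; rw [Nat.card_congr iso.toEquiv, h]
    · right; exact ⟨iso.trans i⟩

/-- Lifting the invariant 2-subgroup. -/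
theorem hasS_lift (hsc : SC x) (hE3 : ¬ 3 ∣ Nat.card E) (h : HasS ((x : G) : G ⧸ E)) : HasS x := by
  haveI : Fact (Nat.Prime 2) := ⟨Nat.prime_two⟩
  obtain ⟨P, hP, hP2, hPi⟩ := h
  have hA : Act3 (P.comap (mk' E)) x :=
    hsc.act3 (not_three_dvd_comap hE3 (not_three_dvd_of_isP hP2)) (comap_inv hPi)
  refine ⟨Qof (P.comap (mk' E)), ?_, Act3.isP_Qof hA, (Act3.Qof_act hA).inv⟩
  obtain ⟨k, hk⟩ := IsPGroup.iff_card.mp hP2
  have hk0 : k ≠ 0 := by
    rintro rfl
    rw [pow_zero] at hk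
    exact hP (Subgroup.card_eq_one.mp hk)
  have h2 : 2 ∣ Nat.card (P.comap (mk' E)) := by
    rw [card_comap_mk, hk]
    exact (dvd_pow_self 2 hk0).trans (dvd_mul_left _ _)
  obtain ⟨y, hy⟩ := exists_prime_orderOf_dvd_card' (G := P.comap (mk' E)) 2 h2
  have hy2 : y ^ 2 = 1 := by rw [← hy]; exact pow_orderOf_eq_one y
  have hy2' : (y : G) * y = 1 := by
    have := congrArg Subtype.val hy2
    simpa [sq] using this
  have hm : (y : G) ∈ Qof (P.comap (mk' E)) := mem_Qof y.2 (Tw.of_invol hy2')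
  intro hbot
  rw [hbot] at hm
  have h1 : y = 1 := Subtype.ext hm
  rw [h1, orderOf_one] at hy
  omega

end Quot

/-! ### Commutators -/

/-- elements whose commutators with `A` lie in `B` -/
def Dsub (A B : Subgroup G) [hB : B.Normal] : Subgroup G where
  carrier := {g | ∀ n ∈ A, ⁅g, n⁆ ∈ B}
  one_mem' := by
    intro n _
    rw [commutatorElement_one_left]
    exact one_mem _
  mul_mem' := by
    intro g h hg hh n hn
    have e : ⁅g * h, n⁆ = g * ⁅h, n⁆ * g⁻¹ * ⁅g, n⁆ := Cfsg.Agent.Lib.FT3.Phi.comm_mul_left g h n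
    rw [e]
    exact mul_mem (hB.conj_mem _ (hh n hn) g) (hg n hn)
  inv_mem' := by
    intro g hg n hn
    have e : ⁅g⁻¹, n⁆ = g⁻¹ * ⁅g, n⁆⁻¹ * g⁻¹⁻¹ := by
      simp only [commutatorElement_def]; group
    rw [e]
    exact hB.conj_mem _ (inv_mem (hg n hn)) g⁻¹

lemma mem_Dsub {A B : Subgroup G} [B.Normal] {g : G} : g ∈ Dsub A B ↔ ∀ n ∈ A, ⁅g, n⁆ ∈ B := Iff.rfl

instance Dsub_normal (A B : Subgroup G) [hA : A.Normal] [hB : B.Normal] : (Dsub A B).Normal := by
  refine ⟨fun g hg k => ?_⟩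
  intro n hn
  have e : ⁅k * g * k⁻¹, n⁆ = k * ⁅g, k⁻¹ * n * k⁆ * k⁻¹ := by
    simp only [commutatorElement_def]; group
  rw [e]
  apply hB.conj_mem
  apply hg
  have := hA.conj_mem n hn k⁻¹
  rwa [inv_inv] at this

/-- A normal subgroup containing `N`, and something else, in a simple quotient: everything. -/
lemma all_of_normal {N D : Subgroup G} [hN : N.Normal] [hD : D.Normal] [IsSimpleGroup (G ⧸ N)]
    (hND : N ≤ D) {g : G} (hg : g ∈ D) (hgN : g ∉ N) (y : G) : y ∈ D := by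
  have hn : (D.map (mk' N)).Normal := hD.map _ (mk'_surjective N)
  rcases hn.eq_bot_or_eq_top with h | h
  · exfalso
    have h1 : mk' N g ∈ D.map (mk' N) := ⟨g, hg, rfl⟩
    rw [h] at h1
    exact hgN ((QuotientGroup.eq_one_iff g).mp h1)
  · have h1 : mk' N y ∈ D.map (mk' N) := by rw [h]; trivial
    obtain ⟨d, hd, hde⟩ := h1
    have h2 : d⁻¹ * y ∈ N := by
      have : (d : G ⧸ N) = (y : G ⧸ N) := hde
      exact QuotientGroup.eq.mp this
    have h3 := mul_mem hd (hND h2)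
    simpa using h3

/-- The centre of `N` as a subgroup -/
def Zof (N : Subgroup G) : Subgroup G := N ⊓ Subgroup.centralizer (N : Set G)

lemma mem_Zof {N : Subgroup G} {z : G} : z ∈ Zof N ↔ z ∈ N ∧ ∀ m ∈ N, m * z = z * m := by
  rw [Zof, Subgroup.mem_inf, Subgroup.mem_centralizer_iff]
  rfl

instance Zof_normal (N : Subgroup G) [hN : N.Normal] : (Zof N).Normal := by
  refine ⟨fun z hz g => ?_⟩
  obtain ⟨h1, h2⟩ := mem_Zof.mp hz
  refine mem_Zof.mpr ⟨hN.conj_mem z h1 g, ?_⟩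
  intro m hm
  have h3 : g⁻¹ * m * g ∈ N := by
    have := hN.conj_mem m hm g⁻¹
    rwa [inv_inv] at this
  have h4 := h2 _ h3
  calc m * (g * z * g⁻¹) = g * ((g⁻¹ * m * g) * z) * g⁻¹ := by group
    _ = g * (z * (g⁻¹ * m * g)) * g⁻¹ := by rw [h4]
    _ = g * z * g⁻¹ * m := by group

/-- The subgroup of elements of `N` with `n ^ m = 1`, for `N` abelian. -/
def Omof (N : Subgroup G) (hab : ∀ n ∈ N, ∀ k ∈ N, n * k = k * n) (m : ℕ) : Subgroup G where
  carrier := {n | n ∈ N ∧ n ^ m = 1}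
  one_mem' := ⟨one_mem _, one_pow _⟩
  mul_mem' := by
    rintro a b ⟨h1, h2⟩ ⟨h3, h4⟩
    refine ⟨mul_mem h1 h3, ?_⟩
    have : Commute a b := hab a h1 b h3
    rw [this.mul_pow, h2, h4, one_mul]
  inv_mem' := by
    rintro a ⟨h1, h2⟩
    exact ⟨inv_mem h1, by rw [inv_pow, h2, inv_one]⟩

instance Omof_normal (N : Subgroup G) [hN : N.Normal] (hab : ∀ n ∈ N, ∀ k ∈ N, n * k = k * n) (m : ℕ) :
    (Omof N hab m).Normal := by
  refine ⟨fun n hn g => ⟨hN.conj_mem n hn.1 g, ?_⟩⟩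
  rw [conj_pow, hn.2]; group

lemma comm_pow_left {h n c : G} (hc : c = ⁅h, n⁆) (hcomm : h * c = c * h) (k : ℕ) :
    ⁅h ^ k, n⁆ = c ^ k := by
  induction k with
  | zero => simp
  | succ k ih =>
    rw [pow_succ', Cfsg.Agent.Lib.FT3.Phi.comm_mul_left, ih, ← hc, pow_succ]
    have : Commute h (c ^ k) := (Commute.pow_right hcomm k)
    rw [this.eq]; group

/-- **The key lifting lemma**. -/
theorem lift_exp (hsc : SC x) {N : Subgroup G} [hN : N.Normal] (hA : Act3 N x)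
    [IsSimpleGroup (G ⧸ N)] {P : Subgroup (G ⧸ N)} (hne : P ≠ ⊥) (hP3 : ¬ 3 ∣ Nat.card P)
    (hinv : ∀ p ∈ P, ((x : G) : G ⧸ N) * p * ((x : G) : G ⧸ N)⁻¹ ∈ P) :
    (∀ n ∈ N, ∀ k ∈ N, n * k = k * n) ∧ ∀ m : ℕ, (∀ p ∈ P, p ^ m = 1) → ∀ n ∈ N, n ^ m = 1 := by
  have hN3 : ¬ 3 ∣ Nat.card N := fun h => by
    have : 3 ∣ Nat.card N := h
    have hm := hA.card_mod
    omega
  have hAH : Act3 (P.comap (mk' N)) x :=
    hsc.act3 (not_three_dvd_comap hN3 hP3) (comap_inv hinv)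
  have hNH : N ≤ P.comap (mk' N) := by
    intro n hn
    show mk' N n ∈ P
    have : mk' N n = 1 := (QuotientGroup.eq_one_iff n).mpr hn
    rw [this]; exact one_mem _
  obtain ⟨p₀, hp₀, hp₀1⟩ : ∃ p ∈ P, p ≠ 1 := by
    by_contra hcon
    push Not at hcon
    apply hne
    rw [eq_bot_iff]
    exact fun p hp => hcon p hp
  obtain ⟨h₀, rfl⟩ := QuotientGroup.mk_surjective p₀
  have hh₀ : h₀ ∈ P.comap (mk' N) := hp₀
  have hh₀N : h₀ ∉ N := fun h => hp₀1 ((QuotientGroup.eq_one_iff h₀).mpr h)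
  have hcomm_mem : ∀ h ∈ P.comap (mk' N), ∀ n ∈ N, ⁅h, n⁆ ∈ N := by
    intro h _ n hn
    rw [commutatorElement_def]
    exact mul_mem (hN.conj_mem n hn h) (inv_mem hn)
  -- abelian
  have hab : ∀ n ∈ N, ∀ k ∈ N, n * k = k * n := by
    have hD : ∀ h ∈ P.comap (mk' N), h ∈ Dsub N (Zof N) := by
      intro h hh n hn
      refine mem_Zof.mpr ⟨hcomm_mem h hh n hn, ?_⟩
      intro m hm
      have h1 := hAH.class_two h n m hh (hNH hn) (hNH hm)
      exact (commutatorElement_eq_one_iff_commute.mp h1).eq.symm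
    have hxD : x ∈ Dsub N (Zof N) :=
      all_of_normal (fun n hn => hD n (hNH hn)) (hD _ hh₀) hh₀N x
    intro n hn k hk
    obtain ⟨m, hm, hme⟩ := hA.surj2 n hn
    have h1 := hxD m hm
    have h2 : ⁅x, m⁆ = n := by rw [commutatorElement_def]; exact hme
    rw [h2] at h1
    exact ((mem_Zof.mp h1).2 k hk).symm
  refine ⟨hab, ?_⟩
  intro m hm
  have hD : ∀ h ∈ P.comap (mk' N), h ∈ Dsub N (Omof N hab m) := by
    intro h hh n hn
    refine ⟨hcomm_mem h hh n hn, ?_⟩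
    have h1 := hAH.class_two h n h hh (hNH hn) hh
    have hcc : h * ⁅h, n⁆ = ⁅h, n⁆ * h := (commutatorElement_eq_one_iff_commute.mp h1).eq.symm
    rw [← comm_pow_left rfl hcc m]
    have h3 : h ^ m ∈ N := by
      have h4 : (mk' N) (h ^ m) = 1 := by
        rw [map_pow]
        exact hm _ hh
      exact (QuotientGroup.eq_one_iff _).mp h4
    have h5 := hab _ h3 _ hn
    exact commutatorElement_eq_one_iff_commute.mpr h5
  have hxD : x ∈ Dsub N (Omof N hab m) :=
    all_of_normal (fun n hn => hD n (hNH hn)) (hD _ hh₀) hh₀N x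
  intro n hn
  obtain ⟨k, hk, hke⟩ := hA.surj2 n hn
  have h1 := hxD k hk
  have h2 : ⁅x, k⁆ = n := by rw [commutatorElement_def]; exact hke
  rw [h2] at h1
  exact h1.2

/-- 2-elements of `A₅` are involutions. -/
lemma alt5_sq : ∀ g : alternatingGroup (Fin 5), g ^ 4 = 1 → g ^ 2 = 1 := by
  decide +kernel

lemma alt5_two {g : alternatingGroup (Fin 5)} (h : Tw g) : g ^ 2 = 1 := by
  obtain ⟨k, hk⟩ := h
  apply alt5_sq
  have h60 : g ^ 60 = 1 := by
    have : Nat.card (alternatingGroup (Fin 5)) = 60 := by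
      rw [nat_card_alternatingGroup]; simp [Nat.factorial]
    rw [← this]
    exact pow_card_eq_one'
  by_cases hk2 : k ≤ 2
  · interval_cases k
    · rw [pow_zero, pow_one] at hk; rw [hk, one_pow]
    · have : g ^ 4 = (g ^ 2 ^ 1) ^ 2 := by rw [← pow_mul]; norm_num
      rw [this, hk, one_pow]
    · exact hk
  · have hd : 2 ^ k = 4 * 2 ^ (k - 2) := by
      obtain ⟨j, rfl⟩ : ∃ j, k = j + 2 := ⟨k - 2, by omega⟩
      simp only [Nat.add_sub_cancel]
      rw [pow_add]; ring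
    have h1 := pow_gcd_eq_one.mpr ⟨hk, h60⟩
    have h2 : Nat.gcd (2 ^ k) 60 = 4 := by
      rw [hd]
      have : (60 : ℕ) = 4 * 15 := by norm_num
      rw [this, Nat.gcd_mul_left]
      have hc : Nat.Coprime (2 ^ (k - 2)) 15 := Nat.Coprime.pow_left _ (by norm_num)
      rw [hc.gcd_eq_one, mul_one]
    rwa [h2] at h1

/-- **Lifting the second case.** -/
theorem lift_II (hsc : SC x) {N : Subgroup G} (hN : N.Normal) (hA : Act3 N x)
    (iso : G ⧸ N ≃* alternatingGroup (Fin 5)) (hS : HasS ((x : G) : G ⧸ N)) : TypeII G := by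
  haveI := hN
  haveI : IsSimpleGroup (alternatingGroup (Fin 5)) := alternatingGroup.isSimpleGroup (by simp)
  haveI : IsSimpleGroup (G ⧸ N) := iso.isSimpleGroup
  obtain ⟨P, hP, hP2, hPi⟩ := hS
  obtain ⟨hab, hex⟩ := lift_exp hsc hA hP (not_three_dvd_of_isP hP2) hPi
  refine ⟨N, hN, ⟨⟨fun a b => Subtype.ext (hab a a.2 b b.2)⟩⟩, hex 2 ?_, ⟨iso⟩⟩
  intro p hp
  obtain ⟨k, hk⟩ := tw_of_mem hP2 hp
  have h1 : Tw (iso p) := ⟨k, by rw [← map_pow, hk, map_one]⟩
  have h2 := alt5_two h1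
  apply iso.injective
  rw [map_pow, h2, map_one]

end Cfsg.Agent.Lib.FT3.TopA
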