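import Cfsg.Agent.Lib.FT3.Phi
import Cfsg.Agent.Lib.FT3.Base
import Cfsg.Agent.Lib.OddLocal.CN
import Cfsg.Agent.Lib.SolvStruct.Fit

/-!
# 2-elements, the 2-part of a nilpotent subgroup, Sylow helpers
-/

set_option autoImplicit false
set_option linter.style.haveILetI false
set_option linter.unusedSectionVars false
set_option linter.unusedVariables false

namespace Cfsg.Agent.Lib.FT3.Two

open Cfsg.Agent.Lib.FT3.Fpf Cfsg.Agent.Lib.FT3.Base

variable {G : Type*} [Group G]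

/-- A 2-element. -/
def Tw (e : G) : Prop := ∃ k : ℕ, e ^ 2 ^ k = 1

lemma Tw.conj {e : G} (h : Tw e) (g : G) : Tw (g * e * g⁻¹) := by
  obtain ⟨k, hk⟩ := h
  refine ⟨k, ?_⟩
  rw [conj_pow, hk]; group

lemma Tw.one : Tw (1 : G) := ⟨0, by simp⟩

lemma Tw.of_invol {e : G} (h : e * e = 1) : Tw e := ⟨1, by
  rw [pow_one, sq, h]⟩

lemma Tw.pow {e : G} (h : Tw e) (n : ℕ) : Tw (e ^ n) := by
  obtain ⟨k, hk⟩ := h
  refine ⟨k, ?_⟩
  rw [← pow_mul, mul_comm, pow_mul, hk, one_pow]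

lemma Tw.zpow {e : G} (h : Tw e) (n : ℤ) : Tw (e ^ n) := by
  obtain ⟨k, hk⟩ := h
  refine ⟨k, ?_⟩
  rw [← zpow_natCast, ← zpow_mul, mul_comm, zpow_mul, zpow_natCast, hk, one_zpow]

lemma Tw.inv {e : G} (h : Tw e) : Tw e⁻¹ := by
  obtain ⟨k, hk⟩ := h
  exact ⟨k, by rw [inv_pow, hk, inv_one]⟩

lemma tw_of_mem {P : Subgroup G} (hP : IsPGroup 2 P) {e : G} (he : e ∈ P) : Tw e := by
  obtain ⟨k, hk⟩ := hP ⟨e, he⟩
  exact ⟨k, congrArg Subtype.val hk⟩

lemma isP_zpowers {e : G} (h : Tw e) : IsPGroup 2 (Subgroup.zpowers e) := by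
  rintro ⟨g, n, rfl⟩
  obtain ⟨k, hk⟩ := h.zpow n
  exact ⟨k, Subtype.ext hk⟩

lemma isP_iff_forall (P : Subgroup G) : IsPGroup 2 P ↔ ∀ e ∈ P, Tw e := by
  constructor
  · intro h e he; exact tw_of_mem h he
  · intro h g
    obtain ⟨k, hk⟩ := h g g.2
    exact ⟨k, Subtype.ext hk⟩

/-- The 2-part of a subgroup. -/
def Qof (R : Subgroup G) : Subgroup G := Subgroup.closure {g | g ∈ R ∧ Tw g}

lemma Qof_le (R : Subgroup G) : Qof R ≤ R := (Subgroup.closure_le _).mpr (fun _ h => h.1)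

lemma mem_Qof {R : Subgroup G} {g : G} (hg : g ∈ R) (ht : Tw g) : g ∈ Qof R :=
  Subgroup.subset_closure ⟨hg, ht⟩

lemma le_Qof {R P : Subgroup G} (hP : IsPGroup 2 P) (hPR : P ≤ R) : P ≤ Qof R :=
  fun _ hg => mem_Qof (hPR hg) (tw_of_mem hP hg)

lemma Qof_conj_mem {R : Subgroup G} {m : G} (hm : ∀ r ∈ R, m * r * m⁻¹ ∈ R) :
    ∀ s ∈ Qof R, m * s * m⁻¹ ∈ Qof R := by
  intro s hs
  induction hs using Subgroup.closure_induction with
  | mem g hg => exact mem_Qof (hm g hg.1) (hg.2.conj m)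
  | one => simp [one_mem]
  | mul a b _ _ ha hb =>
    have : m * (a * b) * m⁻¹ = (m * a * m⁻¹) * (m * b * m⁻¹) := by group
    rw [this]; exact mul_mem ha hb
  | inv a _ ha =>
    have : m * a⁻¹ * m⁻¹ = (m * a * m⁻¹)⁻¹ := by group
    rw [this]; exact inv_mem ha

variable [Finite G]

/-- In a nilpotent group the 2-elements form a normal 2-subgroup. -/
theorem isP_Qof {R : Subgroup G} (hR : Group.IsNilpotent R) : IsPGroup 2 (Qof R) := by
  classical
  haveI := hR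
  haveI : Fact (Nat.Prime 2) := ⟨Nat.prime_two⟩
  have htf := (Group.isNilpotent_of_finite_tfae (G := R)).out 0 3
  have hnorm := htf.mp hR
  let P : Sylow 2 R := default
  have hPn : (P : Subgroup R).Normal := hnorm 2 inferInstance P
  haveI hsub : Unique (Sylow 2 R) := Sylow.unique_of_normal P hPn
  have key : Qof R ≤ (P : Subgroup R).map R.subtype := by
    refine (Subgroup.closure_le _).mpr ?_
    rintro g ⟨hg, ht⟩
    have hq : IsPGroup 2 (Subgroup.zpowers (⟨g, hg⟩ : R)) := by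
      apply isP_zpowers
      obtain ⟨k, hk⟩ := ht
      exact ⟨k, Subtype.ext hk⟩
    obtain ⟨Q, hQ⟩ := hq.exists_le_sylow
    have : Q = P := Subsingleton.elim _ _
    rw [this] at hQ
    exact ⟨⟨g, hg⟩, hQ (Subgroup.mem_zpowers _), rfl⟩
  exact (P.isPGroup'.map R.subtype).to_le key

lemma Act3.isP_Qof {R : Subgroup G} {y : G} (h : Act3 R y) : IsPGroup 2 (Qof R) :=
  Two.isP_Qof h.nilpotent

/-- `y` acts on the 2-part. -/
lemma Act3.Qof_act {R : Subgroup G} {y : G} (h : Act3 R y) : Act3 (Qof R) y :=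
  h.mono (Qof_le R) (Qof_conj_mem h.inv)

/-- Conjugation maps. -/
lemma mem_map_conj {P : Subgroup G} {g x : G} :
    x ∈ P.map (MulAut.conj g).toMonoidHom ↔ g⁻¹ * x * g ∈ P := by
  constructor
  · rintro ⟨t, ht, rfl⟩
    have : g⁻¹ * (MulAut.conj g).toMonoidHom t * g = t := by
      simp [MulAut.conj_apply]; group
    rw [this]; exact ht
  · intro h
    refine ⟨_, h, ?_⟩
    simp [MulAut.conj_apply]; group

lemma card_map_conj (P : Subgroup G) (g : G) :
    Nat.card (P.map (MulAut.conj g).toMonoidHom) = Nat.card P :=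
  Subgroup.card_map_of_injective (MulAut.conj g).injective

/-- Conjugate of a Sylow subgroup of a subgroup `C` into a given Sylow subgroup: any
2-subgroup of `C` is conjugate by an element of `C` into a Sylow subgroup contained in `C`. -/
theorem exists_conj_into (C : Subgroup G) (T : Sylow 2 G) (hT : (T : Subgroup G) ≤ C)
    (S : Subgroup G) (hS : IsPGroup 2 S) (hSC : S ≤ C) :
    ∃ k ∈ C, ∀ s ∈ S, k * s * k⁻¹ ∈ (T : Subgroup G) := by
  haveI : Fact (Nat.Prime 2) := ⟨Nat.prime_two⟩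
  let T' : Sylow 2 C := T.subtype hT
  have hS' : IsPGroup 2 (S.subgroupOf C) := by
    rw [isP_iff_forall]
    intro e he
    have h1 : (e : G) ∈ S := he
    obtain ⟨k, hk⟩ := tw_of_mem hS h1
    exact ⟨k, Subtype.ext hk⟩
  obtain ⟨P, hP⟩ := hS'.exists_le_sylow
  obtain ⟨k, hk⟩ := MulAction.exists_smul_eq C P T'
  refine ⟨k, k.2, ?_⟩
  intro s hs
  have h1 : (⟨s, hSC hs⟩ : C) ∈ (P : Subgroup C) := hP hs
  have h2 : (⟨s, hSC hs⟩ : C) ∈ ((k⁻¹ • T' : Sylow 2 C) : Subgroup C) := by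
    have : P = k⁻¹ • T' := by rw [← hk, inv_smul_smul]
    rw [this] at h1
    exact h1
  rw [Sylow.smul_def, Sylow.pointwise_smul_def] at h2
  obtain ⟨t, ht, ht2⟩ := (Subgroup.mem_smul_pointwise_iff_exists _ _ _).mp h2
  have h3 : (t : G) ∈ (T : Subgroup G) := by
    have : t ∈ (T' : Subgroup C) := ht
    have h4 : t ∈ (T : Subgroup G).subgroupOf C := by
      rwa [Sylow.coe_subtype] at this
    exact h4
  have h5 : s = (k : G)⁻¹ * t * k := by
    have := congrArg Subtype.val ht2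
    simp only [MulAut.smul_def, MulAut.conj_apply, Subgroup.coe_mul, Subgroup.coe_inv] at this
    simpa using this.symm
  rw [h5]
  have : (k : G) * ((k : G)⁻¹ * t * k) * (k : G)⁻¹ = t := by group
  rw [this]
  exact h3

/-- the normalizer condition in a 2-group -/
theorem exists_normalizer_elt {S P : Subgroup G} (hP : IsPGroup 2 P) (hSP : S ≤ P) (hne : S ≠ P) :
    ∃ m ∈ P, m ∉ S ∧ ∀ s ∈ S, m * s * m⁻¹ ∈ S := by
  haveI : Fact (Nat.Prime 2) := ⟨Nat.prime_two⟩
  haveI : Group.IsNilpotent P := hP.isNilpotent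
  have hcond := Group.normalizerCondition_of_isNilpotent (G := P)
  have hlt : S.subgroupOf P < ⊤ := by
    rw [lt_top_iff_ne_top]
    intro h
    apply hne
    apply le_antisymm hSP
    intro g hg
    have : (⟨g, hg⟩ : P) ∈ S.subgroupOf P := by rw [h]; trivial
    exact this
  have h1 := hcond _ hlt
  obtain ⟨m, hm, hm2⟩ := SetLike.exists_of_lt h1
  refine ⟨m, m.2, hm2, ?_⟩
  intro s hs
  have h3 : (⟨s, hSP hs⟩ : P) ∈ S.subgroupOf P := hs
  have h4 := (Subgroup.mem_normalizer_iff.mp hm _).mp h3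
  exact h4

/-- Elements of a nilpotent subgroup `Y` commute with 2-elements of `Y` central in the 2-part. -/
theorem nilp_commute {Y S : Subgroup G} (hY : Group.IsNilpotent Y) (hSY : S ≤ Y)
    (h2 : ∀ e ∈ Y, Tw e → e ∈ S) {z : G} (hz : z ∈ S) (hzt : z * z = 1)
    (hzc : ∀ s ∈ S, s * z = z * s) {e : G} (he : e ∈ Y) : e * z = z * e := by
  haveI : Fact (Nat.Prime 2) := ⟨Nat.prime_two⟩
  obtain ⟨p, v, hp, hv, hsplit, ⟨k, hk⟩, hco⟩ := Cfsg.Agent.Lib.OddLocal.CN.exists_split 2 e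
  have hpY : p ∈ Y := (Subgroup.zpowers_le.mpr he) hp
  have hvY : v ∈ Y := (Subgroup.zpowers_le.mpr he) hv
  have h1 : p ∈ S := h2 p hpY ⟨k, hk⟩
  have hoz : orderOf z ∣ 2 := orderOf_dvd_of_pow_eq_one (by rw [sq, hzt])
  have hcoz : (orderOf v).Coprime (orderOf z) := Nat.Coprime.coprime_dvd_right hoz hco
  have h3 : Commute v z := Cfsg.Agent.Lib.OddLocal.CN.commute_of_coprime' hY hvY (hSY hz) hcoz
  rw [hsplit]
  calc p * v * z = p * (v * z) := by group
    _ = p * (z * v) := by rw [h3.eq]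
    _ = (p * z) * v := by group
    _ = (z * p) * v := by rw [hzc p h1]
    _ = z * (p * v) := by group

end Cfsg.Agent.Lib.FT3.Two
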