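import Cfsg.Agent.Lib.FT3.St

/-!
# Consequences of the conclusion for a subgroup `L`
-/

set_option autoImplicit false
set_option linter.style.haveILetI false
set_option linter.unusedSectionVars false
set_option linter.unusedVariables false

namespace Cfsg.Agent.Lib.FT3.TypeL

open Cfsg.Agent.Lib.FT3.Fpf Cfsg.Agent.Lib.FT3.Base Cfsg.Agent.Lib.FT3.Two
  Cfsg.Agent.Lib.FT3.Conc

universe u

/-- Type I: a Sylow 2-subgroup of order `≡ 1 (3)` is normal. -/
theorem typeI_normal {Λ : Type*} [Group Λ] [Finite Λ] (h : TypeI Λ) {z : Λ} (hz : SC z)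
    (T : Subgroup Λ) (hT2 : IsPGroup 2 T)
    (hTm : ∀ P : Subgroup Λ, IsPGroup 2 P → T ≤ P → P = T) (hmod : Nat.card T % 3 = 1) :
    T.Normal := by
  haveI : Fact (Nat.Prime 2) := ⟨Nat.prime_two⟩
  obtain ⟨N, hN, hnil, h3, hq⟩ := h
  haveI := hN
  have hQ2 : IsPGroup 2 (Qof N) := isP_Qof hnil
  have hQn : (Qof N).Normal := ⟨fun n hn g => Qof_conj_mem (fun r hr => hN.conj_mem r hr g) n hn⟩
  haveI := hQn
  have hQT : Qof N ≤ T := by
    have h1 := hTm (T ⊔ Qof N) (IsPGroup.to_sup_of_normal_right hT2 hQ2) le_sup_left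
    rw [← h1]; exact le_sup_right
  have hAN : Act3 N z := hz.act3 (by
    intro h
    have := Nat.Coprime.eq_one_of_dvd h3.symm h
    omega) (fun n hn => hN.conj_mem n hn z)
  have hQmod : Nat.card (Qof N) % 3 = 1 := (Act3.Qof_act hAN).card_mod
  let φ : T →* Λ ⧸ N := (QuotientGroup.mk' N).comp T.subtype
  have hker : ∀ t : T, φ t = 1 ↔ (t : Λ) ∈ Qof N := by
    intro t
    constructor
    · intro h
      have h1 : (t : Λ) ∈ N := (QuotientGroup.eq_one_iff _).mp h
      exact mem_Qof h1 (tw_of_mem hT2 t.2)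
    · intro h
      exact (QuotientGroup.eq_one_iff _).mpr (Qof_le N h)
  have hcardker : Nat.card φ.ker = Nat.card (Qof N) := by
    apply Nat.card_congr
    refine ⟨fun t => ⟨t.1.1, (hker t.1).mp t.2⟩, fun q => ⟨⟨q.1, hQT q.2⟩, (hker _).mpr q.2⟩, ?_, ?_⟩
    · intro t; rfl
    · intro q; rfl
  have hprod : Nat.card T = Nat.card (Qof N) * Nat.card φ.range := by
    rw [← Subgroup.index_ker, ← hcardker]
    exact (Subgroup.card_mul_index φ.ker).symm
  have hrd : Nat.card φ.range ∣ Nat.card (Λ ⧸ N) := Subgroup.card_subgroup_dvd_card _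
  have hr2 : ∃ k, Nat.card φ.range = 2 ^ k := by
    have : Nat.card φ.range ∣ Nat.card T := ⟨_, by rw [hprod, mul_comm]⟩
    obtain ⟨k, hk⟩ := IsPGroup.iff_card.mp hT2
    rw [hk] at this
    obtain ⟨j, _, hj⟩ := (Nat.dvd_prime_pow Nat.prime_two).mp this
    exact ⟨j, hj⟩
  have hQcard : Nat.card (Λ ⧸ N) = 3 ∨ Nat.card (Λ ⧸ N) = 6 := by
    rcases hq with h | ⟨⟨iso⟩⟩
    · exact Or.inl h
    · right
      rw [Nat.card_congr iso.toEquiv, Nat.card_eq_fintype_card, Fintype.card_perm]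
      rfl
  obtain ⟨k, hk⟩ := hr2
  have hj12 : Nat.card φ.range = 1 ∨ Nat.card φ.range = 2 := by
    rcases hQcard with h | h
    · rw [h] at hrd
      rw [hk] at hrd ⊢
      have hk0 : k = 0 := by
        by_contra hne
        have : 2 ∣ 2 ^ k := dvd_pow_self 2 hne
        have := this.trans hrd
        omega
      subst hk0
      left; rfl
    · rw [h] at hrd
      rw [hk] at hrd ⊢
      have hk1 : k ≤ 1 := by
        by_contra hne
        have : 2 ^ 2 ∣ 2 ^ k := pow_dvd_pow 2 (by omega)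
        have := this.trans hrd
        omega
      interval_cases k
      · left; rfl
      · right; rfl
  have hj1 : Nat.card φ.range = 1 := by
    rcases hj12 with h | h
    · exact h
    · exfalso
      rw [h] at hprod
      rw [hprod] at hmod
      omega
  have hEq : Qof N = T := by
    apply Subgroup.eq_of_le_of_card_ge hQT
    rw [hprod, hj1, mul_one]
  rw [← hEq]
  exact hQn

/-- Type II: a normal 2-subgroup `H` with `y ∉ H` lies in the elementary abelian kernel. -/
theorem typeII_le {Λ : Type*} [Group Λ] [Finite Λ] {N : Subgroup Λ} (hN : N.Normal)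
    (hexp : ∀ n ∈ N, n ^ 2 = 1) (iso : Λ ⧸ N ≃* alternatingGroup (Fin 5)) {z : Λ} (hz : SC z)
    (H : Subgroup Λ) (hHn : H.Normal) (hH2 : IsPGroup 2 H) : H ≤ N := by
  haveI := hN
  let ψ : Λ →* alternatingGroup (Fin 5) := iso.toMonoidHom.comp (QuotientGroup.mk' N)
  have hψ : ∀ m, ψ m = 1 ↔ m ∈ N := by
    intro m
    show iso _ = 1 ↔ _
    rw [map_eq_one_iff iso iso.injective]
    exact QuotientGroup.eq_one_iff m
  have hs : Function.Surjective ψ := iso.surjective.comp (QuotientGroup.mk'_surjective N)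
  have hnorm : (H.map ψ).Normal := hHn.map ψ hs
  haveI : IsSimpleGroup (alternatingGroup (Fin 5)) := alternatingGroup.isSimpleGroup (by simp)
  rcases hnorm.eq_bot_or_eq_top with h | h
  · intro g hg
    rw [← hψ]
    have : ψ g ∈ H.map ψ := ⟨g, hg, rfl⟩
    rw [h] at this
    exact this
  · exfalso
    have hzN : z ∉ N := by
      intro hm
      have h1 := hexp z hm
      have h3 := hz.mul3
      rw [← sq, h1, one_mul] at h3
      exact hz.ne h3
    have h1 : ψ z ∈ H.map ψ := by rw [h]; trivial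
    obtain ⟨w, hw, hwz⟩ := h1
    obtain ⟨k, hk⟩ := tw_of_mem hH2 hw
    have h2 : (ψ z) ^ 2 ^ k = 1 := by rw [← hwz, ← map_pow, hk, map_one]
    have h3 : (ψ z) ^ 3 = 1 := by rw [← map_pow, hz.cube, map_one]
    have hco : Nat.Coprime (2 ^ k) 3 := Nat.Coprime.pow_left k (by norm_num)
    have h4 : ψ z = 1 := by
      have := pow_gcd_eq_one.mpr ⟨h2, h3⟩
      rwa [hco.gcd_eq_one, pow_one] at this
    exact hzN ((hψ z).mp h4)

/-- numerics -/
lemma m_bound {m F d : ℕ} (hm : 16 ≤ m) (h : (m - 1) * F + m ≤ m * d) : 15 * F + 16 ≤ 16 * d := by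
  obtain ⟨M, rfl⟩ : ∃ M, m = M + 1 := ⟨m - 1, by omega⟩
  simp only [Nat.add_sub_cancel] at h
  have hM : 15 ≤ M := by omega
  by_contra hc
  push Not at hc
  have h1 : 16 * d ≤ 15 * F + 15 := by omega
  have h2 : (M + 1) * (16 * d) ≤ (M + 1) * (15 * F + 15) := Nat.mul_le_mul_left _ h1
  have h3 : 16 * (M * F + (M + 1)) ≤ 16 * ((M + 1) * d) := Nat.mul_le_mul_left _ h
  nlinarith [Nat.mul_le_mul_right F hM]

lemma two_pow_mod_ge {m k : ℕ} (hk : m = 2 ^ k) (hm : m % 3 = 1) (h5 : 5 ≤ m) : 16 ≤ m := by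
  subst hk
  have hk3 : 3 ≤ k := by
    by_contra hc
    have : k ≤ 2 := by omega
    interval_cases k <;> omega
  have hk8 : k ≠ 3 := by
    rintro rfl
    omega
  have : 2 ^ 4 ≤ 2 ^ k := Nat.pow_le_pow_right (by norm_num) (by omega)
  omega

end Cfsg.Agent.Lib.FT3.TypeL
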